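import Cfsg.Agent.Lib.Spor.JThreeOut.ChainZ
import Cfsg.Agent.Lib.Spor.J3.ActJ.Data

/-!
The orbits of a chain.
-/

set_option autoImplicit false
set_option maxRecDepth 100000
set_option maxHeartbeats 0

namespace CfsgLib.Spor.JThreeOut

open CfsgLib.Spor.TC CfsgLib.Spor.ActCert

theorem chainZ_ok : chainW CfsgLib.Spor.J3.ActJ.act [] levZ = true ∧ chainProd levZ = 50232960 := by
  decide +kernel

end CfsgLib.Spor.JThreeOut
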