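import Cfsg.Agent.Lib.Spor.JThreeOut.Data
import Cfsg.Agent.Lib.Spor.JThreeOut.ChainZ
import Cfsg.Agent.Lib.Spor.J3.ActJ.Data
import Cfsg.Agent.Lib.Spor.J3.Rels

/-!
The checks on the pair and the candidates.
-/

set_option autoImplicit false
set_option maxRecDepth 100000
set_option maxHeartbeats 0

namespace CfsgLib.Spor.JThreeOut

open CfsgLib.Spor.TC CfsgLib.Spor.ActCert

theorem elts_ok : dat.eltsOK CfsgLib.Spor.J3.ActJ.act CfsgLib.Spor.J3.relsJ levZ = true := by decide +kernel

theorem cands_ok : dat.candsOK CfsgLib.Spor.J3.ActJ.act levZ allowed = true := by decide +kernel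

end CfsgLib.Spor.JThreeOut
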