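import Cfsg.Agent.Lib.Spor.ActCert.Search

/-!
Branches of a search.
-/

set_option autoImplicit false
set_option maxRecDepth 100000
set_option maxHeartbeats 0

namespace CfsgLib.Spor.JThreeOut

open CfsgLib.Spor.TC CfsgLib.Spor.ActCert

/-- Branches. -/
def kidsXPart1 : List Branch := [
  .sub [] [.sub [] [.done 0]],
  .sub [3] [.out 8],
  .sub [4] [.sub [5, 3, 5, 3, 4, 8, 5, 5, 3, 4, 8, 5, 5, 3, 5, 3, 4, 8, 5, 5, 3, 4, 8, 5, 5, 3, 5, 3] [.out 3844]],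
  .sub [5] [.out 229],
  .sub [8] [.sub [5, 3, 5, 3, 4, 8, 5, 5, 3, 4, 8, 5, 5, 3, 4, 8, 5, 5, 3, 5, 3, 4, 8, 5, 5, 3, 5, 3, 4, 8, 5, 5, 3, 4, 8, 5, 5, 3, 4, 8, 5] [.out 1946]],
  .sub [11] [.out 244],
  .sub [12] [.out 1432],
  .sub [1, 3] [.sub [5, 3, 4, 8, 5, 5, 3, 4, 8, 5, 5, 3, 4, 8, 5, 5, 3, 5, 3, 4, 8, 5, 5, 3, 5, 3, 4, 8, 5, 5, 3, 4, 8, 5, 5, 3, 4, 8, 5] [.out 1946]],
  .sub [6, 3] [.out 3056],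
  .sub [11, 3] [.out 378],
  .sub [0, 4] [.sub [] [.done 1]],
  .sub [1, 4] [.out 3759],
  .sub [2, 4] [.out 4025],
  .sub [3, 4] [.out 1432],
  .sub [4, 4] [.sub [5, 3, 5, 3, 4, 8, 5, 5, 3, 5, 3, 5, 3, 4, 8, 5, 5, 3, 4, 8, 5, 5, 3, 5, 3, 4, 8, 5, 5, 3, 4, 8, 5, 5, 3, 4, 8, 5] [.out 5854]],
  .sub [5, 4] [.out 5675],
  .sub [6, 4] [.out 244],
  .sub [7, 4] [.out 1124],
  .sub [8, 4] [.out 1718],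
  .sub [9, 4] [.out 3532],
  .sub [10, 4] [.out 3497],
  .sub [11, 4] [.out 1566],
  .sub [12, 4] [.out 3890],
  .sub [13, 4] [.out 123],
  .sub [14, 4] [.out 6015],
  .sub [16, 4] [.out 2547],
  .sub [17, 4] [.out 2861],
  .sub [18, 4] [.out 2932],
  .sub [19, 4] [.out 578],
  .sub [20, 4] [.out 2891],
  .sub [21, 4] [.out 4758],
  .sub [4, 5] [.sub [5, 3, 4, 8, 5, 5, 3, 4, 8, 5, 5, 3, 5, 3, 5, 3] [.out 4811]],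
  .sub [6, 5] [.out 243],
  .sub [8, 5] [.sub [4, 8, 5, 5, 3, 5, 3, 4, 8, 5, 5, 3, 4, 8, 5, 5, 3, 5, 3, 4, 8, 5, 5, 3, 4, 8, 5, 5, 3, 5, 3] [.done 16]],
  .sub [9, 5] [.sub [5, 3, 5, 3, 4, 8, 5, 5, 3, 4, 8, 5, 5, 3, 5, 3, 4, 8, 5, 5, 3, 5, 3, 5, 3] [.out 4465]],
  .sub [10, 5] [.sub [4, 8, 5, 5, 3, 4, 8, 5, 5, 3, 5, 3, 4, 8, 5, 5, 3, 4, 8, 5, 5, 3, 5, 3, 5, 3, 4, 8, 5, 5, 3, 5, 3, 5, 3] [.out 3814]],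
  .sub [11, 5] [.out 245],
  .sub [12, 5] [.out 4373],
  .sub [13, 5] [.out 5575],
  .sub [0, 8] [.out 2710],
  .sub [1, 8] [.out 377],
  .sub [2, 8] [.out 3251],
  .sub [6, 8] [.out 3556],
  .sub [7, 8] [.out 1218],
  .sub [9, 8] [.sub [4, 8, 5, 5, 3, 5, 3, 5, 3, 4, 8, 5, 5, 3, 4, 8, 5, 5, 3, 5, 3, 4, 8, 5, 5, 3, 5, 3, 5, 3, 4, 8, 5, 5, 3, 4, 8, 5] [.out 4674]],
  .sub [10, 8] [.out 2958],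
  .sub [13, 8] [.out 454],
  .sub [14, 8] [.out 4719],
  .sub [16, 8] [.out 230],
  .sub [17, 8] [.out 2107],
  .sub [18, 8] [.out 5507],
  .sub [19, 8] [.out 348],
  .sub [20, 8] [.out 1155],
  .sub [21, 8] [.out 5691],
  .sub [0, 11] [.sub [5, 3, 4, 8, 5, 5, 3, 4, 8, 5, 5, 3, 5, 3, 5, 3, 4, 8, 5, 5, 3, 5, 3, 4, 8, 5, 5, 3, 4, 8, 5, 5, 3, 4, 8, 5] [.out 3744]],
  .sub [1, 11] [.out 745],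
  .sub [2, 11] [.out 2475],
  .sub [3, 11] [.out 586],
  .sub [4, 11] [.out 2790],
  .sub [5, 11] [.out 1982],
  .sub [6, 11] [.out 1524],
  .sub [7, 11] [.out 2050],
  .sub [9, 11] [.sub [5, 3, 4, 8, 5, 5, 3, 5, 3, 5, 3, 4, 8, 5, 5, 3, 4, 8, 5, 5, 3, 5, 3, 5, 3] [.out 4841]],
  .sub [10, 11] [.out 2451],
  .sub [12, 11] [.out 5014],
  .sub [13, 11] [.out 1637],
  .sub [16, 11] [.out 70],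
  .sub [17, 11] [.out 2305],
  .sub [18, 11] [.out 817],
  .sub [19, 11] [.out 3167],
  .sub [20, 11] [.out 2374],
  .sub [21, 11] [.out 3537],
  .sub [0, 12] [.sub [4, 8, 5, 5, 3, 4, 8, 5, 5, 3, 4, 8, 5, 5, 3, 5, 3, 4, 8, 5, 5, 3, 5, 3, 4, 8, 5, 5, 3, 4, 8, 5, 5, 3, 4, 8, 5] [.out 5439]],
  .sub [2, 12] [.out 392],
  .sub [4, 12] [.sub [5, 3, 5, 3, 5, 3, 4, 8, 5, 5, 3, 4, 8, 5, 5, 3, 4, 8, 5, 5, 3, 5, 3, 4, 8, 5, 5, 3] [.out 471]],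
  .sub [5, 12] [.out 2969],
  .sub [7, 12] [.sub [5, 3, 5, 3, 4, 8, 5, 5, 3, 4, 8, 5, 5, 3, 4, 8, 5, 5, 3, 5, 3, 5, 3, 4, 8, 5, 5, 3] [.out 4230]],
  .sub [8, 12] [.sub [4, 8, 5, 5, 3, 5, 3, 4, 8, 5, 5, 3, 4, 8, 5, 5, 3, 5, 3, 5, 3, 4, 8, 5, 5, 3, 5, 3, 4, 8, 5, 5, 3, 4, 8, 5, 5, 3, 4, 8, 5] [.out 4674]],
  .sub [10, 12] [.out 5827],
  .sub [11, 12] [.sub [4, 8, 5, 5, 3, 4, 8, 5, 5, 3, 5, 3, 5, 3, 4, 8, 5] [.done 15]],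
  .sub [12, 12] [.out 4058],
  .sub [13, 12] [.out 5034],
  .sub [14, 12] [.out 2854],
  .sub [17, 12] [.out 1549],
  .sub [18, 12] [.out 2172],
  .sub [19, 12] [.out 5133],
  .sub [20, 12] [.sub [5, 3, 4, 8, 5, 5, 3, 5, 3, 4, 8, 5, 5, 3, 4, 8, 5, 5, 3, 5, 3, 4, 8, 5, 5, 3, 5, 3, 4, 8, 5, 5, 3, 4, 8, 5, 5, 3, 4, 8, 5, 5, 3, 5, 3, 4, 8, 5] [.out 1806]],
  .sub [21, 12] [.out 4897],
  .sub [4, 1, 3] [.out 4293],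
  .sub [5, 1, 3] [.out 304],
  .sub [9, 1, 3] [.out 861],
  .sub [17, 1, 3] [.sub [5, 3, 5, 3, 5, 3, 4, 8, 5, 5, 3, 4, 8, 5, 5, 3, 5, 3, 5, 3, 4, 8, 5, 5, 3, 5, 3, 4, 8, 5, 5, 3] [.done 8]],
  .sub [19, 1, 3] [.out 3933],
  .sub [2, 6, 3] [.sub [5, 3, 5, 3, 4, 8, 5, 5, 3, 4, 8, 5, 5, 3, 5, 3, 4, 8, 5, 5, 3, 4, 8, 5, 5, 3, 4, 8, 5] [.out 3947]],
  .sub [3, 6, 3] [.out 244],
  .sub [4, 6, 3] [.out 964],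
  .sub [5, 6, 3] [.out 1454],
  .sub [7, 6, 3] [.sub [4, 8, 5, 5, 3, 5, 3, 5, 3, 4, 8, 5, 5, 3, 5, 3, 4, 8, 5, 5, 3, 4, 8, 5, 5, 3, 4, 8, 5] [.out 627]],
  .sub [8, 6, 3] [.out 4428],
  .sub [9, 6, 3] [.out 4041],
  .sub [10, 6, 3] [.out 2983],
  .sub [11, 6, 3] [.sub [4, 8, 5, 5, 3, 4, 8, 5, 5, 3, 5, 3, 5, 3] [.out 1482]],
  .sub [12, 6, 3] [.out 3724],
  .sub [13, 6, 3] [.sub [5, 3, 4, 8, 5, 5, 3, 5, 3, 4, 8, 5, 5, 3, 4, 8, 5, 5, 3, 5, 3, 4, 8, 5, 5, 3, 4, 8, 5, 5, 3, 5, 3, 4, 8, 5, 5, 3, 5, 3, 4, 8, 5] [.done 9]],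
  .sub [16, 6, 3] [.out 1877],
  .sub [17, 6, 3] [.out 1609],
  .sub [18, 6, 3] [.out 2941],
  .sub [19, 6, 3] [.out 6147],
  .sub [20, 6, 3] [.out 5678],
  .sub [5, 11, 3] [.out 3020],
  .sub [9, 11, 3] [.out 1157],
  .sub [10, 11, 3] [.out 2138],
  .sub [11, 11, 3] [.sub [4, 8, 5, 5, 3, 4, 8, 5, 5, 3, 4, 8, 5, 5, 3, 5, 3, 4, 8, 5, 5, 3, 5, 3, 4, 8, 5, 5, 3, 4, 8, 5, 5, 3, 4, 8, 5] [.out 5439]],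
  .sub [12, 11, 3] [.out 4164],
  .sub [17, 11, 3] [.out 1274],
  .sub [18, 11, 3] [.out 1486],
  .sub [1, 0, 4] [.out 4571],
  .sub [2, 0, 4] [.out 5095],
  .sub [3, 0, 4] [.sub [4, 8, 5, 5, 3, 5, 3, 5, 3, 4, 8, 5, 5, 3, 4, 8, 5, 5, 3, 5, 3, 4, 8, 5, 5, 3, 4, 8, 5, 5, 3, 5, 3, 5, 3] [.out 810]],
  .sub [4, 0, 4] [.out 5032],
  .sub [5, 0, 4] [.out 4224],
  .sub [7, 0, 4] [.out 2652],
  .sub [8, 0, 4] [.out 990],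
  .sub [9, 0, 4] [.out 2091],
  .sub [11, 0, 4] [.out 599],
  .sub [12, 0, 4] [.sub [4, 8, 5, 5, 3, 4, 8, 5, 5, 3, 5, 3, 4, 8, 5, 5, 3, 5, 3, 5, 3, 4, 8, 5] [.out 5731]],
  .sub [16, 0, 4] [.out 1749],
  .sub [17, 0, 4] [.out 1652],
  .sub [18, 0, 4] [.out 1101],
  .sub [19, 0, 4] [.out 4154],
  .sub [20, 0, 4] [.out 3568],
  .sub [21, 0, 4] [.out 2641],
  .sub [2, 1, 4] [.out 5364],
  .sub [4, 1, 4] [.sub [4, 8, 5, 5, 3, 5, 3, 4, 8, 5, 5, 3, 4, 8, 5, 5, 3, 5, 3, 4, 8, 5, 5, 3, 4, 8, 5, 5, 3, 5, 3, 5, 3] [.out 2049]],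
  .sub [6, 1, 4] [.out 97],
  .sub [8, 1, 4] [.out 70],
  .sub [10, 1, 4] [.out 3096],
  .sub [11, 1, 4] [.out 4754],
  .sub [12, 1, 4] [.out 4519],
  .sub [13, 1, 4] [.out 5656],
  .sub [14, 1, 4] [.out 5760],
  .sub [17, 1, 4] [.out 1736],
  .sub [18, 1, 4] [.out 4277],
  .sub [20, 1, 4] [.out 185],
  .sub [21, 1, 4] [.out 733],
  .sub [3, 2, 4] [.sub [4, 8, 5, 5, 3, 4, 8, 5, 5, 3, 5, 3, 4, 8, 5, 5, 3, 4, 8, 5, 5, 3, 4, 8, 5, 5, 3, 5, 3, 4, 8, 5, 5, 3, 4, 8, 5, 5, 3, 4, 8, 5] [.out 4872]],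
  .sub [4, 2, 4] [.out 3635],
  .sub [5, 2, 4] [.out 2483],
  .sub [6, 2, 4] [.out 3350],
  .sub [7, 2, 4] [.out 4372],
  .sub [8, 2, 4] [.sub [4, 8, 5, 5, 3, 4, 8, 5, 5, 3, 4, 8, 5, 5, 3, 5, 3, 5, 3, 4, 8, 5, 5, 3, 5, 3, 4, 8, 5, 5, 3, 4, 8, 5, 5, 3] [.out 3834]],
  .sub [9, 2, 4] [.out 5503],
  .sub [11, 2, 4] [.out 5249],
  .sub [12, 2, 4] [.out 2093],
  .sub [13, 2, 4] [.sub [5, 3, 5, 3, 4, 8, 5, 5, 3, 4, 8, 5, 5, 3, 5, 3, 5, 3, 4, 8, 5, 5, 3, 5, 3, 4, 8, 5, 5, 3, 4, 8, 5, 5, 3] [.out 4830]],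
  .sub [16, 2, 4] [.out 3658],
  .sub [17, 2, 4] [.out 2828],
  .sub [18, 2, 4] [.out 2586],
  .sub [19, 2, 4] [.out 679],
  .sub [20, 2, 4] [.sub [5, 3, 4, 8, 5, 5, 3, 4, 8, 5, 5, 3] [.out 5723]],
  .sub [21, 2, 4] [.out 3340],
  .sub [1, 3, 4] [.out 4241],
  .sub [6, 3, 4] [.out 1930],
  .sub [7, 3, 4] [.out 4255],
  .sub [10, 3, 4] [.sub [5, 3, 5, 3, 4, 8, 5, 5, 3, 5, 3, 5, 3, 4, 8, 5, 5, 3, 4, 8, 5, 5, 3, 4, 8, 5, 5, 3, 5, 3, 4, 8, 5] [.out 1338]],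
  .sub [13, 3, 4] [.out 784],
  .sub [14, 3, 4] [.sub [4, 8, 5, 5, 3, 4, 8, 5, 5, 3, 5, 3, 4, 8, 5, 5, 3, 4, 8, 5, 5, 3, 5, 3, 4, 8, 5, 5, 3, 4, 8, 5, 5, 3, 4, 8, 5, 5, 3, 5, 3] [.out 4208]],
  .sub [16, 3, 4] [.out 2854],
  .sub [17, 3, 4] [.out 4306],
  .sub [18, 3, 4] [.out 1444],
  .sub [19, 3, 4] [.sub [4, 8, 5, 5, 3, 4, 8, 5, 5, 3, 5, 3, 5, 3, 4, 8, 5, 5, 3, 5, 3, 4, 8, 5, 5, 3, 4, 8, 5, 5, 3, 5, 3, 5, 3] [.out 3834]],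
  .sub [21, 3, 4] [.out 1815],
  .sub [1, 4, 4] [.out 3998],
  .sub [2, 4, 4] [.out 1758],
  .sub [3, 4, 4] [.out 3890],
  .sub [4, 4, 4] [.out 4123],
  .sub [5, 4, 4] [.out 688],
  .sub [6, 4, 4] [.out 1469],
  .sub [7, 4, 4] [.out 4351],
  .sub [8, 4, 4] [.out 5498],
  .sub [9, 4, 4] [.out 2614],
  .sub [10, 4, 4] [.out 5536],
  .sub [11, 4, 4] [.out 1852],
  .sub [12, 4, 4] [.out 1463],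
  .sub [13, 4, 4] [.out 1328],
  .sub [14, 4, 4] [.out 1451],
  .sub [16, 4, 4] [.out 5268],
  .sub [17, 4, 4] [.out 4318],
  .sub [18, 4, 4] [.out 93],
  .sub [19, 4, 4] [.out 1865],
  .sub [20, 4, 4] [.out 4190],
  .sub [1, 5, 4] [.out 389]]

/-- Branches. -/
def kidsXPart2 : List Branch := [
  .sub [2, 5, 4] [.sub [5, 3, 5, 3, 4, 8, 5, 5, 3, 5, 3, 5, 3, 4, 8, 5, 5, 3, 4, 8, 5, 5, 3] [.out 5298]],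
  .sub [3, 5, 4] [.out 2118],
  .sub [4, 5, 4] [.out 2889],
  .sub [5, 5, 4] [.out 4368],
  .sub [6, 5, 4] [.out 4260],
  .sub [7, 5, 4] [.sub [4, 8, 5, 5, 3, 5, 3, 4, 8, 5, 5, 3, 5, 3, 5, 3, 4, 8, 5, 5, 3, 5, 3, 4, 8, 5, 5, 3, 4, 8, 5, 5, 3] [.out 6061]],
  .sub [8, 5, 4] [.out 3759],
  .sub [9, 5, 4] [.out 2888],
  .sub [10, 5, 4] [.sub [5, 3, 4, 8, 5, 5, 3, 4, 8, 5, 5, 3, 5, 3, 4, 8, 5, 5, 3, 5, 3, 5, 3, 4, 8, 5, 5, 3, 4, 8, 5] [.out 3597]],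
  .sub [11, 5, 4] [.out 836],
  .sub [12, 5, 4] [.out 1870],
  .sub [13, 5, 4] [.out 4387],
  .sub [14, 5, 4] [.out 334],
  .sub [17, 5, 4] [.out 2951],
  .sub [18, 5, 4] [.out 1491],
  .sub [20, 5, 4] [.out 4981],
  .sub [21, 5, 4] [.out 3520],
  .sub [4, 6, 4] [.out 2785],
  .sub [7, 6, 4] [.out 988],
  .sub [8, 6, 4] [.out 1536],
  .sub [16, 6, 4] [.out 359],
  .sub [18, 6, 4] [.out 3531],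
  .sub [21, 6, 4] [.out 322],
  .sub [3, 7, 4] [.out 631],
  .sub [4, 7, 4] [.sub [5, 3, 5, 3, 4, 8, 5, 5, 3, 4, 8, 5, 5, 3, 5, 3, 4, 8, 5, 5, 3, 4, 8, 5, 5, 3, 5, 3] [.out 70]],
  .sub [6, 7, 4] [.out 5423],
  .sub [8, 7, 4] [.out 5196],
  .sub [9, 7, 4] [.out 4987],
  .sub [10, 7, 4] [.out 3553],
  .sub [11, 7, 4] [.out 1091],
  .sub [12, 7, 4] [.out 1218],
  .sub [13, 7, 4] [.out 2643],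
  .sub [14, 7, 4] [.out 3038],
  .sub [16, 7, 4] [.out 5114],
  .sub [17, 7, 4] [.out 4701],
  .sub [18, 7, 4] [.sub [4, 8, 5, 5, 3, 5, 3, 4, 8, 5, 5, 3, 5, 3, 5, 3, 4, 8, 5, 5, 3, 4, 8, 5, 5, 3, 5, 3, 5, 3, 4, 8, 5, 5, 3, 5, 3, 4, 8, 5, 5, 3] [.out 3551]],
  .sub [21, 7, 4] [.out 4126],
  .sub [0, 8, 4] [.sub [4, 8, 5, 5, 3, 5, 3, 4, 8, 5, 5, 3, 4, 8, 5, 5, 3, 5, 3, 4, 8, 5, 5, 3] [.out 4327]],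
  .sub [1, 8, 4] [.out 5824],
  .sub [2, 8, 4] [.sub [4, 8, 5, 5, 3, 4, 8, 5, 5, 3, 5, 3, 4, 8, 5, 5, 3, 4, 8, 5, 5, 3, 4, 8, 5, 5, 3, 5, 3, 4, 8, 5] [.out 4915]],
  .sub [4, 8, 4] [.out 739],
  .sub [6, 8, 4] [.out 704],
  .sub [9, 8, 4] [.out 3144],
  .sub [11, 8, 4] [.out 542],
  .sub [12, 8, 4] [.out 3334],
  .sub [13, 8, 4] [.out 6096],
  .sub [14, 8, 4] [.out 246],
  .sub [17, 8, 4] [.out 319],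
  .sub [18, 8, 4] [.out 5965],
  .sub [19, 8, 4] [.sub [5, 3, 5, 3, 4, 8, 5, 5, 3, 4, 8, 5, 5, 3, 5, 3, 4, 8, 5, 5, 3, 5, 3, 5, 3, 4, 8, 5, 5, 3] [.out 2584]],
  .sub [21, 8, 4] [.out 1547],
  .sub [0, 9, 4] [.out 5284],
  .sub [1, 9, 4] [.out 535],
  .sub [4, 9, 4] [.out 5939],
  .sub [6, 9, 4] [.out 448],
  .sub [8, 9, 4] [.sub [4, 8, 5, 5, 3, 5, 3, 4, 8, 5, 5, 3, 4, 8, 5, 5, 3, 5, 3, 5, 3, 4, 8, 5, 5, 3, 5, 3, 4, 8, 5, 5, 3] [.out 2653]],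
  .sub [11, 9, 4] [.sub [5, 3, 4, 8, 5, 5, 3, 4, 8, 5, 5, 3, 5, 3, 4, 8, 5, 5, 3, 4, 8, 5, 5, 3, 5, 3, 5, 3, 4, 8, 5, 5, 3] [.out 3247]],
  .sub [16, 9, 4] [.out 3858],
  .sub [17, 9, 4] [.out 3738],
  .sub [19, 9, 4] [.out 6143],
  .sub [0, 10, 4] [.out 3151],
  .sub [1, 10, 4] [.out 4690],
  .sub [2, 10, 4] [.sub [5, 3, 5, 3, 4, 8, 5, 5, 3, 5, 3, 4, 8, 5, 5, 3, 4, 8, 5, 5, 3, 5, 3, 5, 3] [.out 1038]],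
  .sub [3, 10, 4] [.sub [5, 3, 4, 8, 5, 5, 3, 5, 3, 4, 8, 5, 5, 3, 5, 3, 5, 3, 4, 8, 5, 5, 3, 4, 8, 5, 5, 3, 5, 3] [.out 670]],
  .sub [4, 10, 4] [.out 333],
  .sub [5, 10, 4] [.out 2075],
  .sub [6, 10, 4] [.out 2204],
  .sub [7, 10, 4] [.out 1212],
  .sub [8, 10, 4] [.out 5228],
  .sub [10, 10, 4] [.out 2203],
  .sub [11, 10, 4] [.out 4566],
  .sub [12, 10, 4] [.sub [5, 3, 4, 8, 5, 5, 3, 5, 3, 5, 3, 4, 8, 5, 5, 3, 4, 8, 5, 5, 3, 5, 3, 5, 3, 4, 8, 5, 5, 3, 4, 8, 5] [.bad [3, 3, 2, 0, 3, 3, 2, 0, 3, 2, 0, 8, 3, 1, 3, 0, 2, 1, 0, 3, 3, 2, 0, 3, 3, 2, 0, 3, 3, 2, 0, 3, 2, 0, 8, 3, 1, 3, 0, 2, 1, 0, 3, 3, 2, 0, 3, 2, 0, 8, 3, 1, 3, 0, 2, 1, 0, 5, 3, 4, 8, 5, 5, 3, 5, 3, 4, 8, 5, 5, 3, 5, 3, 5, 3, 4, 8, 5, 5, 3, 5, 3] 1]],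
  .sub [13, 10, 4] [.out 3579],
  .sub [14, 10, 4] [.out 1876],
  .sub [17, 10, 4] [.out 4988],
  .sub [19, 10, 4] [.out 6059],
  .sub [21, 10, 4] [.sub [4, 8, 5, 5, 3, 4, 8, 5, 5, 3, 5, 3, 4, 8, 5, 5, 3, 4, 8, 5, 5, 3, 5, 3, 5, 3] [.bad [3, 3, 2, 0, 3, 3, 2, 0, 3, 2, 0, 8, 3, 1, 3, 0, 2, 1, 0, 3, 3, 2, 0, 3, 3, 2, 0, 3, 3, 2, 0, 3, 2, 0, 8, 3, 1, 3, 0, 2, 1, 0, 3, 3, 2, 0, 3, 2, 0, 8, 3, 1, 3, 0, 2, 1, 0, 5, 3, 4, 8, 5, 5, 3, 5, 3, 4, 8, 5, 5, 3, 5, 3, 5, 3, 4, 8, 5, 5, 3, 5, 3, 3, 3, 2, 0, 3, 3, 2, 0, 3, 2, 0, 8, 3, 1, 3, 0, 2, 1, 0, 3, 3, 2, 0, 3, 3, 2, 0, 3, 3, 2, 0, 3, 2, 0, 8, 3, 1, 3, 0, 2, 1, 0, 3, 3, 2, 0, 3, 2, 0, 8, 3, 1, 3, 0, 2, 1, 0, 5, 3, 4, 8, 5, 5, 3, 5, 3, 4, 8, 5, 5, 3, 5, 3, 5, 3, 4, 8, 5, 5, 3, 5, 3] 1]],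
  .sub [0, 11, 4] [.out 1877],
  .sub [2, 11, 4] [.out 3268],
  .sub [3, 11, 4] [.out 1410],
  .sub [4, 11, 4] [.sub [4, 8, 5, 5, 3, 4, 8, 5, 5, 3, 4, 8, 5, 5, 3, 4, 8, 5, 5, 3, 5, 3, 4, 8, 5, 5, 3, 5, 3, 4, 8, 5, 5, 3, 4, 8, 5, 5, 3] [.out 655]],
  .sub [5, 11, 4] [.out 4477],
  .sub [7, 11, 4] [.sub [4, 8, 5, 5, 3, 5, 3, 4, 8, 5, 5, 3, 5, 3, 5, 3, 4, 8, 5, 5, 3, 4, 8, 5, 5, 3, 5, 3, 4, 8, 5] [.out 5321]],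
  .sub [9, 11, 4] [.out 180],
  .sub [11, 11, 4] [.out 4435],
  .sub [12, 11, 4] [.sub [5, 3, 5, 3, 4, 8, 5, 5, 3, 5, 3, 5, 3, 4, 8, 5, 5, 3, 4, 8, 5, 5, 3, 5, 3, 4, 8, 5, 5, 3, 5, 3, 5, 3] [.out 5266]],
  .sub [16, 11, 4] [.sub [4, 8, 5, 5, 3, 4, 8, 5, 5, 3, 5, 3, 4, 8, 5, 5, 3, 4, 8, 5, 5, 3, 5, 3, 4, 8, 5, 5, 3, 5, 3, 5, 3, 4, 8, 5, 5, 3, 4, 8, 5] [.out 3759]],
  .sub [17, 11, 4] [.out 4685],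
  .sub [18, 11, 4] [.sub [5, 3, 5, 3, 4, 8, 5, 5, 3, 5, 3, 5, 3, 4, 8, 5, 5, 3, 5, 3, 4, 8, 5, 5, 3, 4, 8, 5, 5, 3] [.out 5457]],
  .sub [19, 11, 4] [.out 5268],
  .sub [20, 11, 4] [.out 2150],
  .sub [21, 11, 4] [.out 519],
  .sub [0, 12, 4] [.out 2419],
  .sub [2, 12, 4] [.out 6045],
  .sub [3, 12, 4] [.out 290],
  .sub [4, 12, 4] [.out 2566],
  .sub [5, 12, 4] [.out 3751],
  .sub [7, 12, 4] [.sub [4, 8, 5, 5, 3, 4, 8, 5, 5, 3, 4, 8, 5, 5, 3, 5, 3, 4, 8, 5, 5, 3, 5, 3, 5, 3, 4, 8, 5, 5, 3, 4, 8, 5, 5, 3, 4, 8, 5] [.out 205]],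
  .sub [8, 12, 4] [.out 1311],
  .sub [10, 12, 4] [.sub [4, 8, 5, 5, 3, 5, 3, 4, 8, 5, 5, 3, 4, 8, 5, 5, 3, 5, 3, 4, 8, 5, 5, 3, 5, 3, 4, 8, 5, 5, 3, 4, 8, 5, 5, 3, 4, 8, 5] [.out 920]],
  .sub [11, 12, 4] [.sub [5, 3, 4, 8, 5, 5, 3, 4, 8, 5, 5, 3, 5, 3, 4, 8, 5, 5, 3, 4, 8, 5, 5, 3, 4, 8, 5, 5, 3, 5, 3, 5, 3, 4, 8, 5, 5, 3, 5, 3, 5, 3] [.out 67]],
  .sub [12, 12, 4] [.out 4671],
  .sub [17, 12, 4] [.out 4169],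
  .sub [18, 12, 4] [.out 1372],
  .sub [19, 12, 4] [.sub [4, 8, 5, 5, 3, 5, 3, 5, 3, 4, 8, 5, 5, 3, 4, 8, 5, 5, 3, 5, 3, 4, 8, 5, 5, 3, 5, 3, 5, 3, 4, 8, 5, 5, 3, 4, 8, 5] [.out 1806]],
  .sub [20, 12, 4] [.out 4239],
  .sub [21, 12, 4] [.out 4097],
  .sub [2, 13, 4] [.out 744],
  .sub [3, 13, 4] [.out 998],
  .sub [4, 13, 4] [.out 417],
  .sub [5, 13, 4] [.out 2687],
  .sub [6, 13, 4] [.sub [5, 3, 5, 3, 5, 3, 4, 8, 5, 5, 3, 4, 8, 5, 5, 3, 4, 8, 5, 5, 3, 5, 3, 4, 8, 5, 5, 3, 5, 3] [.out 4327]],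
  .sub [7, 13, 4] [.out 2497],
  .sub [8, 13, 4] [.out 535],
  .sub [9, 13, 4] [.out 4130],
  .sub [10, 13, 4] [.out 540],
  .sub [11, 13, 4] [.out 1782],
  .sub [12, 13, 4] [.out 5563],
  .sub [13, 13, 4] [.out 3879],
  .sub [16, 13, 4] [.out 5067],
  .sub [17, 13, 4] [.out 5356],
  .sub [18, 13, 4] [.sub [5, 3, 5, 3, 5, 3, 4, 8, 5, 5, 3, 5, 3, 4, 8, 5, 5, 3, 4, 8, 5, 5, 3, 5, 3, 5, 3] [.out 1212]],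
  .sub [19, 13, 4] [.out 2868],
  .sub [20, 13, 4] [.out 2718],
  .sub [21, 13, 4] [.out 2540],
  .sub [4, 14, 4] [.sub [4, 8, 5, 5, 3, 5, 3, 5, 3, 4, 8, 5, 5, 3, 4, 8, 5, 5, 3, 5, 3, 4, 8, 5, 5, 3, 4, 8, 5, 5, 3, 4, 8, 5] [.out 2366]],
  .sub [6, 14, 4] [.out 1619],
  .sub [8, 14, 4] [.out 3056],
  .sub [9, 14, 4] [.out 3597],
  .sub [11, 14, 4] [.out 703],
  .sub [12, 14, 4] [.out 412],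
  .sub [13, 14, 4] [.sub [4, 8, 5, 5, 3, 4, 8, 5, 5, 3, 5, 3, 5, 3, 4, 8, 5, 5, 3, 4, 8, 5, 5, 3, 5, 3, 4, 8, 5, 5, 3, 4, 8, 5, 5, 3, 4, 8, 5] [.out 5439]],
  .sub [14, 14, 4] [.out 847],
  .sub [17, 14, 4] [.out 3630],
  .sub [18, 14, 4] [.out 317],
  .sub [19, 14, 4] [.out 2857],
  .sub [20, 14, 4] [.out 3981],
  .sub [21, 14, 4] [.out 397],
  .sub [0, 16, 4] [.out 3771],
  .sub [4, 16, 4] [.out 3000],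
  .sub [5, 16, 4] [.out 55],
  .sub [8, 16, 4] [.out 2294],
  .sub [10, 16, 4] [.out 1165],
  .sub [11, 16, 4] [.sub [5, 3, 4, 8, 5, 5, 3, 5, 3, 5, 3, 4, 8, 5, 5, 3, 4, 8, 5, 5, 3, 5, 3, 5, 3, 4, 8, 5, 5, 3, 4, 8, 5] [.out 3814]],
  .sub [13, 16, 4] [.out 2938],
  .sub [16, 16, 4] [.out 5043],
  .sub [17, 16, 4] [.out 2223],
  .sub [19, 16, 4] [.out 9],
  .sub [21, 16, 4] [.out 5336],
  .sub [0, 17, 4] [.out 2646],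
  .sub [1, 17, 4] [.out 1040],
  .sub [5, 17, 4] [.out 6137],
  .sub [6, 17, 4] [.out 805],
  .sub [8, 17, 4] [.out 2440],
  .sub [10, 17, 4] [.out 6118],
  .sub [11, 17, 4] [.out 6020],
  .sub [12, 17, 4] [.out 5453],
  .sub [14, 17, 4] [.out 5990],
  .sub [16, 17, 4] [.out 361],
  .sub [21, 17, 4] [.out 2668],
  .sub [1, 18, 4] [.out 5968],
  .sub [3, 18, 4] [.out 814],
  .sub [4, 18, 4] [.out 3156],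
  .sub [5, 18, 4] [.out 5136],
  .sub [6, 18, 4] [.sub [4, 8, 5, 5, 3, 5, 3, 4, 8, 5, 5, 3, 5, 3, 5, 3, 4, 8, 5, 5, 3] [.out 3759]],
  .sub [8, 18, 4] [.out 5858],
  .sub [9, 18, 4] [.out 2874],
  .sub [10, 18, 4] [.sub [4, 8, 5, 5, 3, 5, 3, 4, 8, 5, 5, 3, 4, 8, 5, 5, 3, 4, 8, 5, 5, 3, 5, 3, 4, 8, 5, 5, 3, 5, 3] [.out 1419]],
  .sub [11, 18, 4] [.out 2467],
  .sub [12, 18, 4] [.out 4234],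
  .sub [13, 18, 4] [.out 5240],
  .sub [14, 18, 4] [.out 1240],
  .sub [21, 18, 4] [.sub [5, 3, 4, 8, 5, 5, 3, 4, 8, 5, 5, 3, 4, 8, 5, 5, 3, 5, 3, 4, 8, 5, 5, 3, 5, 3, 5, 3, 4, 8, 5, 5, 3, 4, 8, 5, 5, 3, 5, 3, 4, 8, 5] [.out 70]],
  .sub [1, 19, 4] [.out 4296],
  .sub [4, 19, 4] [.out 2972],
  .sub [5, 19, 4] [.sub [4, 8, 5, 5, 3, 4, 8, 5, 5, 3, 5, 3, 5, 3] [.out 3742]],
  .sub [6, 19, 4] [.out 4516],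
  .sub [8, 19, 4] [.out 3754],
  .sub [10, 19, 4] [.out 2293],
  .sub [11, 19, 4] [.out 4199],
  .sub [12, 19, 4] [.out 3095],
  .sub [14, 19, 4] [.out 2534],
  .sub [16, 19, 4] [.out 3996],
  .sub [4, 20, 4] [.out 3237],
  .sub [8, 20, 4] [.out 441],
  .sub [11, 20, 4] [.out 5366],
  .sub [16, 20, 4] [.out 1626],
  .sub [21, 20, 4] [.out 2970],
  .sub [1, 21, 4] [.out 1232],
  .sub [3, 21, 4] [.out 1555],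
  .sub [4, 21, 4] [.out 5486],
  .sub [5, 21, 4] [.out 3791]]

/-- Branches. -/
def kidsXPart3 : List Branch := [
  .sub [6, 21, 4] [.out 3568],
  .sub [7, 21, 4] [.out 772],
  .sub [8, 21, 4] [.out 3892],
  .sub [9, 21, 4] [.out 3675],
  .sub [11, 21, 4] [.out 2604],
  .sub [12, 21, 4] [.out 401],
  .sub [14, 21, 4] [.out 5628],
  .sub [16, 21, 4] [.out 4119],
  .sub [17, 21, 4] [.out 956],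
  .sub [18, 21, 4] [.sub [4, 8, 5, 5, 3, 4, 8, 5, 5, 3, 4, 8, 5, 5, 3, 5, 3, 4, 8, 5, 5, 3, 5, 3, 5, 3] [.out 686]],
  .sub [19, 21, 4] [.out 5055],
  .sub [21, 21, 4] [.out 3991],
  .sub [1, 4, 5] [.sub [4, 8, 5, 5, 3, 5, 3, 4, 8, 5, 5, 3, 4, 8, 5, 5, 3, 4, 8, 5, 5, 3, 5, 3, 5, 3, 4, 8, 5, 5, 3, 4, 8, 5, 5, 3] [.out 3482]],
  .sub [2, 4, 5] [.out 4711],
  .sub [3, 4, 5] [.out 4373],
  .sub [5, 4, 5] [.out 2625],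
  .sub [6, 4, 5] [.out 588],
  .sub [7, 4, 5] [.out 4821],
  .sub [8, 4, 5] [.out 1414],
  .sub [9, 4, 5] [.out 1690],
  .sub [10, 4, 5] [.out 5877],
  .sub [12, 4, 5] [.out 3428],
  .sub [13, 4, 5] [.out 2372],
  .sub [14, 4, 5] [.out 5995],
  .sub [16, 4, 5] [.out 942],
  .sub [17, 4, 5] [.out 3133],
  .sub [18, 4, 5] [.out 1329],
  .sub [19, 4, 5] [.out 2902],
  .sub [20, 4, 5] [.sub [4, 8, 5, 5, 3, 5, 3, 4, 8, 5, 5, 3, 4, 8, 5, 5, 3, 5, 3, 4, 8, 5, 5, 3, 5, 3, 5, 3, 4, 8, 5, 5, 3, 4, 8, 5, 5, 3, 5, 3, 4, 8, 5] [.out 5299]],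
  .sub [21, 4, 5] [.out 5460],
  .sub [2, 6, 5] [.out 2540],
  .sub [4, 6, 5] [.out 4862],
  .sub [5, 6, 5] [.out 573],
  .sub [7, 6, 5] [.out 1468],
  .sub [8, 6, 5] [.out 5703],
  .sub [11, 6, 5] [.out 2136],
  .sub [12, 6, 5] [.out 4329],
  .sub [16, 6, 5] [.out 3086],
  .sub [17, 6, 5] [.out 1172],
  .sub [19, 6, 5] [.out 4018],
  .sub [14, 8, 5] [.sub [5, 3, 4, 8, 5, 5, 3, 4, 8, 5, 5, 3, 5, 3, 4, 8, 5, 5, 3, 5, 3, 4, 8, 5, 5, 3, 4, 8, 5, 5, 3, 4, 8, 5] [.out 3848]],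
  .sub [4, 9, 5] [.sub [4, 8, 5, 5, 3, 5, 3, 4, 8, 5, 5, 3] [.out 4230]],
  .sub [6, 9, 5] [.out 1491],
  .sub [8, 9, 5] [.out 288],
  .sub [11, 9, 5] [.out 3913],
  .sub [4, 10, 5] [.sub [5, 3, 5, 3, 5, 3, 4, 8, 5, 5, 3, 4, 8, 5, 5, 3, 5, 3, 4, 8, 5, 5, 3, 5, 3] [.out 3844]],
  .sub [6, 10, 5] [.sub [4, 8, 5, 5, 3, 4, 8, 5, 5, 3, 4, 8, 5, 5, 3, 5, 3, 4, 8, 5, 5, 3] [.out 1651]],
  .sub [8, 10, 5] [.out 1283],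
  .sub [10, 10, 5] [.out 2486],
  .sub [11, 10, 5] [.out 4144],
  .sub [13, 10, 5] [.out 5308],
  .sub [14, 10, 5] [.out 3121],
  .sub [17, 10, 5] [.out 2781],
  .sub [18, 10, 5] [.out 4506],
  .sub [2, 11, 5] [.out 881],
  .sub [5, 11, 5] [.out 1140],
  .sub [6, 11, 5] [.out 4682],
  .sub [7, 11, 5] [.out 230],
  .sub [10, 11, 5] [.out 354],
  .sub [13, 11, 5] [.out 1383],
  .sub [16, 11, 5] [.out 2293],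
  .sub [17, 11, 5] [.out 204],
  .sub [18, 11, 5] [.out 4685],
  .sub [19, 11, 5] [.out 2346],
  .sub [20, 11, 5] [.out 5584],
  .sub [21, 11, 5] [.out 3998],
  .sub [2, 12, 5] [.out 2052],
  .sub [3, 12, 5] [.out 889],
  .sub [4, 12, 5] [.sub [5, 3, 5, 3, 4, 8, 5, 5, 3, 5, 3, 5, 3, 4, 8, 5, 5, 3, 5, 3, 4, 8, 5, 5, 3, 4, 8, 5, 5, 3, 5, 3, 5, 3, 4, 8, 5, 5, 3, 4, 8, 5, 5, 3] [.out 4050]],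
  .sub [5, 12, 5] [.out 842],
  .sub [7, 12, 5] [.sub [4, 8, 5, 5, 3, 4, 8, 5, 5, 3, 5, 3, 4, 8, 5, 5, 3, 4, 8, 5, 5, 3, 4, 8, 5, 5, 3, 5, 3, 4, 8, 5, 5, 3, 4, 8, 5, 5, 3, 4, 8, 5] [.out 4674]],
  .sub [8, 12, 5] [.out 1451],
  .sub [9, 12, 5] [.sub [4, 8, 5, 5, 3, 4, 8, 5, 5, 3, 4, 8, 5, 5, 3, 5, 3, 4, 8, 5, 5, 3, 4, 8, 5, 5, 3, 4, 8, 5, 5, 3, 5, 3, 4, 8, 5, 5, 3, 4, 8, 5] [.out 483]],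
  .sub [11, 12, 5] [.out 2983],
  .sub [12, 12, 5] [.out 275],
  .sub [17, 12, 5] [.out 463],
  .sub [18, 12, 5] [.out 5942],
  .sub [19, 12, 5] [.out 3152],
  .sub [20, 12, 5] [.sub [5, 3, 4, 8, 5, 5, 3, 4, 8, 5, 5, 3, 5, 3, 4, 8, 5, 5, 3, 5, 3, 5, 3, 4, 8, 5, 5, 3, 4, 8, 5] [.out 32]],
  .sub [21, 12, 5] [.out 1120],
  .sub [3, 13, 5] [.out 4482],
  .sub [4, 13, 5] [.out 3124],
  .sub [6, 13, 5] [.out 4611],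
  .sub [8, 13, 5] [.out 5171],
  .sub [11, 13, 5] [.out 5232],
  .sub [6, 0, 8] [.out 3863],
  .sub [10, 0, 8] [.out 2332],
  .sub [13, 0, 8] [.out 3550],
  .sub [18, 0, 8] [.out 4571],
  .sub [19, 0, 8] [.out 2052],
  .sub [20, 0, 8] [.out 1388],
  .sub [21, 0, 8] [.out 3330],
  .sub [2, 1, 8] [.out 2784],
  .sub [4, 1, 8] [.out 5454],
  .sub [5, 1, 8] [.out 5591],
  .sub [6, 1, 8] [.sub [4, 8, 5, 5, 3, 5, 3, 5, 3, 4, 8, 5, 5, 3, 4, 8, 5, 5, 3, 5, 3, 4, 8, 5, 5, 3, 4, 8, 5, 5, 3, 5, 3, 5, 3] [.out 810]],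
  .sub [7, 1, 8] [.out 4161],
  .sub [9, 1, 8] [.out 1089],
  .sub [10, 1, 8] [.out 3367],
  .sub [16, 1, 8] [.out 706],
  .sub [17, 1, 8] [.out 3253],
  .sub [18, 1, 8] [.out 2484],
  .sub [19, 1, 8] [.out 1468],
  .sub [20, 1, 8] [.out 3817],
  .sub [4, 2, 8] [.out 4208],
  .sub [6, 2, 8] [.out 2511],
  .sub [13, 2, 8] [.out 4184],
  .sub [18, 2, 8] [.out 5638],
  .sub [19, 2, 8] [.out 1364],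
  .sub [2, 6, 8] [.out 2066],
  .sub [3, 6, 8] [.sub [5, 3, 4, 8, 5, 5, 3, 4, 8, 5, 5, 3, 5, 3, 4, 8, 5, 5, 3, 5, 3, 4, 8, 5, 5, 3, 4, 8, 5, 5, 3, 4, 8, 5] [.out 5808]],
  .sub [4, 6, 8] [.out 5462],
  .sub [5, 6, 8] [.out 671],
  .sub [7, 6, 8] [.out 111],
  .sub [8, 6, 8] [.out 3692],
  .sub [9, 6, 8] [.out 5379],
  .sub [10, 6, 8] [.out 2164],
  .sub [11, 6, 8] [.out 4588],
  .sub [12, 6, 8] [.out 2158],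
  .sub [13, 6, 8] [.sub [4, 8, 5, 5, 3, 4, 8, 5, 5, 3, 5, 3, 4, 8, 5, 5, 3, 4, 8, 5, 5, 3, 5, 3, 5, 3, 4, 8, 5, 5, 3, 4, 8, 5, 5, 3, 5, 3, 4, 8, 5] [.out 2143]],
  .sub [17, 6, 8] [.out 3752],
  .sub [18, 6, 8] [.out 2833],
  .sub [19, 6, 8] [.sub [5, 3, 4, 8, 5, 5, 3, 4, 8, 5, 5, 3, 5, 3, 5, 3, 4, 8, 5, 5, 3, 4, 8, 5, 5, 3, 5, 3] [.out 3844]],
  .sub [20, 6, 8] [.out 3880],
  .sub [21, 6, 8] [.out 4072],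
  .sub [6, 7, 8] [.out 829],
  .sub [10, 7, 8] [.sub [5, 3, 4, 8, 5, 5, 3, 5, 3, 4, 8, 5, 5, 3, 4, 8, 5, 5, 3, 5, 3, 4, 8, 5, 5, 3, 4, 8, 5, 5, 3, 4, 8, 5, 5, 3, 5, 3] [.out 471]],
  .sub [13, 7, 8] [.out 2999],
  .sub [14, 7, 8] [.out 3613],
  .sub [17, 7, 8] [.sub [5, 3, 5, 3, 5, 3, 4, 8, 5, 5, 3, 4, 8, 5] [.out 4355]],
  .sub [18, 7, 8] [.out 2163],
  .sub [21, 7, 8] [.out 3229],
  .sub [4, 9, 8] [.out 5368],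
  .sub [8, 9, 8] [.out 3914],
  .sub [11, 9, 8] [.out 3405],
  .sub [0, 10, 8] [.out 2272],
  .sub [1, 10, 8] [.sub [4, 8, 5, 5, 3, 4, 8, 5, 5, 3, 5, 3, 4, 8, 5, 5, 3, 5, 3, 5, 3, 4, 8, 5] [.out 1338]],
  .sub [2, 10, 8] [.out 4223],
  .sub [3, 10, 8] [.out 6085],
  .sub [5, 10, 8] [.sub [5, 3, 5, 3, 4, 8, 5, 5, 3, 4, 8, 5, 5, 3, 5, 3, 5, 3, 4, 8, 5, 5, 3, 5, 3, 4, 8, 5, 5, 3, 4, 8, 5, 5, 3] [.out 2915]],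
  .sub [6, 10, 8] [.out 4788],
  .sub [7, 10, 8] [.out 4549],
  .sub [8, 10, 8] [.out 1169],
  .sub [9, 10, 8] [.out 5606],
  .sub [10, 10, 8] [.out 5780],
  .sub [12, 10, 8] [.out 1170],
  .sub [13, 10, 8] [.out 1086],
  .sub [14, 10, 8] [.out 1970],
  .sub [18, 10, 8] [.out 1842],
  .sub [19, 10, 8] [.out 5573],
  .sub [20, 10, 8] [.out 1433],
  .sub [21, 10, 8] [.out 3370],
  .sub [2, 13, 8] [.out 2469],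
  .sub [3, 13, 8] [.out 2852],
  .sub [4, 13, 8] [.out 103],
  .sub [5, 13, 8] [.out 2567],
  .sub [6, 13, 8] [.out 1334],
  .sub [7, 13, 8] [.out 5320],
  .sub [8, 13, 8] [.sub [4, 8, 5, 5, 3, 5, 3, 4, 8, 5, 5, 3, 4, 8, 5, 5, 3, 5, 3, 4, 8, 5, 5, 3, 5, 3, 4, 8, 5] [.out 4875]],
  .sub [9, 13, 8] [.out 5377],
  .sub [10, 13, 8] [.out 6042],
  .sub [11, 13, 8] [.out 972],
  .sub [12, 13, 8] [.out 4394],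
  .sub [13, 13, 8] [.out 4924],
  .sub [16, 13, 8] [.out 540],
  .sub [17, 13, 8] [.out 1892],
  .sub [18, 13, 8] [.out 5329],
  .sub [20, 13, 8] [.sub [5, 3, 5, 3, 4, 8, 5, 5, 3, 5, 3, 5, 3, 4, 8, 5, 5, 3, 4, 8, 5, 5, 3, 4, 8, 5] [.out 1883]],
  .sub [21, 13, 8] [.out 4550],
  .sub [6, 14, 8] [.out 2410],
  .sub [10, 14, 8] [.out 4076],
  .sub [11, 14, 8] [.out 3180],
  .sub [12, 14, 8] [.out 3016],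
  .sub [13, 14, 8] [.out 3410],
  .sub [14, 14, 8] [.out 1721],
  .sub [17, 14, 8] [.out 2384],
  .sub [18, 14, 8] [.sub [4, 8, 5, 5, 3, 5, 3, 4, 8, 5, 5, 3, 5, 3, 5, 3, 4, 8, 5, 5, 3] [.out 6129]],
  .sub [21, 14, 8] [.out 5465],
  .sub [2, 16, 8] [.out 3472],
  .sub [4, 16, 8] [.out 1819],
  .sub [5, 16, 8] [.out 3799],
  .sub [7, 16, 8] [.out 785],
  .sub [8, 16, 8] [.out 2379],
  .sub [9, 16, 8] [.out 1314],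
  .sub [11, 16, 8] [.out 993],
  .sub [16, 16, 8] [.out 945],
  .sub [17, 16, 8] [.out 5843],
  .sub [18, 16, 8] [.out 128],
  .sub [19, 16, 8] [.out 5889],
  .sub [20, 16, 8] [.out 5280],
  .sub [21, 16, 8] [.out 5249],
  .sub [0, 17, 8] [.out 3138]]

/-- Branches. -/
def kidsXPart4 : List Branch := [
  .sub [1, 17, 8] [.out 5984],
  .sub [6, 17, 8] [.out 162],
  .sub [8, 17, 8] [.out 765],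
  .sub [10, 17, 8] [.out 2955],
  .sub [11, 17, 8] [.out 3409],
  .sub [13, 17, 8] [.out 5168],
  .sub [14, 17, 8] [.sub [5, 3, 5, 3, 5, 3, 4, 8, 5, 5, 3, 5, 3, 4, 8, 5, 5, 3, 4, 8, 5, 5, 3, 5, 3, 5, 3, 4, 8, 5, 5, 3, 4, 8, 5, 5, 3] [.out 2915]],
  .sub [16, 17, 8] [.out 4545],
  .sub [4, 18, 8] [.out 2265],
  .sub [6, 18, 8] [.sub [5, 3, 4, 8, 5, 5, 3, 4, 8, 5, 5, 3, 5, 3, 4, 8, 5, 5, 3, 4, 8, 5, 5, 3] [.out 5606]],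
  .sub [9, 18, 8] [.out 4721],
  .sub [10, 18, 8] [.sub [4, 8, 5, 5, 3, 5, 3, 4, 8, 5, 5, 3, 4, 8, 5, 5, 3, 5, 3, 5, 3] [.out 2579]],
  .sub [11, 18, 8] [.out 4973],
  .sub [12, 18, 8] [.out 882],
  .sub [13, 18, 8] [.out 3189],
  .sub [14, 18, 8] [.out 4721],
  .sub [21, 18, 8] [.out 5475],
  .sub [0, 19, 8] [.out 5774],
  .sub [4, 19, 8] [.out 2998],
  .sub [6, 19, 8] [.out 4843],
  .sub [8, 19, 8] [.out 567],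
  .sub [10, 19, 8] [.out 2002],
  .sub [21, 19, 8] [.sub [5, 3, 5, 3, 5, 3, 4, 8, 5, 5, 3, 4, 8, 5, 5, 3, 5, 3, 5, 3, 4, 8, 5, 5, 3, 4, 8, 5, 5, 3, 5, 3] [.out 3744]],
  .sub [6, 20, 8] [.out 5979],
  .sub [16, 20, 8] [.sub [5, 3, 4, 8, 5, 5, 3, 4, 8, 5, 5, 3, 5, 3, 4, 8, 5, 5, 3, 5, 3, 5, 3, 4, 8, 5, 5, 3, 4, 8, 5, 5, 3, 5, 3] [.out 736]],
  .sub [21, 20, 8] [.out 5566],
  .sub [1, 21, 8] [.out 3385],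
  .sub [3, 21, 8] [.out 1352],
  .sub [4, 21, 8] [.sub [5, 3, 5, 3, 4, 8, 5, 5, 3, 4, 8, 5, 5, 3, 5, 3, 4, 8, 5, 5, 3, 4, 8, 5, 5, 3, 5, 3, 5, 3, 4, 8, 5, 5, 3, 4, 8, 5, 5, 3] [.out 483]],
  .sub [6, 21, 8] [.out 1904],
  .sub [7, 21, 8] [.sub [4, 8, 5, 5, 3, 5, 3, 5, 3, 4, 8, 5, 5, 3, 4, 8, 5, 5, 3, 5, 3, 4, 8, 5, 5, 3, 4, 8, 5, 5, 3, 5, 3, 5, 3] [.out 2802]],
  .sub [8, 21, 8] [.out 3834],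
  .sub [9, 21, 8] [.out 3617],
  .sub [11, 21, 8] [.out 4876],
  .sub [16, 21, 8] [.out 283],
  .sub [2, 0, 11] [.out 808],
  .sub [6, 0, 11] [.out 4435],
  .sub [7, 0, 11] [.out 4996],
  .sub [16, 0, 11] [.sub [5, 3, 4, 8, 5, 5, 3, 5, 3, 4, 8, 5, 5, 3, 5, 3, 5, 3, 4, 8, 5, 5, 3, 5, 3, 4, 8, 5, 5, 3, 4, 8, 5, 5, 3, 5, 3, 5, 3] [.out 3474]],
  .sub [6, 1, 11] [.out 2517],
  .sub [9, 1, 11] [.sub [5, 3, 4, 8, 5, 5, 3, 5, 3, 4, 8, 5, 5, 3, 4, 8, 5, 5, 3, 5, 3] [.out 1173]],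
  .sub [13, 1, 11] [.out 5977],
  .sub [18, 1, 11] [.sub [4, 8, 5, 5, 3, 4, 8, 5, 5, 3, 5, 3, 4, 8, 5, 5, 3, 4, 8, 5, 5, 3, 4, 8, 5, 5, 3, 5, 3, 5, 3, 4, 8, 5, 5, 3, 5, 3, 5, 3] [.out 934]],
  .sub [19, 1, 11] [.out 880],
  .sub [20, 1, 11] [.out 6072],
  .sub [21, 1, 11] [.out 3150],
  .sub [3, 2, 11] [.sub [5, 3, 5, 3, 4, 8, 5, 5, 3, 4, 8, 5, 5, 3, 5, 3, 4, 8, 5] [.out 239]],
  .sub [4, 2, 11] [.out 3126],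
  .sub [6, 2, 11] [.out 5098],
  .sub [8, 2, 11] [.out 4293],
  .sub [9, 2, 11] [.out 4549],
  .sub [12, 2, 11] [.sub [4, 8, 5, 5, 3, 4, 8, 5, 5, 3, 5, 3, 4, 8, 5, 5, 3, 4, 8, 5, 5, 3, 5, 3, 5, 3, 4, 8, 5, 5, 3, 4, 8, 5] [.out 5570]],
  .sub [17, 2, 11] [.out 2697],
  .sub [19, 2, 11] [.out 3775],
  .sub [21, 2, 11] [.out 5988],
  .sub [6, 3, 11] [.out 1217],
  .sub [10, 3, 11] [.out 2176],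
  .sub [16, 3, 11] [.out 2710],
  .sub [17, 3, 11] [.out 5142],
  .sub [18, 3, 11] [.out 4809],
  .sub [19, 3, 11] [.out 1723],
  .sub [21, 3, 11] [.out 5701],
  .sub [2, 4, 11] [.out 5182],
  .sub [4, 4, 11] [.out 5230],
  .sub [5, 4, 11] [.out 3368],
  .sub [7, 4, 11] [.out 3481],
  .sub [8, 4, 11] [.out 349],
  .sub [9, 4, 11] [.out 3839],
  .sub [10, 4, 11] [.out 2089],
  .sub [13, 4, 11] [.out 3034],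
  .sub [17, 4, 11] [.out 5301],
  .sub [19, 4, 11] [.out 3940],
  .sub [20, 4, 11] [.out 4823],
  .sub [21, 4, 11] [.out 865],
  .sub [4, 5, 11] [.out 31],
  .sub [6, 5, 11] [.out 1566],
  .sub [8, 5, 11] [.out 745],
  .sub [10, 5, 11] [.out 1609],
  .sub [11, 5, 11] [.out 581],
  .sub [12, 5, 11] [.out 4204],
  .sub [13, 5, 11] [.out 2355],
  .sub [14, 5, 11] [.out 4201],
  .sub [17, 5, 11] [.out 1689],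
  .sub [18, 5, 11] [.sub [4, 8, 5, 5, 3, 5, 3, 4, 8, 5, 5, 3, 4, 8, 5, 5, 3, 4, 8, 5, 5, 3, 5, 3, 5, 3, 4, 8, 5, 5, 3, 4, 8, 5] [.out 5321]],
  .sub [2, 6, 11] [.out 2939],
  .sub [4, 6, 11] [.out 2979],
  .sub [5, 6, 11] [.out 5690],
  .sub [7, 6, 11] [.out 2510],
  .sub [8, 6, 11] [.out 609],
  .sub [9, 6, 11] [.out 2181],
  .sub [10, 6, 11] [.out 3495],
  .sub [11, 6, 11] [.out 4260],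
  .sub [12, 6, 11] [.out 2071],
  .sub [13, 6, 11] [.out 6149],
  .sub [17, 6, 11] [.sub [5, 3, 5, 3, 4, 8, 5, 5, 3, 4, 8, 5, 5, 3, 4, 8, 5, 5, 3, 5, 3, 4, 8, 5, 5, 3, 4, 8, 5, 5, 3, 5, 3, 4, 8, 5, 5, 3] [.out 2894]],
  .sub [18, 6, 11] [.out 1360],
  .sub [19, 6, 11] [.out 1009],
  .sub [20, 6, 11] [.out 1263],
  .sub [21, 6, 11] [.out 866],
  .sub [4, 7, 11] [.out 5340],
  .sub [6, 7, 11] [.out 2719],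
  .sub [8, 7, 11] [.out 1683],
  .sub [11, 7, 11] [.out 4903],
  .sub [12, 7, 11] [.out 4826],
  .sub [14, 7, 11] [.out 3144],
  .sub [17, 7, 11] [.out 5296],
  .sub [18, 7, 11] [.out 5295],
  .sub [21, 7, 11] [.out 5847],
  .sub [1, 9, 11] [.out 4389],
  .sub [4, 9, 11] [.out 5196],
  .sub [16, 9, 11] [.out 4368],
  .sub [21, 9, 11] [.out 4785],
  .sub [2, 10, 11] [.out 1536],
  .sub [3, 10, 11] [.out 1660],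
  .sub [4, 10, 11] [.sub [5, 3, 5, 3, 5, 3, 4, 8, 5, 5, 3, 5, 3, 4, 8, 5, 5, 3, 4, 8, 5, 5, 3, 5, 3, 5, 3] [.out 444]],
  .sub [5, 10, 11] [.out 4341],
  .sub [6, 10, 11] [.out 2842],
  .sub [7, 10, 11] [.out 4909],
  .sub [8, 10, 11] [.out 112],
  .sub [9, 10, 11] [.out 4035],
  .sub [10, 10, 11] [.out 93],
  .sub [11, 10, 11] [.out 1516],
  .sub [12, 10, 11] [.out 904],
  .sub [13, 10, 11] [.out 3789],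
  .sub [14, 10, 11] [.out 4717],
  .sub [18, 10, 11] [.out 2383],
  .sub [20, 10, 11] [.out 4781],
  .sub [21, 10, 11] [.out 4615],
  .sub [2, 12, 11] [.out 5497],
  .sub [4, 12, 11] [.out 1497],
  .sub [5, 12, 11] [.out 5081],
  .sub [7, 12, 11] [.out 1495],
  .sub [8, 12, 11] [.out 2172],
  .sub [9, 12, 11] [.out 1463],
  .sub [10, 12, 11] [.sub [5, 3, 4, 8, 5, 5, 3, 4, 8, 5, 5, 3, 5, 3, 4, 8, 5, 5, 3, 4, 8, 5, 5, 3, 5, 3, 5, 3] [.out 3965]],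
  .sub [11, 12, 11] [.out 3687],
  .sub [12, 12, 11] [.out 5903],
  .sub [13, 12, 11] [.out 398],
  .sub [17, 12, 11] [.out 2335],
  .sub [18, 12, 11] [.sub [4, 8, 5, 5, 3, 5, 3, 4, 8, 5, 5, 3, 5, 3, 5, 3, 4, 8, 5, 5, 3, 4, 8, 5, 5, 3, 5, 3, 4, 8, 5, 5, 3, 5, 3, 5, 3, 4, 8, 5, 5, 3, 4, 8, 5] [.out 2584]],
  .sub [19, 12, 11] [.out 4270],
  .sub [21, 12, 11] [.out 2284],
  .sub [2, 13, 11] [.out 659],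
  .sub [3, 13, 11] [.out 4749],
  .sub [4, 13, 11] [.out 1963],
  .sub [5, 13, 11] [.sub [4, 8, 5, 5, 3, 4, 8, 5, 5, 3, 5, 3, 5, 3, 4, 8, 5, 5, 3, 4, 8, 5, 5, 3, 5, 3, 5, 3, 4, 8, 5, 5, 3, 5, 3, 4, 8, 5, 5, 3, 4, 8, 5, 5, 3, 4, 8, 5] [.out 3782]],
  .sub [8, 13, 11] [.out 4389],
  .sub [10, 13, 11] [.out 1608],
  .sub [11, 13, 11] [.out 4835],
  .sub [12, 13, 11] [.out 1122],
  .sub [13, 13, 11] [.out 5462],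
  .sub [18, 13, 11] [.out 2806],
  .sub [16, 16, 11] [.sub [5, 3, 5, 3, 5, 3, 4, 8, 5, 5, 3, 4, 8, 5, 5, 3, 5, 3, 4, 8, 5, 5, 3, 4, 8, 5, 5, 3, 4, 8, 5] [.out 5439]],
  .sub [21, 16, 11] [.out 2115],
  .sub [0, 17, 11] [.out 3031],
  .sub [4, 17, 11] [.out 4584],
  .sub [5, 17, 11] [.sub [4, 8, 5, 5, 3, 5, 3, 4, 8, 5, 5, 3, 5, 3, 4, 8, 5, 5, 3, 4, 8, 5, 5, 3, 5, 3, 4, 8, 5, 5, 3, 5, 3, 5, 3, 4, 8, 5, 5, 3, 4, 8, 5] [.bad [3, 3, 2, 0, 3, 3, 2, 0, 3, 2, 0, 8, 3, 1, 3, 0, 2, 1, 0, 3, 3, 2, 0, 3, 3, 2, 0, 3, 3, 2, 0, 3, 2, 0, 8, 3, 1, 3, 0, 2, 1, 0, 3, 3, 2, 0, 3, 2, 0, 8, 3, 1, 3, 0, 2, 1, 0, 5, 3, 4, 8, 5, 5, 3, 5, 3, 4, 8, 5, 5, 3, 5, 3, 5, 3, 4, 8, 5, 5, 3, 5, 3] 1]],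
  .sub [8, 17, 11] [.out 5142],
  .sub [10, 17, 11] [.out 4086],
  .sub [13, 17, 11] [.out 2602],
  .sub [14, 17, 11] [.out 477],
  .sub [1, 18, 11] [.out 4960],
  .sub [3, 18, 11] [.out 1141],
  .sub [4, 18, 11] [.out 4428],
  .sub [5, 18, 11] [.out 4649],
  .sub [6, 18, 11] [.out 1633],
  .sub [8, 18, 11] [.out 2769],
  .sub [9, 18, 11] [.out 4586],
  .sub [10, 18, 11] [.out 2243],
  .sub [11, 18, 11] [.out 1175],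
  .sub [13, 18, 11] [.sub [5, 3, 5, 3, 4, 8, 5, 5, 3, 4, 8, 5, 5, 3, 5, 3, 4, 8, 5, 5, 3, 4, 8, 5, 5, 3, 4, 8, 5] [.out 2958]],
  .sub [14, 18, 11] [.out 2902],
  .sub [21, 18, 11] [.out 1567],
  .sub [0, 19, 11] [.out 2277],
  .sub [4, 19, 11] [.out 2235],
  .sub [6, 19, 11] [.out 159],
  .sub [8, 19, 11] [.out 1618],
  .sub [10, 19, 11] [.out 1668],
  .sub [11, 19, 11] [.out 4010],
  .sub [16, 19, 11] [.out 2685],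
  .sub [6, 20, 11] [.out 834],
  .sub [8, 20, 11] [.out 5357],
  .sub [16, 20, 11] [.out 2375],
  .sub [3, 21, 11] [.sub [5, 3, 5, 3, 4, 8, 5, 5, 3, 4, 8, 5, 5, 3, 5, 3, 4, 8, 5, 5, 3, 4, 8, 5, 5, 3, 5, 3, 5, 3, 4, 8, 5, 5, 3, 5, 3, 5, 3] [.out 4808]],
  .sub [4, 21, 11] [.out 3145],
  .sub [8, 21, 11] [.out 2037],
  .sub [17, 21, 11] [.out 1529],
  .sub [4, 2, 12] [.out 5662],
  .sub [11, 2, 12] [.out 4539],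
  .sub [13, 2, 12] [.out 4033],
  .sub [0, 4, 12] [.out 1432],
  .sub [1, 4, 12] [.out 5457]]

/-- Branches. -/
def kidsXPart5 : List Branch := [
  .sub [2, 4, 12] [.out 1494],
  .sub [3, 4, 12] [.out 4058],
  .sub [4, 4, 12] [.out 4385],
  .sub [5, 4, 12] [.out 4612],
  .sub [6, 4, 12] [.out 895],
  .sub [7, 4, 12] [.out 3038],
  .sub [8, 4, 12] [.out 2652],
  .sub [9, 4, 12] [.out 6108],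
  .sub [10, 4, 12] [.out 2299],
  .sub [11, 4, 12] [.out 4699],
  .sub [12, 4, 12] [.out 2157],
  .sub [13, 4, 12] [.out 3199],
  .sub [14, 4, 12] [.out 2037],
  .sub [16, 4, 12] [.out 802],
  .sub [17, 4, 12] [.out 204],
  .sub [18, 4, 12] [.out 5252],
  .sub [19, 4, 12] [.out 1084],
  .sub [20, 4, 12] [.out 5057],
  .sub [21, 4, 12] [.sub [5, 3, 4, 8, 5, 5, 3, 4, 8, 5, 5, 3, 5, 3, 4, 8, 5, 5, 3, 5, 3, 4, 8, 5] [.out 4967]],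
  .sub [4, 5, 12] [.sub [4, 8, 5, 5, 3, 4, 8, 5, 5, 3, 4, 8, 5, 5, 3, 5, 3, 5, 3, 4, 8, 5, 5, 3, 5, 3, 4, 8, 5, 5, 3, 4, 8, 5, 5, 3] [.out 824]],
  .sub [6, 5, 12] [.sub [4, 8, 5, 5, 3, 4, 8, 5, 5, 3, 5, 3, 5, 3] [.out 1482]],
  .sub [11, 5, 12] [.out 2066],
  .sub [13, 5, 12] [.out 2536],
  .sub [17, 5, 12] [.out 3780],
  .sub [18, 5, 12] [.out 6109],
  .sub [21, 5, 12] [.out 894],
  .sub [4, 7, 12] [.sub [5, 3, 4, 8, 5, 5, 3, 4, 8, 5, 5, 3, 5, 3, 4, 8, 5, 5, 3, 4, 8, 5, 5, 3, 5, 3, 4, 8, 5, 5, 3, 4, 8, 5, 5, 3, 5, 3, 4, 8, 5, 5, 3, 5, 3, 4, 8, 5] [.out 686]],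
  .sub [6, 7, 12] [.out 3222],
  .sub [8, 7, 12] [.sub [4, 8, 5, 5, 3, 4, 8, 5, 5, 3, 4, 8, 5] [.out 3518]],
  .sub [11, 7, 12] [.out 3056],
  .sub [0, 8, 12] [.out 3817],
  .sub [1, 8, 12] [.out 5899],
  .sub [2, 8, 12] [.out 5592],
  .sub [5, 8, 12] [.out 683],
  .sub [6, 8, 12] [.out 4490],
  .sub [7, 8, 12] [.sub [4, 8, 5, 5, 3, 5, 3, 5, 3, 4, 8, 5, 5, 3, 5, 3, 4, 8, 5, 5, 3, 4, 8, 5, 5, 3, 5, 3, 4, 8, 5, 5, 3, 4, 8, 5, 5, 3, 4, 8, 5] [.out 3744]],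
  .sub [9, 8, 12] [.out 3465],
  .sub [10, 8, 12] [.out 3243],
  .sub [13, 8, 12] [.out 2754],
  .sub [14, 8, 12] [.out 3325],
  .sub [16, 8, 12] [.out 1809],
  .sub [17, 8, 12] [.out 3232],
  .sub [18, 8, 12] [.sub [5, 3, 4, 8, 5, 5, 3, 5, 3, 5, 3, 4, 8, 5, 5, 3, 4, 8, 5, 5, 3, 5, 3, 5, 3, 4, 8, 5, 5, 3, 4, 8, 5, 5, 3, 5, 3] [.out 5606]],
  .sub [19, 8, 12] [.out 4423],
  .sub [20, 8, 12] [.out 3817],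
  .sub [21, 8, 12] [.out 5205],
  .sub [4, 10, 12] [.out 514],
  .sub [8, 10, 12] [.out 2277],
  .sub [9, 10, 12] [.sub [5, 3, 5, 3, 4, 8, 5, 5, 3, 4, 8, 5, 5, 3, 5, 3, 4, 8, 5, 5, 3, 4, 8, 5, 5, 3] [.bad [3, 3, 2, 0, 3, 3, 2, 0, 3, 2, 0, 8, 3, 1, 3, 0, 2, 1, 0, 3, 3, 2, 0, 3, 3, 2, 0, 3, 3, 2, 0, 3, 2, 0, 8, 3, 1, 3, 0, 2, 1, 0, 3, 3, 2, 0, 3, 2, 0, 8, 3, 1, 3, 0, 2, 1, 0, 5, 3, 4, 8, 5, 5, 3, 5, 3, 4, 8, 5, 5, 3, 5, 3, 5, 3, 4, 8, 5, 5, 3, 5, 3, 3, 2, 0, 8, 3, 1, 3, 0, 2, 1, 0, 3, 3, 2, 0, 3, 3, 2, 0, 3, 3, 2, 0, 3, 2, 0, 8, 3, 1, 3, 0, 2, 1, 0, 3, 3, 2, 0, 3, 3, 2, 0, 3, 2, 0, 8, 3, 1, 3, 0, 2, 1, 0, 5, 3, 4, 8, 5, 5, 3, 5, 3, 4, 8, 5, 5, 3, 4, 8, 5, 5, 3, 4, 8, 5, 5, 3] 1]],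
  .sub [11, 10, 12] [.out 3879],
  .sub [12, 10, 12] [.out 4461],
  .sub [13, 10, 12] [.sub [5, 3, 4, 8, 5, 5, 3, 5, 3, 4, 8, 5, 5, 3, 5, 3, 5, 3, 4, 8, 5, 5, 3, 5, 3, 5, 3] [.out 989]],
  .sub [18, 10, 12] [.out 2891],
  .sub [21, 10, 12] [.out 3389],
  .sub [0, 11, 12] [.sub [4, 8, 5, 5, 3, 5, 3, 4, 8, 5, 5, 3, 5, 3, 4, 8, 5, 5, 3, 4, 8, 5, 5, 3, 4, 8, 5, 5, 3, 5, 3] [.out 5887]],
  .sub [1, 11, 12] [.out 3645],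
  .sub [2, 11, 12] [.sub [4, 8, 5, 5, 3, 4, 8, 5, 5, 3, 4, 8, 5, 5, 3, 5, 3, 5, 3, 4, 8, 5, 5, 3, 5, 3, 4, 8, 5, 5, 3, 4, 8, 5, 5, 3, 4, 8, 5, 5, 3, 5, 3] [.out 4271]],
  .sub [6, 11, 12] [.out 648],
  .sub [7, 11, 12] [.sub [5, 3, 4, 8, 5, 5, 3, 4, 8, 5, 5, 3, 5, 3, 4, 8, 5, 5, 3, 4, 8, 5, 5, 3, 4, 8, 5, 5, 3, 5, 3, 5, 3, 4, 8, 5, 5, 3, 5, 3, 5, 3] [.out 4947]],
  .sub [9, 11, 12] [.out 3934],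
  .sub [10, 11, 12] [.out 2526],
  .sub [13, 11, 12] [.out 1932],
  .sub [16, 11, 12] [.sub [4, 8, 5, 5, 3, 4, 8, 5, 5, 3, 5, 3, 4, 8, 5, 5, 3, 4, 8, 5, 5, 3, 4, 8, 5, 5, 3, 5, 3, 4, 8, 5] [.out 4881]],
  .sub [17, 11, 12] [.sub [4, 8, 5, 5, 3, 5, 3, 5, 3, 4, 8, 5, 5, 3, 4, 8, 5, 5, 3, 5, 3, 5, 3, 4, 8, 5, 5, 3, 5, 3, 4, 8, 5, 5, 3, 4, 8, 5, 5, 3, 4, 8, 5] [.out 2267]],
  .sub [18, 11, 12] [.out 2841],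
  .sub [19, 11, 12] [.out 4308],
  .sub [20, 11, 12] [.out 3227],
  .sub [21, 11, 12] [.out 1394],
  .sub [0, 12, 12] [.out 2935],
  .sub [2, 12, 12] [.out 240],
  .sub [4, 12, 12] [.out 5295],
  .sub [5, 12, 12] [.out 4125],
  .sub [6, 12, 12] [.sub [4, 8, 5, 5, 3, 4, 8, 5, 5, 3, 5, 3, 5, 3, 4, 8, 5, 5, 3, 5, 3, 4, 8, 5, 5, 3, 4, 8, 5, 5, 3, 4, 8, 5, 5, 3, 5, 3] [.out 5377]],
  .sub [7, 12, 12] [.sub [5, 3, 4, 8, 5, 5, 3, 4, 8, 5, 5, 3, 5, 3, 4, 8, 5, 5, 3, 4, 8, 5, 5, 3, 5, 3, 4, 8, 5, 5, 3, 4, 8, 5, 5, 3, 4, 8, 5] [.out 5377]],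
  .sub [8, 12, 12] [.out 2142],
  .sub [9, 12, 12] [.out 3251],
  .sub [10, 12, 12] [.out 3229],
  .sub [13, 12, 12] [.out 737],
  .sub [14, 12, 12] [.out 4106],
  .sub [17, 12, 12] [.out 5896],
  .sub [18, 12, 12] [.out 4087],
  .sub [19, 12, 12] [.out 2003],
  .sub [20, 12, 12] [.out 992],
  .sub [21, 12, 12] [.sub [5, 3, 4, 8, 5, 5, 3, 4, 8, 5, 5, 3, 4, 8, 5, 5, 3, 5, 3, 4, 8, 5, 5, 3, 5, 3, 4, 8, 5, 5, 3, 4, 8, 5, 5, 3, 4, 8, 5] [.out 733]],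
  .sub [3, 13, 12] [.out 3275],
  .sub [4, 13, 12] [.out 3596],
  .sub [5, 13, 12] [.out 212],
  .sub [7, 13, 12] [.out 1931],
  .sub [8, 13, 12] [.sub [4, 8, 5, 5, 3, 5, 3, 4, 8, 5, 5, 3, 4, 8, 5, 5, 3, 5, 3, 5, 3, 4, 8, 5, 5, 3, 4, 8, 5] [.out 3296]],
  .sub [9, 13, 12] [.out 1167],
  .sub [11, 13, 12] [.out 1498],
  .sub [12, 13, 12] [.out 3507],
  .sub [13, 13, 12] [.out 1807],
  .sub [17, 13, 12] [.out 1544],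
  .sub [18, 13, 12] [.out 6030],
  .sub [19, 13, 12] [.sub [4, 8, 5, 5, 3, 4, 8, 5, 5, 3, 5, 3, 5, 3, 4, 8, 5, 5, 3] [.bad [3, 3, 2, 0, 3, 3, 2, 0, 3, 2, 0, 8, 3, 1, 3, 0, 2, 1, 0, 3, 3, 2, 0, 3, 3, 2, 0, 3, 3, 2, 0, 3, 2, 0, 8, 3, 1, 3, 0, 2, 1, 0, 3, 3, 2, 0, 3, 2, 0, 8, 3, 1, 3, 0, 2, 1, 0, 5, 3, 4, 8, 5, 5, 3, 5, 3, 4, 8, 5, 5, 3, 5, 3, 5, 3, 4, 8, 5, 5, 3, 5, 3, 3, 2, 0, 8, 3, 1, 3, 0, 2, 1, 0, 3, 3, 2, 0, 3, 3, 2, 0, 3, 3, 2, 0, 3, 2, 0, 8, 3, 1, 3, 0, 2, 1, 0, 3, 3, 2, 0, 3, 3, 2, 0, 3, 2, 0, 8, 3, 1, 3, 0, 2, 1, 0, 5, 3, 4, 8, 5, 5, 3, 5, 3, 4, 8, 5, 5, 3, 4, 8, 5, 5, 3, 4, 8, 5, 5, 3, 3, 2, 0, 8, 3, 1, 3, 0, 2, 1, 0, 3, 3, 2, 0, 3, 3, 2, 0, 3, 2, 0, 8, 3, 1, 3, 0, 2, 1, 0, 5, 3, 4, 8, 5, 5, 3, 4, 8, 5, 5, 3, 5, 3, 5, 3, 4, 8, 5] 1]],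
  .sub [21, 13, 12] [.out 1054],
  .sub [0, 17, 12] [.out 5763],
  .sub [4, 17, 12] [.out 2586],
  .sub [5, 17, 12] [.out 1290],
  .sub [8, 17, 12] [.out 453],
  .sub [11, 17, 12] [.sub [4, 8, 5, 5, 3, 5, 3, 4, 8, 5, 5, 3, 4, 8, 5, 5, 3, 5, 3, 4, 8, 5, 5, 3, 4, 8, 5, 5, 3, 4, 8, 5] [.out 4881]],
  .sub [14, 17, 12] [.out 644],
  .sub [4, 18, 12] [.out 332],
  .sub [6, 18, 12] [.out 2715],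
  .sub [8, 18, 12] [.out 1736],
  .sub [11, 18, 12] [.out 5448],
  .sub [4, 19, 12] [.out 1468],
  .sub [8, 19, 12] [.out 2731],
  .sub [11, 19, 12] [.sub [4, 8, 5, 5, 3, 5, 3, 4, 8, 5, 5, 3, 4, 8, 5, 5, 3, 5, 3, 4, 8, 5, 5, 3, 5, 3, 4, 8, 5, 5, 3, 4, 8, 5, 5, 3, 4, 8, 5, 5, 3, 5, 3, 4, 8, 5] [.out 958]],
  .sub [4, 20, 12] [.out 2929],
  .sub [8, 20, 12] [.out 2020],
  .sub [11, 20, 12] [.out 176],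
  .sub [21, 20, 12] [.out 3756],
  .sub [3, 21, 12] [.out 2495],
  .sub [4, 21, 12] [.out 3000],
  .sub [5, 21, 12] [.out 3938],
  .sub [8, 21, 12] [.out 206],
  .sub [9, 21, 12] [.out 3123],
  .sub [11, 21, 12] [.out 708],
  .sub [12, 21, 12] [.out 5594],
  .sub [3, 4, 1, 3] [.out 2791],
  .sub [4, 4, 1, 3] [.out 5943],
  .sub [5, 4, 1, 3] [.out 1091],
  .sub [8, 4, 1, 3] [.out 2544],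
  .sub [9, 4, 1, 3] [.out 5221],
  .sub [12, 4, 1, 3] [.out 2283],
  .sub [17, 4, 1, 3] [.out 5637],
  .sub [21, 4, 1, 3] [.out 2550],
  .sub [4, 5, 1, 3] [.out 2069],
  .sub [8, 5, 1, 3] [.out 8],
  .sub [12, 5, 1, 3] [.out 925],
  .sub [13, 5, 1, 3] [.out 5821],
  .sub [18, 5, 1, 3] [.out 5981],
  .sub [8, 17, 1, 3] [.out 5464],
  .sub [4, 19, 1, 3] [.out 2743],
  .sub [11, 19, 1, 3] [.out 4025],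
  .sub [3, 2, 6, 3] [.out 2941],
  .sub [4, 2, 6, 3] [.out 3561],
  .sub [6, 2, 6, 3] [.out 2262],
  .sub [8, 2, 6, 3] [.out 1598],
  .sub [9, 2, 6, 3] [.out 2204],
  .sub [11, 2, 6, 3] [.out 3836],
  .sub [12, 2, 6, 3] [.out 6147],
  .sub [19, 2, 6, 3] [.out 5318],
  .sub [1, 3, 6, 3] [.out 1670],
  .sub [6, 3, 6, 3] [.out 2211],
  .sub [10, 3, 6, 3] [.out 2781],
  .sub [13, 3, 6, 3] [.out 1849],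
  .sub [14, 3, 6, 3] [.out 4208],
  .sub [16, 3, 6, 3] [.out 3759],
  .sub [17, 3, 6, 3] [.out 1917],
  .sub [0, 4, 6, 3] [.out 3056],
  .sub [1, 4, 6, 3] [.out 1732],
  .sub [2, 4, 6, 3] [.sub [5, 3, 4, 8, 5, 5, 3, 5, 3, 5, 3, 4, 8, 5, 5, 3, 4, 8, 5, 5, 3, 5, 3, 4, 8, 5, 5, 3, 5, 3, 5, 3, 4, 8, 5, 5, 3, 4, 8, 5] [.out 4019]],
  .sub [3, 4, 6, 3] [.out 3724],
  .sub [4, 4, 6, 3] [.out 5740],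
  .sub [5, 4, 6, 3] [.out 5974],
  .sub [7, 4, 6, 3] [.out 969],
  .sub [8, 4, 6, 3] [.out 2153],
  .sub [9, 4, 6, 3] [.out 6050],
  .sub [10, 4, 6, 3] [.out 3196],
  .sub [11, 4, 6, 3] [.out 6080],
  .sub [12, 4, 6, 3] [.out 5090],
  .sub [13, 4, 6, 3] [.out 3941],
  .sub [16, 4, 6, 3] [.out 2830],
  .sub [17, 4, 6, 3] [.out 854],
  .sub [20, 4, 6, 3] [.out 1101],
  .sub [21, 4, 6, 3] [.out 4482],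
  .sub [2, 5, 6, 3] [.out 1480],
  .sub [4, 5, 6, 3] [.out 3526],
  .sub [6, 5, 6, 3] [.out 4463],
  .sub [8, 5, 6, 3] [.out 2854],
  .sub [10, 5, 6, 3] [.sub [5, 3, 4, 8, 5, 5, 3, 4, 8, 5, 5, 3, 4, 8, 5, 5, 3, 5, 3, 4, 8, 5, 5, 3, 4, 8, 5, 5, 3, 5, 3] [.out 5377]],
  .sub [11, 5, 6, 3] [.out 428],
  .sub [12, 5, 6, 3] [.out 5560],
  .sub [13, 5, 6, 3] [.out 3370],
  .sub [14, 5, 6, 3] [.out 3615],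
  .sub [19, 5, 6, 3] [.out 2821],
  .sub [4, 7, 6, 3] [.out 826],
  .sub [8, 7, 6, 3] [.out 2337],
  .sub [11, 7, 6, 3] [.out 688],
  .sub [12, 7, 6, 3] [.out 4263],
  .sub [1, 8, 6, 3] [.out 4266],
  .sub [2, 8, 6, 3] [.out 5868],
  .sub [5, 8, 6, 3] [.out 3387],
  .sub [6, 8, 6, 3] [.out 934],
  .sub [7, 8, 6, 3] [.out 1363],
  .sub [9, 8, 6, 3] [.out 4070],
  .sub [10, 8, 6, 3] [.out 308],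
  .sub [13, 8, 6, 3] [.out 5693],
  .sub [14, 8, 6, 3] [.out 5352]]

/-- Branches. -/
def kidsXPart6 : List Branch := [
  .sub [17, 8, 6, 3] [.out 2848],
  .sub [18, 8, 6, 3] [.out 1054],
  .sub [19, 8, 6, 3] [.out 4453],
  .sub [20, 8, 6, 3] [.out 1655],
  .sub [21, 8, 6, 3] [.sub [4, 8, 5, 5, 3, 5, 3, 4, 8, 5, 5, 3, 5, 3, 5, 3, 4, 8, 5, 5, 3, 4, 8, 5, 5, 3, 5, 3] [.out 989]],
  .sub [1, 9, 6, 3] [.out 828],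
  .sub [4, 9, 6, 3] [.out 2194],
  .sub [6, 9, 6, 3] [.sub [5, 3, 4, 8, 5, 5, 3, 4, 8, 5, 5, 3, 5, 3, 4, 8, 5, 5, 3, 5, 3, 5, 3] [.out 4446]],
  .sub [11, 9, 6, 3] [.out 3041],
  .sub [16, 9, 6, 3] [.out 3941],
  .sub [17, 9, 6, 3] [.out 4754],
  .sub [19, 9, 6, 3] [.out 1969],
  .sub [2, 10, 6, 3] [.out 3936],
  .sub [3, 10, 6, 3] [.out 4968],
  .sub [4, 10, 6, 3] [.out 4050],
  .sub [5, 10, 6, 3] [.out 2830],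
  .sub [8, 10, 6, 3] [.out 436],
  .sub [9, 10, 6, 3] [.out 2016],
  .sub [11, 10, 6, 3] [.out 1392],
  .sub [12, 10, 6, 3] [.sub [4, 8, 5, 5, 3, 5, 3, 4, 8, 5, 5, 3, 5, 3, 5, 3, 4, 8, 5, 5, 3, 4, 8, 5, 5, 3, 5, 3, 4, 8, 5, 5, 3, 5, 3, 5, 3, 4, 8, 5, 5, 3, 4, 8, 5] [.out 848]],
  .sub [5, 11, 6, 3] [.out 1283],
  .sub [6, 11, 6, 3] [.out 1377],
  .sub [9, 11, 6, 3] [.sub [4, 8, 5, 5, 3, 4, 8, 5, 5, 3, 5, 3, 4, 8, 5, 5, 3, 4, 8, 5, 5, 3, 5, 3] [.out 6073]],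
  .sub [10, 11, 6, 3] [.out 4251],
  .sub [12, 11, 6, 3] [.out 4650],
  .sub [17, 11, 6, 3] [.out 1225],
  .sub [18, 11, 6, 3] [.out 3771],
  .sub [19, 11, 6, 3] [.out 5493],
  .sub [20, 11, 6, 3] [.out 4106],
  .sub [21, 11, 6, 3] [.out 5245],
  .sub [6, 12, 6, 3] [.out 4241],
  .sub [7, 12, 6, 3] [.sub [4, 8, 5, 5, 3, 5, 3, 4, 8, 5, 5, 3, 5, 3, 4, 8, 5, 5, 3, 4, 8, 5, 5, 3, 5, 3, 5, 3] [.out 2713]],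
  .sub [8, 12, 6, 3] [.out 5566],
  .sub [13, 12, 6, 3] [.out 4866],
  .sub [14, 12, 6, 3] [.out 4916],
  .sub [17, 12, 6, 3] [.out 2038],
  .sub [18, 12, 6, 3] [.out 4153],
  .sub [19, 12, 6, 3] [.out 4198],
  .sub [21, 12, 6, 3] [.out 5682],
  .sub [4, 13, 6, 3] [.out 2821],
  .sub [5, 13, 6, 3] [.out 5918],
  .sub [8, 13, 6, 3] [.out 828],
  .sub [11, 13, 6, 3] [.out 4051],
  .sub [12, 13, 6, 3] [.out 1178],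
  .sub [8, 16, 6, 3] [.out 3478],
  .sub [11, 16, 6, 3] [.out 1660],
  .sub [4, 17, 6, 3] [.out 2122],
  .sub [5, 17, 6, 3] [.out 482],
  .sub [8, 17, 6, 3] [.out 1968],
  .sub [12, 17, 6, 3] [.out 585],
  .sub [4, 18, 6, 3] [.out 2545],
  .sub [5, 18, 6, 3] [.out 4460],
  .sub [8, 18, 6, 3] [.out 52],
  .sub [11, 18, 6, 3] [.out 4114],
  .sub [12, 18, 6, 3] [.out 4606],
  .sub [4, 19, 6, 3] [.out 389],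
  .sub [5, 19, 6, 3] [.out 3468],
  .sub [8, 19, 6, 3] [.sub [4, 8, 5, 5, 3, 4, 8, 5, 5, 3, 4, 8, 5, 5, 3, 4, 8, 5, 5, 3, 5, 3, 4, 8, 5, 5, 3, 5, 3, 5, 3, 4, 8, 5, 5, 3, 4, 8, 5] [.out 3978]],
  .sub [11, 19, 6, 3] [.out 2151],
  .sub [12, 19, 6, 3] [.out 5113],
  .sub [4, 20, 6, 3] [.out 2270],
  .sub [8, 20, 6, 3] [.out 5355],
  .sub [11, 20, 6, 3] [.out 1206],
  .sub [4, 5, 11, 3] [.out 3397],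
  .sub [6, 5, 11, 3] [.out 4624],
  .sub [8, 5, 11, 3] [.out 231],
  .sub [11, 5, 11, 3] [.out 3764],
  .sub [12, 5, 11, 3] [.out 2580],
  .sub [13, 5, 11, 3] [.out 3306],
  .sub [14, 5, 11, 3] [.out 504],
  .sub [18, 5, 11, 3] [.out 450],
  .sub [6, 9, 11, 3] [.out 3334],
  .sub [4, 10, 11, 3] [.out 4029],
  .sub [5, 10, 11, 3] [.out 1605],
  .sub [9, 10, 11, 3] [.out 1944],
  .sub [11, 10, 11, 3] [.out 3578],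
  .sub [12, 10, 11, 3] [.out 5061],
  .sub [2, 11, 11, 3] [.out 5993],
  .sub [6, 11, 11, 3] [.out 2096],
  .sub [9, 11, 11, 3] [.out 204],
  .sub [17, 11, 11, 3] [.out 2508],
  .sub [19, 11, 11, 3] [.out 5192],
  .sub [20, 11, 11, 3] [.sub [5, 3, 5, 3, 5, 3, 4, 8, 5, 5, 3, 4, 8, 5, 5, 3, 4, 8, 5, 5, 3, 5, 3, 4, 8, 5, 5, 3] [.out 4230]],
  .sub [21, 11, 11, 3] [.out 3387],
  .sub [2, 12, 11, 3] [.out 3890],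
  .sub [4, 12, 11, 3] [.out 3280],
  .sub [5, 12, 11, 3] [.sub [5, 3, 5, 3, 4, 8, 5, 5, 3, 4, 8, 5, 5, 3, 5, 3, 4, 8, 5, 5, 3] [.out 4875]],
  .sub [7, 12, 11, 3] [.out 3084],
  .sub [8, 12, 11, 3] [.out 3951],
  .sub [9, 12, 11, 3] [.out 3009],
  .sub [10, 12, 11, 3] [.out 4486],
  .sub [11, 12, 11, 3] [.sub [4, 8, 5, 5, 3, 5, 3, 5, 3, 4, 8, 5, 5, 3, 4, 8, 5, 5, 3, 4, 8, 5, 5, 3, 5, 3, 4, 8, 5, 5, 3] [.out 1651]],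
  .sub [12, 12, 11, 3] [.out 1385],
  .sub [13, 12, 11, 3] [.out 2298],
  .sub [17, 12, 11, 3] [.out 2959],
  .sub [18, 12, 11, 3] [.sub [5, 3, 4, 8, 5, 5, 3, 5, 3, 4, 8, 5, 5, 3, 5, 3, 5, 3, 4, 8, 5, 5, 3, 4, 8, 5, 5, 3, 4, 8, 5] [.out 2856]],
  .sub [19, 12, 11, 3] [.out 5371],
  .sub [20, 12, 11, 3] [.out 815],
  .sub [21, 12, 11, 3] [.out 4737],
  .sub [4, 17, 11, 3] [.out 3441],
  .sub [8, 17, 11, 3] [.out 4975],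
  .sub [11, 17, 11, 3] [.out 4544],
  .sub [12, 17, 11, 3] [.out 1210],
  .sub [16, 17, 11, 3] [.out 280],
  .sub [4, 18, 11, 3] [.sub [5, 3, 4, 8, 5, 5, 3, 4, 8, 5, 5, 3, 5, 3, 4, 8, 5, 5, 3, 5, 3, 4, 8, 5] [.out 3202]],
  .sub [8, 18, 11, 3] [.out 3412],
  .sub [11, 18, 11, 3] [.out 4403],
  .sub [12, 18, 11, 3] [.out 3434],
  .sub [13, 18, 11, 3] [.out 3444],
  .sub [14, 18, 11, 3] [.out 4560],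
  .sub [4, 1, 0, 4] [.out 4190],
  .sub [11, 1, 0, 4] [.sub [4, 8, 5, 5, 3, 4, 8, 5, 5, 3, 5, 3, 4, 8, 5, 5, 3, 4, 8, 5, 5, 3, 5, 3, 4, 8, 5, 5, 3, 5, 3, 5, 3, 4, 8, 5, 5, 3, 4, 8, 5] [.out 3759]],
  .sub [12, 1, 0, 4] [.out 5202],
  .sub [21, 1, 0, 4] [.out 1905],
  .sub [4, 2, 0, 4] [.out 4982],
  .sub [5, 2, 0, 4] [.out 2316],
  .sub [8, 2, 0, 4] [.out 3334],
  .sub [9, 2, 0, 4] [.out 4511],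
  .sub [17, 2, 0, 4] [.sub [5, 3, 4, 8, 5, 5, 3, 4, 8, 5, 5, 3, 5, 3, 5, 3, 4, 8, 5, 5, 3, 4, 8, 5, 5, 3, 5, 3, 4, 8, 5] [.out 5265]],
  .sub [18, 2, 0, 4] [.out 4764],
  .sub [19, 2, 0, 4] [.out 4923],
  .sub [21, 2, 0, 4] [.out 5234],
  .sub [6, 3, 0, 4] [.out 340],
  .sub [7, 3, 0, 4] [.out 603],
  .sub [13, 3, 0, 4] [.out 3825],
  .sub [14, 3, 0, 4] [.out 4594],
  .sub [16, 3, 0, 4] [.out 2033],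
  .sub [17, 3, 0, 4] [.sub [5, 3, 4, 8, 5, 5, 3, 4, 8, 5, 5, 3, 5, 3, 4, 8, 5, 5, 3, 5, 3, 4, 8, 5, 5, 3, 4, 8, 5, 5, 3] [.done 2]],
  .sub [18, 3, 0, 4] [.sub [5, 3, 4, 8, 5, 5, 3] [.out 5671]],
  .sub [19, 3, 0, 4] [.out 2016],
  .sub [21, 3, 0, 4] [.out 4198],
  .sub [1, 4, 0, 4] [.out 1570],
  .sub [2, 4, 0, 4] [.sub [4, 8, 5, 5, 3, 5, 3, 4, 8, 5, 5, 3, 5, 3, 4, 8, 5, 5, 3, 4, 8, 5, 5, 3, 4, 8, 5, 5, 3, 5, 3, 4, 8, 5] [.out 3357]],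
  .sub [3, 4, 0, 4] [.sub [4, 8, 5, 5, 3, 4, 8, 5, 5, 3, 5, 3, 4, 8, 5, 5, 3, 5, 3, 5, 3, 4, 8, 5] [.out 5731]],
  .sub [4, 4, 0, 4] [.out 2447],
  .sub [5, 4, 0, 4] [.out 492],
  .sub [7, 4, 0, 4] [.sub [4, 8, 5, 5, 3, 4, 8, 5, 5, 3, 4, 8, 5, 5, 3, 4, 8, 5, 5, 3, 5, 3] [.out 2713]],
  .sub [8, 4, 0, 4] [.out 2503],
  .sub [9, 4, 0, 4] [.sub [5, 3, 4, 8, 5, 5, 3, 5, 3, 4, 8, 5, 5, 3, 5, 3, 5, 3, 4, 8, 5, 5, 3, 4, 8, 5, 5, 3, 5, 3, 5, 3, 4, 8, 5, 5, 3, 5, 3, 4, 8, 5, 5, 3] [.out 3482]],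
  .sub [10, 4, 0, 4] [.out 392],
  .sub [11, 4, 0, 4] [.out 5465],
  .sub [12, 4, 0, 4] [.out 1317],
  .sub [13, 4, 0, 4] [.out 6126],
  .sub [14, 4, 0, 4] [.out 2981],
  .sub [16, 4, 0, 4] [.out 6027],
  .sub [17, 4, 0, 4] [.out 750],
  .sub [18, 4, 0, 4] [.out 3231],
  .sub [19, 4, 0, 4] [.out 1123],
  .sub [20, 4, 0, 4] [.out 3564],
  .sub [21, 4, 0, 4] [.out 98],
  .sub [4, 5, 0, 4] [.out 4035],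
  .sub [6, 5, 0, 4] [.out 231],
  .sub [7, 5, 0, 4] [.out 3034],
  .sub [8, 5, 0, 4] [.out 4571],
  .sub [10, 5, 0, 4] [.out 447],
  .sub [13, 5, 0, 4] [.sub [5, 3, 5, 3, 4, 8, 5, 5, 3, 4, 8, 5, 5, 3, 4, 8, 5, 5, 3, 5, 3] [.out 5722]],
  .sub [14, 5, 0, 4] [.out 2449],
  .sub [18, 5, 0, 4] [.out 1222],
  .sub [21, 5, 0, 4] [.out 4034],
  .sub [3, 7, 0, 4] [.sub [4, 8, 5, 5, 3, 5, 3, 4, 8, 5, 5, 3, 5, 3, 5, 3, 4, 8, 5, 5, 3, 4, 8, 5, 5, 3, 5, 3, 5, 3, 4, 8, 5, 5, 3, 5, 3, 4, 8, 5, 5, 3] [.out 3965]],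
  .sub [4, 7, 0, 4] [.sub [4, 8, 5, 5, 3, 5, 3, 5, 3, 4, 8, 5] [.out 815]],
  .sub [6, 7, 0, 4] [.out 5517],
  .sub [8, 7, 0, 4] [.out 3976],
  .sub [9, 7, 0, 4] [.out 4643],
  .sub [10, 7, 0, 4] [.out 109],
  .sub [12, 7, 0, 4] [.out 720],
  .sub [13, 7, 0, 4] [.out 3252],
  .sub [14, 7, 0, 4] [.out 1578],
  .sub [17, 7, 0, 4] [.out 4175],
  .sub [18, 7, 0, 4] [.out 3463],
  .sub [1, 8, 0, 4] [.out 3312],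
  .sub [2, 8, 0, 4] [.out 561],
  .sub [5, 8, 0, 4] [.out 286],
  .sub [6, 8, 0, 4] [.out 5262],
  .sub [7, 8, 0, 4] [.sub [5, 3, 4, 8, 5, 5, 3, 5, 3, 4, 8, 5, 5, 3, 4, 8, 5, 5, 3, 5, 3, 4, 8, 5, 5, 3, 5, 3, 4, 8, 5, 5, 3] [.out 6129]],
  .sub [16, 8, 0, 4] [.out 2483],
  .sub [17, 8, 0, 4] [.out 1995],
  .sub [19, 8, 0, 4] [.out 964],
  .sub [21, 8, 0, 4] [.sub [4, 8, 5, 5, 3, 5, 3, 4, 8, 5, 5, 3, 5, 3, 4, 8, 5, 5, 3, 4, 8, 5, 5, 3, 4, 8, 5] [.out 5963]],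
  .sub [0, 9, 0, 4] [.out 5494],
  .sub [1, 9, 0, 4] [.out 112],
  .sub [16, 9, 0, 4] [.sub [5, 3, 5, 3, 4, 8, 5, 5, 3, 4, 8, 5, 5, 3, 5, 3, 4, 8, 5] [.out 239]],
  .sub [19, 9, 0, 4] [.out 5680],
  .sub [21, 9, 0, 4] [.out 531],
  .sub [0, 11, 0, 4] [.out 945],
  .sub [2, 11, 0, 4] [.out 2174],
  .sub [6, 11, 0, 4] [.sub [4, 8, 5, 5, 3, 5, 3, 4, 8, 5, 5, 3, 5, 3, 5, 3, 4, 8, 5, 5, 3, 4, 8, 5, 5, 3, 5, 3, 4, 8, 5, 5, 3, 5, 3, 5, 3, 4, 8, 5, 5, 3, 4, 8, 5] [.out 3992]],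
  .sub [7, 11, 0, 4] [.out 1374],
  .sub [9, 11, 0, 4] [.out 4723],
  .sub [10, 11, 0, 4] [.sub [5, 3, 4, 8, 5, 5, 3, 4, 8, 5, 5, 3, 5, 3, 4, 8, 5, 5, 3, 5, 3, 5, 3] [.out 1361]],
  .sub [12, 11, 0, 4] [.sub [4, 8, 5, 5, 3, 5, 3, 5, 3, 4, 8, 5, 5, 3, 4, 8, 5, 5, 3, 5, 3, 4, 8, 5, 5, 3, 5, 3, 5, 3, 4, 8, 5, 5, 3, 4, 8, 5] [.out 5299]],
  .sub [13, 11, 0, 4] [.out 3367]]

/-- Branches. -/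
def kidsXPart7 : List Branch := [
  .sub [17, 11, 0, 4] [.out 2786],
  .sub [18, 11, 0, 4] [.out 2843],
  .sub [19, 11, 0, 4] [.out 2932],
  .sub [20, 11, 0, 4] [.out 3566],
  .sub [21, 11, 0, 4] [.out 2519],
  .sub [0, 12, 0, 4] [.out 3109],
  .sub [2, 12, 0, 4] [.out 1824],
  .sub [3, 12, 0, 4] [.out 4780],
  .sub [4, 12, 0, 4] [.out 2373],
  .sub [5, 12, 0, 4] [.out 3107],
  .sub [6, 12, 0, 4] [.out 67],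
  .sub [7, 12, 0, 4] [.out 3236],
  .sub [9, 12, 0, 4] [.out 2739],
  .sub [11, 12, 0, 4] [.out 2375],
  .sub [12, 12, 0, 4] [.out 1283],
  .sub [13, 12, 0, 4] [.out 1509],
  .sub [14, 12, 0, 4] [.out 5484],
  .sub [17, 12, 0, 4] [.out 4913],
  .sub [18, 12, 0, 4] [.out 1408],
  .sub [19, 12, 0, 4] [.out 4088],
  .sub [20, 12, 0, 4] [.out 4576],
  .sub [21, 12, 0, 4] [.sub [5, 3, 4, 8, 5, 5, 3, 4, 8, 5, 5, 3, 5, 3, 5, 3, 4, 8, 5, 5, 3, 5, 3, 5, 3] [.bad [3, 2, 0, 8, 3, 1, 3, 0, 2, 1, 0, 3, 3, 2, 0, 3, 3, 2, 0, 3, 3, 2, 0, 3, 2, 0, 8, 3, 1, 3, 0, 2, 1, 0, 3, 3, 2, 0, 3, 3, 2, 0, 3, 2, 0, 8, 3, 1, 3, 0, 2, 1, 0, 5, 3, 4, 8, 5, 5, 3, 5, 3, 4, 8, 5, 5, 3, 4, 8, 5, 5, 3, 4, 8, 5, 5, 3] 1]],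
  .sub [3, 16, 0, 4] [.out 556],
  .sub [4, 16, 0, 4] [.out 4608],
  .sub [5, 16, 0, 4] [.out 2157],
  .sub [8, 16, 0, 4] [.sub [4, 8, 5, 5, 3, 4, 8, 5, 5, 3, 4, 8, 5, 5, 3, 5, 3, 4, 8, 5, 5, 3, 5, 3, 4, 8, 5, 5, 3] [.out 3482]],
  .sub [11, 16, 0, 4] [.out 1845],
  .sub [12, 16, 0, 4] [.out 2755],
  .sub [16, 16, 0, 4] [.out 2113],
  .sub [17, 16, 0, 4] [.out 6064],
  .sub [18, 16, 0, 4] [.out 4194],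
  .sub [19, 16, 0, 4] [.out 1779],
  .sub [21, 16, 0, 4] [.out 1862],
  .sub [0, 17, 0, 4] [.out 3001],
  .sub [4, 17, 0, 4] [.out 3813],
  .sub [5, 17, 0, 4] [.out 4049],
  .sub [6, 17, 0, 4] [.out 3097],
  .sub [10, 17, 0, 4] [.out 235],
  .sub [11, 17, 0, 4] [.out 3122],
  .sub [13, 17, 0, 4] [.out 5846],
  .sub [14, 17, 0, 4] [.out 5213],
  .sub [16, 17, 0, 4] [.out 1585],
  .sub [21, 17, 0, 4] [.out 1159],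
  .sub [3, 18, 0, 4] [.out 5664],
  .sub [4, 18, 0, 4] [.out 2880],
  .sub [5, 18, 0, 4] [.out 2562],
  .sub [6, 18, 0, 4] [.out 3566],
  .sub [8, 18, 0, 4] [.out 5529],
  .sub [9, 18, 0, 4] [.out 4391],
  .sub [10, 18, 0, 4] [.sub [5, 3, 5, 3, 4, 8, 5, 5, 3, 5, 3, 5, 3, 4, 8, 5, 5, 3, 4, 8, 5, 5, 3, 5, 3, 4, 8, 5, 5, 3, 4, 8, 5, 5, 3, 4, 8, 5] [.out 788]],
  .sub [11, 18, 0, 4] [.out 5376],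
  .sub [12, 18, 0, 4] [.out 4849],
  .sub [13, 18, 0, 4] [.out 5321],
  .sub [14, 18, 0, 4] [.out 3089],
  .sub [0, 19, 0, 4] [.out 2184],
  .sub [4, 19, 0, 4] [.out 5653],
  .sub [5, 19, 0, 4] [.out 5217],
  .sub [6, 19, 0, 4] [.out 413],
  .sub [8, 19, 0, 4] [.out 2851],
  .sub [10, 19, 0, 4] [.out 4031],
  .sub [11, 19, 0, 4] [.out 5980],
  .sub [14, 19, 0, 4] [.sub [5, 3, 5, 3, 5, 3, 4, 8, 5, 5, 3, 4, 8, 5, 5, 3, 4, 8, 5, 5, 3, 5, 3, 5, 3, 4, 8, 5, 5, 3] [.out 212]],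
  .sub [16, 19, 0, 4] [.out 3955],
  .sub [21, 19, 0, 4] [.out 3310],
  .sub [6, 20, 0, 4] [.out 1262],
  .sub [8, 20, 0, 4] [.out 4260],
  .sub [16, 20, 0, 4] [.out 3687],
  .sub [3, 21, 0, 4] [.sub [5, 3, 5, 3, 4, 8, 5, 5, 3, 5, 3, 4, 8, 5, 5, 3, 4, 8, 5, 5, 3, 5, 3, 4, 8, 5, 5, 3, 4, 8, 5, 5, 3, 5, 3, 5, 3] [.out 427]],
  .sub [4, 21, 0, 4] [.out 5545],
  .sub [5, 21, 0, 4] [.out 1123],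
  .sub [6, 21, 0, 4] [.sub [4, 8, 5, 5, 3, 4, 8, 5, 5, 3, 4, 8, 5, 5, 3, 4, 8, 5, 5, 3, 5, 3, 4, 8, 5, 5, 3, 5, 3, 5, 3, 4, 8, 5, 5, 3, 4, 8, 5, 5, 3, 5, 3] [.out 736]],
  .sub [7, 21, 0, 4] [.out 1523],
  .sub [8, 21, 0, 4] [.out 141],
  .sub [11, 21, 0, 4] [.out 4070],
  .sub [12, 21, 0, 4] [.out 784],
  .sub [14, 21, 0, 4] [.out 3349],
  .sub [17, 21, 0, 4] [.sub [5, 3, 4, 8, 5, 5, 3, 5, 3, 5, 3, 4, 8, 5, 5, 3, 4, 8, 5, 5, 3] [.out 5837]],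
  .sub [19, 21, 0, 4] [.out 3142],
  .sub [21, 21, 0, 4] [.out 5351],
  .sub [4, 2, 1, 4] [.out 5529],
  .sub [6, 2, 1, 4] [.out 692],
  .sub [11, 2, 1, 4] [.out 2279],
  .sub [21, 2, 1, 4] [.out 2071],
  .sub [2, 4, 1, 4] [.out 108],
  .sub [3, 4, 1, 4] [.out 4519],
  .sub [4, 4, 1, 4] [.out 3204],
  .sub [5, 4, 1, 4] [.out 1619],
  .sub [7, 4, 1, 4] [.out 991],
  .sub [8, 4, 1, 4] [.out 259],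
  .sub [9, 4, 1, 4] [.out 6031],
  .sub [11, 4, 1, 4] [.out 2512],
  .sub [12, 4, 1, 4] [.out 4373],
  .sub [13, 4, 1, 4] [.out 3339],
  .sub [17, 4, 1, 4] [.out 2537],
  .sub [19, 4, 1, 4] [.sub [5, 3, 5, 3, 5, 3, 4, 8, 5, 5, 3, 4, 8, 5, 5, 3, 5, 3, 4, 8, 5, 5, 3, 4, 8, 5, 5, 3] [.out 3705]],
  .sub [20, 4, 1, 4] [.out 1785],
  .sub [2, 6, 1, 4] [.out 6005],
  .sub [3, 6, 1, 4] [.sub [5, 3, 5, 3, 5, 3, 4, 8, 5, 5, 3, 5, 3, 4, 8, 5, 5, 3, 4, 8, 5, 5, 3, 4, 8, 5, 5, 3, 5, 3, 4, 8, 5] [.out 2915]],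
  .sub [4, 6, 1, 4] [.out 570],
  .sub [5, 6, 1, 4] [.out 616],
  .sub [7, 6, 1, 4] [.out 2683],
  .sub [8, 6, 1, 4] [.out 1229],
  .sub [9, 6, 1, 4] [.out 419],
  .sub [11, 6, 1, 4] [.sub [4, 8, 5, 5, 3, 5, 3, 4, 8, 5, 5, 3, 4, 8, 5, 5, 3, 4, 8, 5, 5, 3, 5, 3, 4, 8, 5, 5, 3, 4, 8, 5, 5, 3, 5, 3, 5, 3] [.out 6084]],
  .sub [12, 6, 1, 4] [.out 5909],
  .sub [13, 6, 1, 4] [.out 1379],
  .sub [16, 6, 1, 4] [.out 5927],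
  .sub [18, 6, 1, 4] [.out 4814],
  .sub [21, 6, 1, 4] [.out 5351],
  .sub [10, 8, 1, 4] [.out 2978],
  .sub [17, 8, 1, 4] [.out 2018],
  .sub [19, 8, 1, 4] [.sub [4, 8, 5, 5, 3, 4, 8, 5, 5, 3, 5, 3, 5, 3, 4, 8, 5, 5, 3, 5, 3, 4, 8, 5, 5, 3, 4, 8, 5, 5, 3, 4, 8, 5, 5, 3, 5, 3] [.out 6037]],
  .sub [4, 10, 1, 4] [.out 1608],
  .sub [5, 10, 1, 4] [.out 413],
  .sub [8, 10, 1, 4] [.sub [4, 8, 5, 5, 3, 4, 8, 5, 5, 3, 5, 3, 4, 8, 5, 5, 3, 4, 8, 5, 5, 3, 5, 3, 5, 3, 4, 8, 5, 5, 3, 4, 8, 5, 5, 3, 5, 3, 4, 8, 5] [.out 422]],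
  .sub [9, 10, 1, 4] [.sub [5, 3, 4, 8, 5, 5, 3, 4, 8, 5, 5, 3, 5, 3, 5, 3, 4, 8, 5, 5, 3, 4, 8, 5, 5, 3, 5, 3, 4, 8, 5, 5, 3, 5, 3, 5, 3, 4, 8, 5, 5, 3] [.out 3522]],
  .sub [10, 10, 1, 4] [.out 2583],
  .sub [11, 10, 1, 4] [.out 5087],
  .sub [13, 10, 1, 4] [.out 2485],
  .sub [17, 10, 1, 4] [.out 2057],
  .sub [2, 11, 1, 4] [.sub [4, 8, 5, 5, 3, 5, 3, 4, 8, 5, 5, 3, 5, 3, 5, 3, 4, 8, 5, 5, 3, 4, 8, 5, 5, 3, 5, 3, 4, 8, 5, 5, 3, 4, 8, 5, 5, 3, 4, 8, 5] [.out 471]],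
  .sub [5, 11, 1, 4] [.out 4785],
  .sub [6, 11, 1, 4] [.sub [4, 8, 5, 5, 3, 4, 8, 5, 5, 3, 5, 3, 4, 8, 5, 5, 3, 4, 8, 5, 5, 3, 5, 3, 5, 3, 4, 8, 5, 5, 3, 5, 3, 5, 3] [.out 483]],
  .sub [7, 11, 1, 4] [.out 2366],
  .sub [9, 11, 1, 4] [.out 507],
  .sub [10, 11, 1, 4] [.out 1577],
  .sub [11, 11, 1, 4] [.out 1749],
  .sub [12, 11, 1, 4] [.sub [4, 8, 5, 5, 3, 5, 3, 4, 8, 5, 5, 3, 5, 3, 5, 3, 4, 8, 5, 5, 3, 4, 8, 5, 5, 3] [.out 5298]],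
  .sub [13, 11, 1, 4] [.out 5750],
  .sub [17, 11, 1, 4] [.out 4154],
  .sub [18, 11, 1, 4] [.out 1451],
  .sub [19, 11, 1, 4] [.out 573],
  .sub [20, 11, 1, 4] [.out 5864],
  .sub [3, 12, 1, 4] [.out 845],
  .sub [4, 12, 1, 4] [.out 3402],
  .sub [5, 12, 1, 4] [.out 1084],
  .sub [8, 12, 1, 4] [.out 3993],
  .sub [9, 12, 1, 4] [.out 2848],
  .sub [11, 12, 1, 4] [.out 1619],
  .sub [12, 12, 1, 4] [.out 2536],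
  .sub [4, 13, 1, 4] [.out 1986],
  .sub [6, 13, 1, 4] [.out 6110],
  .sub [8, 13, 1, 4] [.sub [5, 3, 5, 3, 4, 8, 5, 5, 3, 4, 8, 5, 5, 3, 5, 3, 4, 8, 5, 5, 3, 5, 3, 5, 3, 4, 8, 5, 5, 3, 4, 8, 5] [.out 32]],
  .sub [10, 13, 1, 4] [.out 3890],
  .sub [11, 13, 1, 4] [.out 5094],
  .sub [12, 13, 1, 4] [.out 57],
  .sub [13, 13, 1, 4] [.out 4445],
  .sub [18, 13, 1, 4] [.out 381],
  .sub [19, 13, 1, 4] [.sub [4, 8, 5, 5, 3, 5, 3, 4, 8, 5, 5, 3, 4, 8, 5, 5, 3, 5, 3, 4, 8, 5, 5, 3, 4, 8, 5, 5, 3, 5, 3, 5, 3] [.out 3504]],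
  .sub [20, 13, 1, 4] [.out 87],
  .sub [4, 14, 1, 4] [.out 4721],
  .sub [8, 14, 1, 4] [.out 4241],
  .sub [11, 14, 1, 4] [.out 4804],
  .sub [12, 14, 1, 4] [.out 607],
  .sub [18, 14, 1, 4] [.sub [5, 3, 5, 3, 4, 8, 5, 5, 3, 4, 8, 5, 5, 3, 5, 3, 5, 3, 4, 8, 5, 5, 3, 5, 3, 4, 8, 5, 5, 3] [.out 3011]],
  .sub [21, 14, 1, 4] [.sub [4, 8, 5, 5, 3, 5, 3, 5, 3, 4, 8, 5, 5, 3, 4, 8, 5, 5, 3, 4, 8, 5, 5, 3, 5, 3, 4, 8, 5, 5, 3, 5, 3] [.out 1916]],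
  .sub [4, 17, 1, 4] [.out 3981],
  .sub [11, 17, 1, 4] [.out 1258],
  .sub [6, 18, 1, 4] [.out 1571],
  .sub [4, 20, 1, 4] [.sub [5, 3, 5, 3, 4, 8, 5, 5, 3, 4, 8, 5, 5, 3, 4, 8, 5, 5, 3, 5, 3] [.out 4947]],
  .sub [6, 20, 1, 4] [.out 1242],
  .sub [11, 20, 1, 4] [.out 4369],
  .sub [4, 21, 1, 4] [.out 547],
  .sub [10, 21, 1, 4] [.sub [4, 8, 5, 5, 3, 5, 3, 5, 3, 4, 8, 5, 5, 3, 4, 8, 5, 5, 3, 5, 3] [.out 2226]],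
  .sub [11, 21, 1, 4] [.out 6103],
  .sub [14, 21, 1, 4] [.sub [4, 8, 5, 5, 3, 5, 3, 5, 3, 4, 8, 5, 5, 3, 4, 8, 5, 5, 3, 5, 3, 5, 3, 4, 8, 5, 5, 3, 5, 3, 4, 8, 5, 5, 3, 4, 8, 5, 5, 3, 4, 8, 5] [.out 3928]],
  .sub [1, 3, 2, 4] [.out 990],
  .sub [4, 3, 2, 4] [.out 5303],
  .sub [6, 3, 2, 4] [.sub [4, 8, 5, 5, 3, 4, 8, 5, 5, 3, 5, 3, 4, 8, 5, 5, 3, 4, 8, 5, 5, 3, 5, 3, 4, 8, 5, 5, 3, 5, 3, 5, 3, 4, 8, 5, 5, 3] [.out 2656]],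
  .sub [8, 3, 2, 4] [.out 739],
  .sub [11, 3, 2, 4] [.out 3455],
  .sub [16, 3, 2, 4] [.out 556],
  .sub [17, 3, 2, 4] [.out 1205],
  .sub [0, 4, 2, 4] [.out 4025],
  .sub [1, 4, 2, 4] [.out 3898],
  .sub [2, 4, 2, 4] [.out 676],
  .sub [3, 4, 2, 4] [.out 2093],
  .sub [5, 4, 2, 4] [.out 4620],
  .sub [6, 4, 2, 4] [.out 220],
  .sub [7, 4, 2, 4] [.out 234],
  .sub [8, 4, 2, 4] [.sub [5, 3, 5, 3, 4, 8, 5, 5, 3, 4, 8, 5, 5, 3, 5, 3] [.out 655]],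
  .sub [9, 4, 2, 4] [.out 5264],
  .sub [10, 4, 2, 4] [.out 4952],
  .sub [11, 4, 2, 4] [.sub [5, 3, 5, 3, 4, 8, 5, 5, 3, 4, 8, 5, 5, 3, 5, 3, 4, 8, 5, 5, 3, 5, 3, 4, 8, 5, 5, 3, 4, 8, 5, 5, 3, 4, 8, 5, 5, 3, 5, 3, 4, 8, 5] [.out 89]],
  .sub [12, 4, 2, 4] [.out 2171],
  .sub [13, 4, 2, 4] [.out 356],
  .sub [14, 4, 2, 4] [.out 2696],
  .sub [16, 4, 2, 4] [.sub [5, 3, 5, 3, 4, 8, 5, 5, 3, 5, 3, 4, 8, 5, 5, 3, 4, 8, 5, 5, 3, 5, 3, 4, 8, 5, 5, 3, 5, 3] [.out 6047]],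
  .sub [17, 4, 2, 4] [.out 4920],
  .sub [18, 4, 2, 4] [.out 3523],
  .sub [19, 4, 2, 4] [.out 2842],
  .sub [20, 4, 2, 4] [.out 1380]]

/-- Branches. -/
def kidsXPart8 : List Branch := [
  .sub [6, 5, 2, 4] [.out 2562],
  .sub [9, 5, 2, 4] [.out 3929],
  .sub [10, 5, 2, 4] [.out 1625],
  .sub [12, 5, 2, 4] [.out 3327],
  .sub [17, 5, 2, 4] [.out 2482],
  .sub [18, 5, 2, 4] [.out 2390],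
  .sub [21, 5, 2, 4] [.out 86],
  .sub [2, 6, 2, 4] [.out 4870],
  .sub [3, 6, 2, 4] [.out 3455],
  .sub [4, 6, 2, 4] [.out 1270],
  .sub [5, 6, 2, 4] [.out 1468],
  .sub [8, 6, 2, 4] [.out 5355],
  .sub [9, 6, 2, 4] [.out 5688],
  .sub [10, 6, 2, 4] [.sub [4, 8, 5, 5, 3, 4, 8, 5, 5, 3, 5, 3, 4, 8, 5, 5, 3, 5, 3, 5, 3, 4, 8, 5, 5, 3, 4, 8, 5, 5, 3, 4, 8, 5] [.out 3474]],
  .sub [11, 6, 2, 4] [.out 3639],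
  .sub [12, 6, 2, 4] [.out 3307],
  .sub [16, 6, 2, 4] [.out 4730],
  .sub [18, 6, 2, 4] [.sub [5, 3, 4, 8, 5, 5, 3, 4, 8, 5, 5, 3, 4, 8, 5, 5, 3, 5, 3, 5, 3, 4, 8, 5, 5, 3, 4, 8, 5] [.out 2217]],
  .sub [19, 6, 2, 4] [.out 2791],
  .sub [20, 6, 2, 4] [.out 2947],
  .sub [4, 7, 2, 4] [.out 1460],
  .sub [8, 7, 2, 4] [.out 542],
  .sub [11, 7, 2, 4] [.out 3250],
  .sub [12, 7, 2, 4] [.out 89],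
  .sub [17, 7, 2, 4] [.out 39],
  .sub [21, 7, 2, 4] [.out 3215],
  .sub [0, 8, 2, 4] [.out 2191],
  .sub [1, 8, 2, 4] [.out 3598],
  .sub [2, 8, 2, 4] [.out 1116],
  .sub [6, 8, 2, 4] [.out 2942],
  .sub [7, 8, 2, 4] [.out 2293],
  .sub [9, 8, 2, 4] [.out 5014],
  .sub [10, 8, 2, 4] [.out 2716],
  .sub [12, 8, 2, 4] [.out 3976],
  .sub [13, 8, 2, 4] [.sub [4, 8, 5, 5, 3, 4, 8, 5, 5, 3, 5, 3, 5, 3, 4, 8, 5, 5, 3, 4, 8, 5, 5, 3, 4, 8, 5, 5, 3, 5, 3, 4, 8, 5, 5, 3] [.out 975]],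
  .sub [14, 8, 2, 4] [.out 3202],
  .sub [16, 8, 2, 4] [.out 2118],
  .sub [17, 8, 2, 4] [.sub [4, 8, 5, 5, 3, 5, 3, 5, 3, 4, 8, 5, 5, 3, 4, 8, 5, 5, 3, 5, 3, 5, 3, 4, 8, 5, 5, 3, 4, 8, 5, 5, 3, 5, 3, 4, 8, 5] [.out 67]],
  .sub [18, 8, 2, 4] [.out 2679],
  .sub [19, 8, 2, 4] [.out 1300],
  .sub [20, 8, 2, 4] [.out 828],
  .sub [21, 8, 2, 4] [.out 3255],
  .sub [1, 9, 2, 4] [.out 3164],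
  .sub [6, 9, 2, 4] [.out 3742],
  .sub [16, 9, 2, 4] [.out 4197],
  .sub [17, 9, 2, 4] [.out 3491],
  .sub [21, 9, 2, 4] [.out 1843],
  .sub [0, 11, 2, 4] [.out 4296],
  .sub [1, 11, 2, 4] [.out 2111],
  .sub [2, 11, 2, 4] [.sub [5, 3, 5, 3, 5, 3, 4, 8, 5, 5, 3, 5, 3, 4, 8, 5, 5, 3, 4, 8, 5, 5, 3, 5, 3] [.bad [3, 3, 2, 0, 3, 3, 2, 0, 3, 2, 0, 8, 3, 1, 3, 0, 2, 1, 0, 3, 3, 2, 0, 3, 3, 2, 0, 3, 3, 2, 0, 3, 2, 0, 8, 3, 1, 3, 0, 2, 1, 0, 3, 3, 2, 0, 3, 2, 0, 8, 3, 1, 3, 0, 2, 1, 0, 5, 3, 4, 8, 5, 5, 3, 5, 3, 4, 8, 5, 5, 3, 5, 3, 5, 3, 4, 8, 5, 5, 3, 5, 3, 3, 2, 0, 8, 3, 1, 3, 0, 2, 1, 0, 3, 3, 2, 0, 3, 3, 2, 0, 3, 2, 0, 8, 3, 1, 3, 0, 2, 1, 0, 5, 3, 4, 8, 5, 5, 3, 4, 8, 5, 5, 3, 5, 3, 5, 3, 4, 8, 5] 1]],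
  .sub [3, 11, 2, 4] [.sub [5, 3, 5, 3, 4, 8, 5, 5, 3, 4, 8, 5, 5, 3, 5, 3, 4, 8, 5, 5, 3, 4, 8, 5, 5, 3, 5, 3, 4, 8, 5, 5, 3, 5, 3, 4, 8, 5, 5, 3] [.out 709]],
  .sub [4, 11, 2, 4] [.out 2961],
  .sub [5, 11, 2, 4] [.out 1437],
  .sub [6, 11, 2, 4] [.out 5204],
  .sub [9, 11, 2, 4] [.out 4996],
  .sub [10, 11, 2, 4] [.out 2353],
  .sub [11, 11, 2, 4] [.out 547],
  .sub [12, 11, 2, 4] [.out 5429],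
  .sub [13, 11, 2, 4] [.out 4167],
  .sub [16, 11, 2, 4] [.out 3351],
  .sub [17, 11, 2, 4] [.out 3191],
  .sub [18, 11, 2, 4] [.out 951],
  .sub [19, 11, 2, 4] [.out 5020],
  .sub [20, 11, 2, 4] [.out 762],
  .sub [0, 12, 2, 4] [.out 2947],
  .sub [2, 12, 2, 4] [.out 817],
  .sub [3, 12, 2, 4] [.out 3000],
  .sub [4, 12, 2, 4] [.out 3892],
  .sub [5, 12, 2, 4] [.out 1731],
  .sub [6, 12, 2, 4] [.out 2593],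
  .sub [7, 12, 2, 4] [.sub [4, 8, 5, 5, 3, 4, 8, 5, 5, 3, 5, 3, 4, 8, 5, 5, 3, 5, 3, 5, 3] [.out 444]],
  .sub [8, 12, 2, 4] [.out 4156],
  .sub [9, 12, 2, 4] [.out 5348],
  .sub [10, 12, 2, 4] [.out 5784],
  .sub [11, 12, 2, 4] [.out 2219],
  .sub [12, 12, 2, 4] [.out 1426],
  .sub [13, 12, 2, 4] [.out 5577],
  .sub [14, 12, 2, 4] [.out 2720],
  .sub [17, 12, 2, 4] [.out 3414],
  .sub [18, 12, 2, 4] [.sub [5, 3, 5, 3, 5, 3, 4, 8, 5, 5, 3, 4, 8, 5, 5, 3, 5, 3, 5, 3, 4, 8, 5, 5, 3] [.out 4654]],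
  .sub [19, 12, 2, 4] [.out 880],
  .sub [20, 12, 2, 4] [.out 790],
  .sub [21, 12, 2, 4] [.sub [5, 3, 4, 8, 5, 5, 3, 5, 3, 4, 8, 5, 5, 3, 4, 8, 5, 5, 3, 5, 3, 5, 3, 4, 8, 5, 5, 3, 4, 8, 5] [.out 5377]],
  .sub [3, 13, 2, 4] [.out 3469],
  .sub [4, 13, 2, 4] [.out 2339],
  .sub [5, 13, 2, 4] [.out 212],
  .sub [6, 13, 2, 4] [.out 3294],
  .sub [8, 13, 2, 4] [.out 3164],
  .sub [10, 13, 2, 4] [.out 4692],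
  .sub [11, 13, 2, 4] [.sub [4, 8, 5, 5, 3, 4, 8, 5, 5, 3, 4, 8, 5, 5, 3, 5, 3, 4, 8, 5, 5, 3, 5, 3, 4, 8, 5, 5, 3, 4, 8, 5, 5, 3] [.out 2534]],
  .sub [17, 13, 2, 4] [.out 4077],
  .sub [21, 13, 2, 4] [.out 5232],
  .sub [2, 16, 2, 4] [.out 1483],
  .sub [3, 16, 2, 4] [.out 2675],
  .sub [4, 16, 2, 4] [.out 5766],
  .sub [5, 16, 2, 4] [.sub [5, 3, 5, 3, 5, 3, 4, 8, 5, 5, 3, 5, 3, 4, 8, 5, 5, 3, 4, 8, 5, 5, 3, 5, 3, 5, 3] [.out 1883]],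
  .sub [7, 16, 2, 4] [.out 3600],
  .sub [8, 16, 2, 4] [.out 6095],
  .sub [9, 16, 2, 4] [.out 658],
  .sub [10, 16, 2, 4] [.out 1057],
  .sub [11, 16, 2, 4] [.out 1602],
  .sub [12, 16, 2, 4] [.out 1471],
  .sub [13, 16, 2, 4] [.out 795],
  .sub [17, 16, 2, 4] [.out 3578],
  .sub [18, 16, 2, 4] [.out 5352],
  .sub [19, 16, 2, 4] [.out 5794],
  .sub [20, 16, 2, 4] [.out 3642],
  .sub [21, 16, 2, 4] [.out 5754],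
  .sub [0, 17, 2, 4] [.out 4805],
  .sub [1, 17, 2, 4] [.sub [5, 3, 4, 8, 5, 5, 3, 4, 8, 5, 5, 3, 4, 8, 5, 5, 3, 5, 3, 5, 3, 4, 8, 5, 5, 3] [.out 2612]],
  .sub [4, 17, 2, 4] [.sub [4, 8, 5, 5, 3, 5, 3, 4, 8, 5, 5, 3, 4, 8, 5, 5, 3, 4, 8, 5, 5, 3, 5, 3, 4, 8, 5, 5, 3, 4, 8, 5] [.out 6073]],
  .sub [5, 17, 2, 4] [.out 383],
  .sub [6, 17, 2, 4] [.out 3266],
  .sub [8, 17, 2, 4] [.sub [5, 3, 4, 8, 5, 5, 3, 5, 3, 4, 8, 5, 5, 3, 4, 8, 5, 5, 3, 5, 3] [.out 4355]],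
  .sub [11, 17, 2, 4] [.out 6135],
  .sub [12, 17, 2, 4] [.out 5491],
  .sub [4, 18, 2, 4] [.out 2074],
  .sub [5, 18, 2, 4] [.out 1380],
  .sub [8, 18, 2, 4] [.out 3353],
  .sub [11, 18, 2, 4] [.out 1142],
  .sub [12, 18, 2, 4] [.out 4808],
  .sub [13, 18, 2, 4] [.sub [5, 3, 4, 8, 5, 5, 3, 5, 3, 4, 8, 5, 5, 3, 4, 8, 5, 5, 3, 4, 8, 5] [.out 815]],
  .sub [4, 19, 2, 4] [.sub [5, 3, 4, 8, 5, 5, 3, 5, 3, 5, 3, 4, 8, 5, 5, 3, 4, 8, 5, 5, 3, 4, 8, 5, 5, 3, 5, 3, 4, 8, 5, 5, 3] [.out 4375]],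
  .sub [5, 19, 2, 4] [.sub [5, 3, 5, 3, 4, 8, 5, 5, 3, 5, 3, 4, 8, 5, 5, 3, 4, 8, 5, 5, 3, 5, 3, 5, 3, 4, 8, 5, 5, 3, 5, 3] [.out 2856]],
  .sub [6, 19, 2, 4] [.out 3861],
  .sub [8, 19, 2, 4] [.sub [5, 3, 4, 8, 5, 5, 3, 4, 8, 5, 5, 3, 4, 8, 5, 5, 3, 5, 3, 4, 8, 5, 5, 3, 4, 8, 5, 5, 3, 5, 3, 5, 3] [.out 686]],
  .sub [11, 19, 2, 4] [.out 1611],
  .sub [12, 19, 2, 4] [.out 1967],
  .sub [16, 19, 2, 4] [.out 885],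
  .sub [21, 19, 2, 4] [.out 653],
  .sub [11, 20, 2, 4] [.out 3361],
  .sub [21, 20, 2, 4] [.out 116],
  .sub [1, 21, 2, 4] [.out 3549],
  .sub [4, 21, 2, 4] [.out 85],
  .sub [5, 21, 2, 4] [.out 1497],
  .sub [6, 21, 2, 4] [.out 5470],
  .sub [7, 21, 2, 4] [.out 2192],
  .sub [8, 21, 2, 4] [.sub [5, 3, 4, 8, 5, 5, 3, 4, 8, 5, 5, 3, 4, 8, 5, 5, 3, 5, 3, 4, 8, 5, 5, 3, 5, 3, 4, 8, 5, 5, 3, 4, 8, 5, 5, 3] [.out 788]],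
  .sub [9, 21, 2, 4] [.out 3685],
  .sub [10, 21, 2, 4] [.out 3439],
  .sub [11, 21, 2, 4] [.out 3652],
  .sub [12, 21, 2, 4] [.sub [4, 8, 5, 5, 3, 4, 8, 5, 5, 3, 5, 3, 4, 8, 5, 5, 3, 4, 8, 5, 5, 3, 5, 3, 4, 8, 5, 5, 3, 4, 8, 5, 5, 3] [.out 3608]],
  .sub [14, 21, 2, 4] [.out 4807],
  .sub [16, 21, 2, 4] [.out 3349],
  .sub [21, 21, 2, 4] [.out 1330],
  .sub [2, 1, 3, 4] [.out 1650],
  .sub [4, 1, 3, 4] [.out 5529],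
  .sub [5, 1, 3, 4] [.out 1740],
  .sub [10, 1, 3, 4] [.out 837],
  .sub [12, 1, 3, 4] [.out 2974],
  .sub [13, 1, 3, 4] [.out 4565],
  .sub [17, 1, 3, 4] [.out 3279],
  .sub [18, 1, 3, 4] [.sub [5, 3, 5, 3, 4, 8, 5, 5, 3, 4, 8, 5, 5, 3, 5, 3, 4, 8, 5, 5, 3, 5, 3, 4, 8, 5] [.out 463]],
  .sub [19, 1, 3, 4] [.out 1711],
  .sub [21, 1, 3, 4] [.sub [4, 8, 5, 5, 3, 4, 8, 5, 5, 3, 4, 8, 5, 5, 3, 5, 3, 5, 3, 4, 8, 5, 5, 3, 5, 3, 4, 8, 5, 5, 3, 4, 8, 5, 5, 3, 4, 8, 5] [.out 3375]],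
  .sub [2, 6, 3, 4] [.out 1229],
  .sub [3, 6, 3, 4] [.out 1566],
  .sub [4, 6, 3, 4] [.out 1532],
  .sub [5, 6, 3, 4] [.out 2498],
  .sub [7, 6, 3, 4] [.out 3039],
  .sub [8, 6, 3, 4] [.out 494],
  .sub [10, 6, 3, 4] [.sub [4, 8, 5, 5, 3, 5, 3, 4, 8, 5, 5, 3, 5, 3, 5, 3, 4, 8, 5, 5, 3] [.out 5334]],
  .sub [11, 6, 3, 4] [.out 1537],
  .sub [13, 6, 3, 4] [.out 5799],
  .sub [18, 6, 3, 4] [.out 4302],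
  .sub [19, 6, 3, 4] [.out 4362],
  .sub [20, 6, 3, 4] [.out 2168],
  .sub [21, 6, 3, 4] [.out 5763],
  .sub [4, 7, 3, 4] [.out 5357],
  .sub [6, 7, 3, 4] [.out 4036],
  .sub [21, 7, 3, 4] [.out 3295],
  .sub [0, 10, 3, 4] [.out 4051],
  .sub [2, 10, 3, 4] [.sub [5, 3, 5, 3, 5, 3, 4, 8, 5, 5, 3, 4, 8, 5, 5, 3, 4, 8, 5, 5, 3, 5, 3, 4, 8, 5, 5, 3, 4, 8, 5, 5, 3, 4, 8, 5] [.out 5723]],
  .sub [4, 10, 3, 4] [.out 4535],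
  .sub [6, 10, 3, 4] [.out 1908],
  .sub [7, 10, 3, 4] [.out 3242],
  .sub [8, 10, 3, 4] [.out 4296],
  .sub [10, 10, 3, 4] [.out 764],
  .sub [11, 10, 3, 4] [.out 3294],
  .sub [12, 10, 3, 4] [.out 2789],
  .sub [13, 10, 3, 4] [.out 313],
  .sub [14, 10, 3, 4] [.out 2397],
  .sub [17, 10, 3, 4] [.out 5683],
  .sub [18, 10, 3, 4] [.out 3855],
  .sub [19, 10, 3, 4] [.sub [4, 8, 5, 5, 3, 5, 3, 4, 8, 5, 5, 3, 5, 3, 5, 3, 4, 8, 5, 5, 3, 4, 8, 5, 5, 3, 5, 3, 5, 3, 4, 8, 5, 5, 3, 4, 8, 5] [.out 3011]],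
  .sub [20, 10, 3, 4] [.out 1319],
  .sub [21, 10, 3, 4] [.out 2231],
  .sub [3, 13, 3, 4] [.out 4282],
  .sub [4, 13, 3, 4] [.out 800],
  .sub [5, 13, 3, 4] [.out 6009],
  .sub [6, 13, 3, 4] [.out 703],
  .sub [8, 13, 3, 4] [.out 5067]]

/-- Branches. -/
def kidsXPart9 : List Branch := [
  .sub [9, 13, 3, 4] [.out 3359],
  .sub [10, 13, 3, 4] [.out 2281],
  .sub [12, 13, 3, 4] [.out 3436],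
  .sub [13, 13, 3, 4] [.out 2914],
  .sub [18, 13, 3, 4] [.out 4106],
  .sub [19, 13, 3, 4] [.out 5563],
  .sub [20, 13, 3, 4] [.out 5032],
  .sub [21, 13, 3, 4] [.out 2979],
  .sub [4, 14, 3, 4] [.out 1512],
  .sub [6, 14, 3, 4] [.out 2498],
  .sub [8, 14, 3, 4] [.out 1877],
  .sub [10, 14, 3, 4] [.sub [4, 8, 5, 5, 3, 5, 3, 4, 8, 5, 5, 3, 5, 3, 5, 3, 4, 8, 5, 5, 3, 5, 3, 4, 8, 5, 5, 3, 4, 8, 5, 5, 3, 4, 8, 5] [.out 4818]],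
  .sub [13, 14, 3, 4] [.out 4728],
  .sub [14, 14, 3, 4] [.sub [4, 8, 5, 5, 3, 5, 3, 5, 3, 4, 8, 5, 5, 3, 4, 8, 5, 5, 3, 4, 8, 5, 5, 3, 5, 3, 5, 3, 4, 8, 5, 5, 3] [.out 582]],
  .sub [17, 14, 3, 4] [.out 4137],
  .sub [18, 14, 3, 4] [.out 3918],
  .sub [20, 14, 3, 4] [.sub [4, 8, 5, 5, 3, 4, 8, 5, 5, 3, 5, 3, 4, 8, 5, 5, 3, 4, 8, 5, 5, 3, 4, 8, 5, 5, 3, 5, 3, 4, 8, 5, 5, 3, 4, 8, 5, 5, 3, 4, 8, 5] [.out 2558]],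
  .sub [21, 14, 3, 4] [.out 1910],
  .sub [4, 16, 3, 4] [.out 912],
  .sub [7, 16, 3, 4] [.out 2853],
  .sub [16, 16, 3, 4] [.out 6033],
  .sub [17, 16, 3, 4] [.out 4279],
  .sub [18, 16, 3, 4] [.sub [5, 3, 4, 8, 5, 5, 3, 5, 3, 4, 8, 5, 5, 3, 5, 3, 4, 8, 5] [.out 2713]],
  .sub [19, 16, 3, 4] [.out 1285],
  .sub [21, 16, 3, 4] [.out 2411],
  .sub [6, 17, 3, 4] [.out 5116],
  .sub [8, 17, 3, 4] [.out 5696],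
  .sub [10, 17, 3, 4] [.out 1807],
  .sub [11, 17, 3, 4] [.out 5852],
  .sub [13, 17, 3, 4] [.out 1158],
  .sub [14, 17, 3, 4] [.out 2888],
  .sub [21, 17, 3, 4] [.out 1762],
  .sub [1, 18, 3, 4] [.out 4828],
  .sub [4, 18, 3, 4] [.out 1421],
  .sub [6, 18, 3, 4] [.sub [5, 3, 4, 8, 5, 5, 3, 4, 8, 5, 5, 3, 5, 3, 5, 3, 4, 8, 5, 5, 3, 4, 8, 5, 5, 3] [.out 3014]],
  .sub [8, 18, 3, 4] [.out 5752],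
  .sub [10, 18, 3, 4] [.out 5482],
  .sub [11, 18, 3, 4] [.out 2836],
  .sub [13, 18, 3, 4] [.out 1491],
  .sub [14, 18, 3, 4] [.out 9],
  .sub [21, 18, 3, 4] [.out 5295],
  .sub [6, 19, 3, 4] [.out 5779],
  .sub [8, 19, 3, 4] [.out 3730],
  .sub [11, 19, 3, 4] [.out 5673],
  .sub [16, 19, 3, 4] [.out 5975],
  .sub [21, 19, 3, 4] [.out 125],
  .sub [1, 21, 3, 4] [.sub [5, 3, 5, 3, 5, 3, 4, 8, 5, 5, 3, 5, 3, 4, 8, 5, 5, 3, 4, 8, 5, 5, 3, 5, 3, 4, 8, 5, 5, 3, 5, 3] [.out 2177]],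
  .sub [4, 21, 3, 4] [.out 962],
  .sub [5, 21, 3, 4] [.out 785],
  .sub [6, 21, 3, 4] [.out 1471],
  .sub [7, 21, 3, 4] [.out 2453],
  .sub [8, 21, 3, 4] [.sub [4, 8, 5, 5, 3, 5, 3, 4, 8, 5, 5, 3, 4, 8, 5, 5, 3, 5, 3, 4, 8, 5, 5, 3, 4, 8, 5, 5, 3, 5, 3, 4, 8, 5, 5, 3, 5, 3, 4, 8, 5, 5, 3] [.out 2217]],
  .sub [9, 21, 3, 4] [.out 5959],
  .sub [11, 21, 3, 4] [.out 2859],
  .sub [12, 21, 3, 4] [.sub [4, 8, 5, 5, 3, 4, 8, 5, 5, 3, 5, 3, 4, 8, 5, 5, 3, 4, 8, 5, 5, 3, 5, 3, 4, 8, 5, 5, 3] [.out 2662]],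
  .sub [14, 21, 3, 4] [.out 204],
  .sub [16, 21, 3, 4] [.out 5088],
  .sub [17, 21, 3, 4] [.out 3825],
  .sub [18, 21, 3, 4] [.out 2859],
  .sub [21, 21, 3, 4] [.out 5110],
  .sub [4, 1, 4, 4] [.sub [5, 3, 5, 3, 5, 3, 4, 8, 5, 5, 3, 5, 3, 4, 8, 5, 5, 3, 4, 8, 5, 5, 3, 5, 3, 4, 8, 5, 5, 3, 4, 8, 5, 5, 3, 5, 3, 5, 3] [.out 3094]],
  .sub [8, 1, 4, 4] [.out 429],
  .sub [12, 1, 4, 4] [.out 5784],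
  .sub [13, 1, 4, 4] [.out 3908],
  .sub [17, 1, 4, 4] [.out 3704],
  .sub [18, 1, 4, 4] [.sub [4, 8, 5, 5, 3, 4, 8, 5, 5, 3, 4, 8, 5, 5, 3, 5, 3, 4, 8, 5, 5, 3, 4, 8, 5, 5, 3, 4, 8, 5, 5, 3, 5, 3, 4, 8, 5, 5, 3, 4, 8, 5] [.out 4947]],
  .sub [19, 1, 4, 4] [.out 1626],
  .sub [21, 1, 4, 4] [.out 2138],
  .sub [3, 2, 4, 4] [.out 2807],
  .sub [5, 2, 4, 4] [.out 4108],
  .sub [6, 2, 4, 4] [.out 2404],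
  .sub [8, 2, 4, 4] [.out 2103],
  .sub [9, 2, 4, 4] [.out 4086],
  .sub [11, 2, 4, 4] [.out 612],
  .sub [12, 2, 4, 4] [.out 5463],
  .sub [17, 2, 4, 4] [.sub [5, 3, 5, 3, 5, 3, 4, 8, 5, 5, 3, 4, 8, 5, 5, 3, 4, 8, 5, 5, 3, 5, 3] [.out 3744]],
  .sub [18, 2, 4, 4] [.out 995],
  .sub [19, 2, 4, 4] [.out 1872],
  .sub [1, 3, 4, 4] [.out 2922],
  .sub [7, 3, 4, 4] [.out 3193],
  .sub [10, 3, 4, 4] [.out 4643],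
  .sub [13, 3, 4, 4] [.out 2601],
  .sub [17, 3, 4, 4] [.out 2275],
  .sub [18, 3, 4, 4] [.out 3900],
  .sub [19, 3, 4, 4] [.out 4689],
  .sub [0, 4, 4, 4] [.sub [5, 3, 5, 3, 4, 8, 5, 5, 3, 5, 3, 5, 3, 4, 8, 5, 5, 3, 4, 8, 5, 5, 3, 5, 3, 4, 8, 5, 5, 3, 4, 8, 5, 5, 3, 4, 8, 5] [.out 5854]],
  .sub [1, 4, 4, 4] [.out 2942],
  .sub [2, 4, 4, 4] [.out 2800],
  .sub [3, 4, 4, 4] [.out 1463],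
  .sub [4, 4, 4, 4] [.out 4998],
  .sub [5, 4, 4, 4] [.out 2305],
  .sub [6, 4, 4, 4] [.out 5920],
  .sub [7, 4, 4, 4] [.sub [4, 8, 5, 5, 3, 4, 8, 5, 5, 3, 4, 8, 5, 5, 3, 5, 3, 4, 8, 5, 5, 3, 5, 3, 5, 3, 4, 8, 5, 5, 3, 4, 8, 5, 5, 3, 4, 8, 5] [.out 3482]],
  .sub [8, 4, 4, 4] [.out 4516],
  .sub [9, 4, 4, 4] [.out 3051],
  .sub [10, 4, 4, 4] [.out 4273],
  .sub [11, 4, 4, 4] [.out 3574],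
  .sub [12, 4, 4, 4] [.out 2],
  .sub [13, 4, 4, 4] [.sub [5, 3, 4, 8, 5, 5, 3, 5, 3, 4, 8, 5, 5, 3, 4, 8, 5, 5, 3, 4, 8, 5, 5, 3, 5, 3, 5, 3] [.out 1916]],
  .sub [14, 4, 4, 4] [.out 1155],
  .sub [16, 4, 4, 4] [.out 4172],
  .sub [17, 4, 4, 4] [.out 5918],
  .sub [18, 4, 4, 4] [.out 4059],
  .sub [19, 4, 4, 4] [.out 2153],
  .sub [20, 4, 4, 4] [.out 218],
  .sub [21, 4, 4, 4] [.out 4294],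
  .sub [1, 5, 4, 4] [.out 1478],
  .sub [2, 5, 4, 4] [.out 5755],
  .sub [4, 5, 4, 4] [.sub [5, 3, 4, 8, 5, 5, 3, 5, 3, 4, 8, 5, 5, 3, 5, 3, 5, 3, 4, 8, 5, 5, 3, 4, 8, 5, 5, 3, 4, 8, 5] [.out 989]],
  .sub [6, 5, 4, 4] [.out 948],
  .sub [7, 5, 4, 4] [.out 765],
  .sub [10, 5, 4, 4] [.out 4852],
  .sub [11, 5, 4, 4] [.out 4731],
  .sub [12, 5, 4, 4] [.out 3796],
  .sub [14, 5, 4, 4] [.out 6140],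
  .sub [17, 5, 4, 4] [.out 3128],
  .sub [19, 5, 4, 4] [.out 6028],
  .sub [2, 6, 4, 4] [.out 5094],
  .sub [3, 6, 4, 4] [.out 2562],
  .sub [4, 6, 4, 4] [.out 6154],
  .sub [5, 6, 4, 4] [.out 2097],
  .sub [8, 6, 4, 4] [.out 2587],
  .sub [11, 6, 4, 4] [.out 6115],
  .sub [12, 6, 4, 4] [.out 1291],
  .sub [13, 6, 4, 4] [.out 4069],
  .sub [16, 6, 4, 4] [.out 674],
  .sub [18, 6, 4, 4] [.out 3690],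
  .sub [21, 6, 4, 4] [.out 1449],
  .sub [3, 7, 4, 4] [.out 1520],
  .sub [8, 7, 4, 4] [.out 2421],
  .sub [10, 7, 4, 4] [.out 2670],
  .sub [13, 7, 4, 4] [.out 4632],
  .sub [17, 7, 4, 4] [.out 5585],
  .sub [18, 7, 4, 4] [.out 1547],
  .sub [21, 7, 4, 4] [.out 4560],
  .sub [0, 8, 4, 4] [.sub [4, 8, 5, 5, 3, 4, 8, 5, 5, 3, 5, 3, 4, 8, 5, 5, 3, 4, 8, 5, 5, 3, 5, 3, 4, 8, 5, 5, 3, 5, 3, 5, 3, 4, 8, 5, 5, 3, 4, 8, 5, 5, 3, 5, 3, 4, 8, 5] [.out 3782]],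
  .sub [1, 8, 4, 4] [.sub [5, 3, 5, 3, 5, 3, 4, 8, 5, 5, 3, 4, 8, 5, 5, 3, 4, 8, 5, 5, 3, 5, 3, 4, 8, 5] [.out 422]],
  .sub [2, 8, 4, 4] [.out 4751],
  .sub [3, 8, 4, 4] [.out 3707],
  .sub [5, 8, 4, 4] [.out 462],
  .sub [6, 8, 4, 4] [.out 5753],
  .sub [7, 8, 4, 4] [.out 1267],
  .sub [9, 8, 4, 4] [.out 2711],
  .sub [10, 8, 4, 4] [.out 3585],
  .sub [12, 8, 4, 4] [.out 3293],
  .sub [16, 8, 4, 4] [.out 4419],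
  .sub [17, 8, 4, 4] [.out 5067],
  .sub [19, 8, 4, 4] [.out 5499],
  .sub [20, 8, 4, 4] [.out 5513],
  .sub [21, 8, 4, 4] [.out 2902],
  .sub [0, 9, 4, 4] [.out 3026],
  .sub [1, 9, 4, 4] [.sub [4, 8, 5, 5, 3, 5, 3, 4, 8, 5, 5, 3, 5, 3, 4, 8, 5, 5, 3, 4, 8, 5, 5, 3, 4, 8, 5] [.out 4980]],
  .sub [6, 9, 4, 4] [.sub [5, 3, 4, 8, 5, 5, 3, 5, 3, 4, 8, 5, 5, 3, 5, 3, 5, 3, 4, 8, 5, 5, 3, 5, 3, 4, 8, 5, 5, 3, 4, 8, 5, 5, 3, 4, 8, 5] [.out 4875]],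
  .sub [11, 9, 4, 4] [.sub [4, 8, 5, 5, 3, 4, 8, 5, 5, 3, 5, 3, 4, 8, 5, 5, 3, 5, 3] [.out 3806]],
  .sub [16, 9, 4, 4] [.out 1035],
  .sub [17, 9, 4, 4] [.out 1732],
  .sub [19, 9, 4, 4] [.out 4966],
  .sub [2, 10, 4, 4] [.out 4826],
  .sub [3, 10, 4, 4] [.out 1465],
  .sub [4, 10, 4, 4] [.out 969],
  .sub [6, 10, 4, 4] [.out 1730],
  .sub [7, 10, 4, 4] [.out 1118],
  .sub [8, 10, 4, 4] [.out 3109],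
  .sub [9, 10, 4, 4] [.out 4234],
  .sub [10, 10, 4, 4] [.out 1780],
  .sub [13, 10, 4, 4] [.out 3948],
  .sub [17, 10, 4, 4] [.out 2414],
  .sub [18, 10, 4, 4] [.out 3814],
  .sub [21, 10, 4, 4] [.out 2600],
  .sub [3, 11, 4, 4] [.out 5499],
  .sub [6, 11, 4, 4] [.out 5264],
  .sub [7, 11, 4, 4] [.out 5153],
  .sub [9, 11, 4, 4] [.out 2930],
  .sub [10, 11, 4, 4] [.out 6039],
  .sub [12, 11, 4, 4] [.out 1244],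
  .sub [16, 11, 4, 4] [.out 828],
  .sub [17, 11, 4, 4] [.sub [5, 3, 5, 3, 4, 8, 5, 5, 3, 5, 3, 5, 3, 4, 8, 5, 5, 3, 4, 8, 5, 5, 3] [.out 600]],
  .sub [18, 11, 4, 4] [.out 981],
  .sub [19, 11, 4, 4] [.out 4118],
  .sub [21, 11, 4, 4] [.out 1583],
  .sub [0, 12, 4, 4] [.sub [5, 3, 5, 3, 5, 3, 4, 8, 5, 5, 3, 5, 3, 5, 3] [.out 2150]],
  .sub [2, 12, 4, 4] [.out 1764],
  .sub [6, 12, 4, 4] [.out 2714],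
  .sub [10, 12, 4, 4] [.out 1409],
  .sub [13, 12, 4, 4] [.out 3867],
  .sub [14, 12, 4, 4] [.out 1986],
  .sub [17, 12, 4, 4] [.out 5163],
  .sub [18, 12, 4, 4] [.out 808],
  .sub [20, 12, 4, 4] [.sub [4, 8, 5, 5, 3, 5, 3, 4, 8, 5, 5, 3, 4, 8, 5, 5, 3, 4, 8, 5, 5, 3, 5, 3, 5, 3, 4, 8, 5, 5, 3, 4, 8, 5, 5, 3] [.out 4875]],
  .sub [21, 12, 4, 4] [.out 2212],
  .sub [3, 13, 4, 4] [.out 5820],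
  .sub [5, 13, 4, 4] [.out 457]]

/-- Branches. -/
def kidsXPart10 : List Branch := [
  .sub [6, 13, 4, 4] [.out 3825],
  .sub [8, 13, 4, 4] [.sub [4, 8, 5, 5, 3, 5, 3, 4, 8, 5, 5, 3, 5, 3, 4, 8, 5, 5, 3, 4, 8, 5, 5, 3, 4, 8, 5] [.out 4980]],
  .sub [10, 13, 4, 4] [.out 6081],
  .sub [12, 13, 4, 4] [.out 3954],
  .sub [17, 13, 4, 4] [.out 1273],
  .sub [18, 13, 4, 4] [.out 1656],
  .sub [17, 14, 4, 4] [.out 5133],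
  .sub [18, 14, 4, 4] [.out 5658],
  .sub [21, 14, 4, 4] [.out 2669],
  .sub [4, 16, 4, 4] [.out 3010],
  .sub [5, 16, 4, 4] [.out 163],
  .sub [8, 16, 4, 4] [.sub [5, 3, 4, 8, 5, 5, 3, 4, 8, 5, 5, 3, 5, 3, 4, 8, 5, 5, 3, 4, 8, 5, 5, 3] [.out 1743]],
  .sub [12, 16, 4, 4] [.out 1657],
  .sub [17, 16, 4, 4] [.out 2670],
  .sub [19, 16, 4, 4] [.sub [5, 3, 4, 8, 5, 5, 3, 5, 3, 5, 3, 4, 8, 5, 5, 3, 4, 8, 5, 5, 3, 4, 8, 5, 5, 3, 5, 3] [.out 3554]],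
  .sub [21, 16, 4, 4] [.out 4506],
  .sub [0, 17, 4, 4] [.out 4670],
  .sub [4, 17, 4, 4] [.out 217],
  .sub [8, 17, 4, 4] [.out 3886],
  .sub [10, 17, 4, 4] [.out 5962],
  .sub [11, 17, 4, 4] [.sub [4, 8, 5, 5, 3, 5, 3, 5, 3, 4, 8, 5, 5, 3, 4, 8, 5, 5, 3, 5, 3, 5, 3, 4, 8, 5, 5, 3, 5, 3, 4, 8, 5, 5, 3, 4, 8, 5, 5, 3] [.out 4766]],
  .sub [12, 17, 4, 4] [.out 2745],
  .sub [13, 17, 4, 4] [.out 5659],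
  .sub [14, 17, 4, 4] [.out 1782],
  .sub [16, 17, 4, 4] [.out 1554],
  .sub [1, 18, 4, 4] [.out 3978],
  .sub [3, 18, 4, 4] [.sub [4, 8, 5, 5, 3, 5, 3, 4, 8, 5, 5, 3, 5, 3, 4, 8, 5] [.out 4204]],
  .sub [4, 18, 4, 4] [.out 2640],
  .sub [5, 18, 4, 4] [.out 3416],
  .sub [8, 18, 4, 4] [.out 4587],
  .sub [9, 18, 4, 4] [.out 4274],
  .sub [11, 18, 4, 4] [.out 4546],
  .sub [12, 18, 4, 4] [.out 1167],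
  .sub [13, 18, 4, 4] [.out 3193],
  .sub [14, 18, 4, 4] [.out 4648],
  .sub [21, 18, 4, 4] [.out 4244],
  .sub [4, 19, 4, 4] [.out 1108],
  .sub [5, 19, 4, 4] [.out 3332],
  .sub [8, 19, 4, 4] [.out 2210],
  .sub [12, 19, 4, 4] [.out 2033],
  .sub [16, 19, 4, 4] [.out 2834],
  .sub [21, 19, 4, 4] [.out 428],
  .sub [6, 20, 4, 4] [.out 287],
  .sub [11, 20, 4, 4] [.out 1947],
  .sub [16, 20, 4, 4] [.out 1922],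
  .sub [4, 1, 5, 4] [.sub [4, 8, 5, 5, 3, 5, 3, 4, 8, 5, 5, 3, 4, 8, 5, 5, 3, 4, 8, 5, 5, 3] [.out 1651]],
  .sub [9, 1, 5, 4] [.out 5858],
  .sub [10, 1, 5, 4] [.out 4542],
  .sub [11, 1, 5, 4] [.out 407],
  .sub [13, 1, 5, 4] [.out 1456],
  .sub [17, 1, 5, 4] [.out 913],
  .sub [18, 1, 5, 4] [.sub [4, 8, 5, 5, 3, 5, 3, 4, 8, 5, 5, 3, 4, 8, 5, 5, 3, 5, 3, 5, 3, 4, 8, 5, 5, 3] [.out 3522]],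
  .sub [4, 2, 5, 4] [.out 3434],
  .sub [8, 2, 5, 4] [.out 97],
  .sub [9, 2, 5, 4] [.sub [5, 3, 4, 8, 5, 5, 3, 5, 3, 4, 8, 5, 5, 3, 4, 8, 5, 5, 3, 5, 3, 5, 3, 4, 8, 5, 5, 3, 4, 8, 5, 5, 3, 5, 3] [.out 5978]],
  .sub [11, 2, 5, 4] [.sub [4, 8, 5, 5, 3, 5, 3, 4, 8, 5, 5, 3, 5, 3, 4, 8, 5, 5, 3, 4, 8, 5, 5, 3, 5, 3, 4, 8, 5, 5, 3, 4, 8, 5, 5, 3, 4, 8, 5] [.out 3011]],
  .sub [13, 2, 5, 4] [.out 1586],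
  .sub [20, 2, 5, 4] [.out 4030],
  .sub [21, 2, 5, 4] [.out 1852],
  .sub [1, 3, 5, 4] [.sub [5, 3, 4, 8, 5, 5, 3, 5, 3, 5, 3, 4, 8, 5, 5, 3, 4, 8, 5, 5, 3, 5, 3, 5, 3] [.out 4841]],
  .sub [4, 3, 5, 4] [.sub [4, 8, 5, 5, 3, 5, 3, 4, 8, 5, 5, 3, 5, 3, 4, 8, 5, 5, 3, 4, 8, 5, 5, 3, 5, 3, 4, 8, 5, 5, 3, 4, 8, 5, 5, 3] [.out 5299]],
  .sub [6, 3, 5, 4] [.sub [4, 8, 5, 5, 3, 5, 3, 4, 8, 5, 5, 3, 5, 3, 4, 8, 5, 5, 3, 4, 8, 5] [.done 13]],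
  .sub [8, 3, 5, 4] [.out 3658],
  .sub [11, 3, 5, 4] [.out 4417],
  .sub [12, 3, 5, 4] [.sub [5, 3, 5, 3, 4, 8, 5, 5, 3, 5, 3, 5, 3, 4, 8, 5, 5, 3, 4, 8, 5, 5, 3, 5, 3, 5, 3, 4, 8, 5, 5, 3, 4, 8, 5] [.out 1173]],
  .sub [13, 3, 5, 4] [.out 1304],
  .sub [17, 3, 5, 4] [.out 1774],
  .sub [18, 3, 5, 4] [.out 1188],
  .sub [21, 3, 5, 4] [.out 2852],
  .sub [0, 4, 5, 4] [.out 5675],
  .sub [1, 4, 5, 4] [.out 1816],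
  .sub [2, 4, 5, 4] [.out 4486],
  .sub [3, 4, 5, 4] [.out 1870],
  .sub [4, 4, 5, 4] [.out 1963],
  .sub [5, 4, 5, 4] [.out 6023],
  .sub [6, 4, 5, 4] [.out 2232],
  .sub [7, 4, 5, 4] [.out 3812],
  .sub [8, 4, 5, 4] [.out 4372],
  .sub [9, 4, 5, 4] [.out 5248],
  .sub [10, 4, 5, 4] [.out 2932],
  .sub [11, 4, 5, 4] [.out 2621],
  .sub [12, 4, 5, 4] [.sub [5, 3, 4, 8, 5, 5, 3, 4, 8, 5, 5, 3] [.out 4161]],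
  .sub [13, 4, 5, 4] [.out 5773],
  .sub [14, 4, 5, 4] [.out 5841],
  .sub [16, 4, 5, 4] [.out 2451],
  .sub [18, 4, 5, 4] [.out 2345],
  .sub [19, 4, 5, 4] [.out 4892],
  .sub [20, 4, 5, 4] [.out 3738],
  .sub [1, 5, 5, 4] [.out 1718],
  .sub [4, 5, 5, 4] [.out 2821],
  .sub [17, 5, 5, 4] [.out 4957],
  .sub [2, 6, 5, 4] [.sub [5, 3, 4, 8, 5, 5, 3, 4, 8, 5, 5, 3, 5, 3, 4, 8, 5, 5, 3, 5, 3, 5, 3, 4, 8, 5, 5, 3, 4, 8, 5, 5, 3, 5, 3, 4, 8, 5] [.out 5978]],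
  .sub [3, 6, 5, 4] [.out 4417],
  .sub [4, 6, 5, 4] [.out 6113],
  .sub [5, 6, 5, 4] [.sub [4, 8, 5, 5, 3, 4, 8, 5, 5, 3, 5, 3, 4, 8, 5, 5, 3, 4, 8, 5, 5, 3, 4, 8, 5, 5, 3, 5, 3, 5, 3] [.out 4980]],
  .sub [7, 6, 5, 4] [.out 3605],
  .sub [8, 6, 5, 4] [.out 549],
  .sub [9, 6, 5, 4] [.sub [5, 3, 5, 3, 4, 8, 5, 5, 3, 4, 8, 5, 5, 3, 4, 8, 5, 5, 3, 5, 3, 4, 8, 5, 5, 3, 4, 8, 5, 5, 3, 5, 3, 5, 3] [.out 6133]],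
  .sub [11, 6, 5, 4] [.out 5870],
  .sub [12, 6, 5, 4] [.out 5138],
  .sub [16, 6, 5, 4] [.out 173],
  .sub [17, 6, 5, 4] [.out 2348],
  .sub [18, 6, 5, 4] [.sub [4, 8, 5, 5, 3, 5, 3, 4, 8, 5, 5, 3, 5, 3, 4, 8, 5, 5, 3, 4, 8, 5, 5, 3, 5, 3, 4, 8, 5, 5, 3, 4, 8, 5, 5, 3] [.out 4241]],
  .sub [19, 6, 5, 4] [.out 1414],
  .sub [21, 6, 5, 4] [.out 4058],
  .sub [6, 7, 5, 4] [.out 3390],
  .sub [8, 7, 5, 4] [.out 3771],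
  .sub [11, 7, 5, 4] [.out 3694],
  .sub [13, 7, 5, 4] [.out 5307],
  .sub [17, 7, 5, 4] [.out 4279],
  .sub [21, 7, 5, 4] [.out 4779],
  .sub [0, 8, 5, 4] [.out 5356],
  .sub [1, 8, 5, 4] [.sub [4, 8, 5, 5, 3, 5, 3, 5, 3, 4, 8, 5, 5, 3, 4, 8, 5, 5, 3, 5, 3, 4, 8, 5, 5, 3, 5, 3, 5, 3, 4, 8, 5, 5, 3] [.out 427]],
  .sub [2, 8, 5, 4] [.out 92],
  .sub [5, 8, 5, 4] [.out 2165],
  .sub [6, 8, 5, 4] [.out 1814],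
  .sub [7, 8, 5, 4] [.out 987],
  .sub [13, 8, 5, 4] [.out 3707],
  .sub [14, 8, 5, 4] [.out 4790],
  .sub [17, 8, 5, 4] [.out 3928],
  .sub [18, 8, 5, 4] [.sub [5, 3, 5, 3, 4, 8, 5, 5, 3, 4, 8, 5, 5, 3, 5, 3, 5, 3, 4, 8, 5, 5, 3, 4, 8, 5, 5, 3, 5, 3] [.out 3705]],
  .sub [19, 8, 5, 4] [.out 4119],
  .sub [20, 8, 5, 4] [.out 3955],
  .sub [21, 8, 5, 4] [.sub [4, 8, 5, 5, 3, 5, 3] [.out 2856]],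
  .sub [4, 9, 5, 4] [.out 745],
  .sub [6, 9, 5, 4] [.out 3503],
  .sub [8, 9, 5, 4] [.sub [4, 8, 5, 5, 3, 5, 3, 4, 8, 5, 5, 3, 5, 3, 4, 8, 5, 5, 3, 4, 8, 5, 5, 3, 5, 3, 4, 8, 5, 5, 3, 4, 8, 5, 5, 3, 5, 3, 5, 3, 4, 8, 5, 5, 3, 4, 8, 5, 5, 3] [.out 1845]],
  .sub [11, 9, 5, 4] [.sub [4, 8, 5, 5, 3, 5, 3, 5, 3, 4, 8, 5, 5, 3, 4, 8, 5, 5, 3, 4, 8, 5, 5, 3, 5, 3, 4, 8, 5, 5, 3, 4, 8, 5, 5, 3, 4, 8, 5] [.out 1460]],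
  .sub [16, 9, 5, 4] [.out 1374],
  .sub [17, 9, 5, 4] [.out 2522],
  .sub [19, 9, 5, 4] [.out 3976],
  .sub [21, 9, 5, 4] [.sub [4, 8, 5, 5, 3, 4, 8, 5, 5, 3, 4, 8, 5, 5, 3, 5, 3, 4, 8, 5, 5, 3, 5, 3, 5, 3, 4, 8, 5, 5, 3, 4, 8, 5, 5, 3, 5, 3, 4, 8, 5] [.out 3947]],
  .sub [0, 10, 5, 4] [.out 3453],
  .sub [2, 10, 5, 4] [.out 2686],
  .sub [3, 10, 5, 4] [.out 4245],
  .sub [4, 10, 5, 4] [.out 1709],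
  .sub [5, 10, 5, 4] [.out 691],
  .sub [6, 10, 5, 4] [.out 5267],
  .sub [7, 10, 5, 4] [.out 348],
  .sub [8, 10, 5, 4] [.out 5026],
  .sub [10, 10, 5, 4] [.sub [4, 8, 5, 5, 3, 5, 3, 4, 8, 5, 5, 3, 5, 3] [.done 5]],
  .sub [12, 10, 5, 4] [.out 965],
  .sub [13, 10, 5, 4] [.out 5043],
  .sub [14, 10, 5, 4] [.out 5715],
  .sub [17, 10, 5, 4] [.sub [5, 3, 5, 3, 4, 8, 5, 5, 3, 5, 3, 4, 8, 5, 5, 3, 4, 8, 5, 5, 3, 5, 3, 4, 8, 5, 5, 3, 4, 8, 5, 5, 3] [.out 709]],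
  .sub [18, 10, 5, 4] [.out 4501],
  .sub [19, 10, 5, 4] [.out 3469],
  .sub [20, 10, 5, 4] [.out 180],
  .sub [21, 10, 5, 4] [.out 2249],
  .sub [0, 11, 5, 4] [.out 2829],
  .sub [1, 11, 5, 4] [.out 959],
  .sub [3, 11, 5, 4] [.out 5222],
  .sub [4, 11, 5, 4] [.out 3284],
  .sub [5, 11, 5, 4] [.out 2864],
  .sub [6, 11, 5, 4] [.out 5443],
  .sub [7, 11, 5, 4] [.out 5288],
  .sub [9, 11, 5, 4] [.out 5953],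
  .sub [10, 11, 5, 4] [.out 1458],
  .sub [11, 11, 5, 4] [.out 2593],
  .sub [12, 11, 5, 4] [.out 3670],
  .sub [13, 11, 5, 4] [.sub [5, 3, 5, 3, 4, 8, 5, 5, 3, 5, 3, 4, 8, 5, 5, 3, 4, 8, 5, 5, 3, 5, 3, 4, 8, 5, 5, 3, 5, 3] [.out 444]],
  .sub [16, 11, 5, 4] [.out 5456],
  .sub [17, 11, 5, 4] [.out 665],
  .sub [18, 11, 5, 4] [.out 2477],
  .sub [19, 11, 5, 4] [.out 148],
  .sub [20, 11, 5, 4] [.out 4563],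
  .sub [21, 11, 5, 4] [.sub [5, 3, 4, 8, 5, 5, 3, 5, 3, 4, 8, 5, 5, 3, 4, 8, 5, 5, 3, 5, 3, 5, 3, 4, 8, 5, 5, 3, 4, 8, 5, 5, 3, 5, 3, 4, 8, 5, 5, 3, 5, 3, 5, 3] [.out 3742]],
  .sub [0, 12, 5, 4] [.sub [5, 3, 4, 8, 5, 5, 3, 4, 8, 5, 5, 3, 5, 3, 4, 8, 5, 5, 3, 5, 3, 5, 3, 4, 8, 5, 5, 3, 4, 8, 5] [.out 709]],
  .sub [2, 12, 5, 4] [.out 1917],
  .sub [3, 12, 5, 4] [.sub [4, 8, 5, 5, 3, 4, 8, 5, 5, 3, 5, 3, 4, 8, 5, 5, 3, 4, 8, 5, 5, 3, 5, 3, 4, 8, 5, 5, 3, 5, 3, 5, 3, 4, 8, 5, 5, 3] [.out 441]],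
  .sub [5, 12, 5, 4] [.sub [5, 3, 5, 3, 5, 3, 4, 8, 5, 5, 3, 4, 8, 5, 5, 3, 5, 3, 5, 3] [.out 67]],
  .sub [6, 12, 5, 4] [.out 570],
  .sub [7, 12, 5, 4] [.out 6011],
  .sub [10, 12, 5, 4] [.out 3748],
  .sub [11, 12, 5, 4] [.out 4036],
  .sub [12, 12, 5, 4] [.out 4902],
  .sub [13, 12, 5, 4] [.out 2648],
  .sub [14, 12, 5, 4] [.out 458],
  .sub [17, 12, 5, 4] [.out 3258],
  .sub [18, 12, 5, 4] [.out 238],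
  .sub [19, 12, 5, 4] [.out 243],
  .sub [20, 12, 5, 4] [.out 1781],
  .sub [21, 12, 5, 4] [.out 3970],
  .sub [2, 13, 5, 4] [.out 4948],
  .sub [3, 13, 5, 4] [.out 5184],
  .sub [5, 13, 5, 4] [.out 2952],
  .sub [6, 13, 5, 4] [.out 834],
  .sub [7, 13, 5, 4] [.out 1864],
  .sub [8, 13, 5, 4] [.out 2933],
  .sub [9, 13, 5, 4] [.out 4151],
  .sub [10, 13, 5, 4] [.out 1271],
  .sub [11, 13, 5, 4] [.out 3593]]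

/-- Branches. -/
def kidsXPart11 : List Branch := [
  .sub [12, 13, 5, 4] [.out 5164],
  .sub [16, 13, 5, 4] [.sub [4, 8, 5, 5, 3, 4, 8, 5, 5, 3, 5, 3, 4, 8, 5, 5, 3, 4, 8, 5, 5, 3] [.out 6017]],
  .sub [17, 13, 5, 4] [.out 1680],
  .sub [18, 13, 5, 4] [.out 6102],
  .sub [19, 13, 5, 4] [.out 5965],
  .sub [20, 13, 5, 4] [.out 471],
  .sub [3, 14, 5, 4] [.out 530],
  .sub [4, 14, 5, 4] [.out 1910],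
  .sub [5, 14, 5, 4] [.out 4295],
  .sub [6, 14, 5, 4] [.sub [4, 8, 5, 5, 3, 4, 8, 5, 5, 3, 5, 3, 5, 3, 4, 8, 5, 5, 3, 5, 3, 4, 8, 5, 5, 3, 4, 8, 5, 5, 3, 4, 8, 5, 5, 3, 5, 3] [.out 4517]],
  .sub [9, 14, 5, 4] [.out 5526],
  .sub [10, 14, 5, 4] [.out 3328],
  .sub [11, 14, 5, 4] [.out 2746],
  .sub [12, 14, 5, 4] [.out 4104],
  .sub [13, 14, 5, 4] [.out 5419],
  .sub [14, 14, 5, 4] [.out 4825],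
  .sub [17, 14, 5, 4] [.out 2857],
  .sub [20, 14, 5, 4] [.out 5866],
  .sub [21, 14, 5, 4] [.out 702],
  .sub [0, 17, 5, 4] [.out 3950],
  .sub [1, 17, 5, 4] [.out 2781],
  .sub [4, 17, 5, 4] [.out 4044],
  .sub [5, 17, 5, 4] [.out 5897],
  .sub [6, 17, 5, 4] [.sub [4, 8, 5, 5, 3, 5, 3, 4, 8, 5, 5, 3, 5, 3, 5, 3, 4, 8, 5, 5, 3, 4, 8, 5, 5, 3] [.out 5308]],
  .sub [8, 17, 5, 4] [.out 2807],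
  .sub [10, 17, 5, 4] [.sub [4, 8, 5, 5, 3, 5, 3, 5, 3, 4, 8, 5, 5, 3, 4, 8, 5, 5, 3, 5, 3, 5, 3, 4, 8, 5, 5, 3, 5, 3, 4, 8, 5, 5, 3] [.out 627]],
  .sub [11, 17, 5, 4] [.out 2129],
  .sub [12, 17, 5, 4] [.out 5963],
  .sub [14, 17, 5, 4] [.out 1025],
  .sub [16, 17, 5, 4] [.out 4911],
  .sub [21, 17, 5, 4] [.out 1209],
  .sub [1, 18, 5, 4] [.out 4125],
  .sub [4, 18, 5, 4] [.sub [5, 3, 5, 3, 5, 3, 4, 8, 5, 5, 3, 4, 8, 5, 5, 3, 5, 3, 4, 8, 5, 5, 3, 5, 3] [.out 2804]],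
  .sub [5, 18, 5, 4] [.out 3334],
  .sub [6, 18, 5, 4] [.sub [4, 8, 5, 5, 3, 5, 3, 5, 3] [.out 448]],
  .sub [8, 18, 5, 4] [.out 2456],
  .sub [9, 18, 5, 4] [.out 2233],
  .sub [10, 18, 5, 4] [.out 6077],
  .sub [12, 18, 5, 4] [.out 5483],
  .sub [13, 18, 5, 4] [.out 2422],
  .sub [14, 18, 5, 4] [.sub [4, 8, 5, 5, 3, 5, 3, 5, 3, 4, 8, 5, 5, 3, 5, 3, 4, 8, 5, 5, 3, 4, 8, 5, 5, 3, 4, 8, 5] [.out 2958]],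
  .sub [21, 18, 5, 4] [.out 3247],
  .sub [6, 20, 5, 4] [.out 4650],
  .sub [8, 20, 5, 4] [.out 4543],
  .sub [11, 20, 5, 4] [.sub [5, 3] [.out 1868]],
  .sub [16, 20, 5, 4] [.out 1315],
  .sub [21, 20, 5, 4] [.out 1249],
  .sub [1, 21, 5, 4] [.out 1796],
  .sub [4, 21, 5, 4] [.out 1195],
  .sub [5, 21, 5, 4] [.out 149],
  .sub [7, 21, 5, 4] [.out 3144],
  .sub [8, 21, 5, 4] [.out 2674],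
  .sub [9, 21, 5, 4] [.out 3995],
  .sub [10, 21, 5, 4] [.sub [5, 3, 5, 3, 4, 8, 5, 5, 3, 4, 8, 5, 5, 3, 5, 3, 4, 8, 5, 5, 3, 5, 3] [.out 5065]],
  .sub [11, 21, 5, 4] [.sub [5, 3, 4, 8, 5, 5, 3, 4, 8, 5, 5, 3, 4, 8, 5, 5, 3, 5, 3, 5, 3, 4, 8, 5, 5, 3, 4, 8, 5, 5, 3] [.out 3268]],
  .sub [16, 21, 5, 4] [.out 141],
  .sub [17, 21, 5, 4] [.out 2479],
  .sub [18, 21, 5, 4] [.out 2791],
  .sub [19, 21, 5, 4] [.out 4307],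
  .sub [21, 21, 5, 4] [.sub [5, 3, 5, 3, 4, 8, 5, 5, 3, 4, 8, 5, 5, 3, 5, 3, 4, 8, 5, 5, 3, 4, 8, 5, 5, 3, 5, 3, 4, 8, 5, 5, 3, 5, 3, 4, 8, 5, 5, 3] [.out 713]],
  .sub [2, 4, 6, 4] [.out 1869],
  .sub [4, 4, 6, 4] [.out 1916],
  .sub [5, 4, 6, 4] [.out 4290],
  .sub [9, 4, 6, 4] [.out 5615],
  .sub [12, 4, 6, 4] [.out 3975],
  .sub [16, 4, 6, 4] [.out 3773],
  .sub [19, 4, 6, 4] [.out 385],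
  .sub [21, 4, 6, 4] [.out 980],
  .sub [4, 7, 6, 4] [.out 3685],
  .sub [10, 7, 6, 4] [.sub [5, 3, 4, 8, 5, 5, 3, 5, 3, 5, 3, 4, 8, 5, 5, 3, 5, 3, 4, 8, 5, 5, 3, 4, 8, 5, 5, 3] [.out 1042]],
  .sub [11, 7, 6, 4] [.out 1095],
  .sub [12, 7, 6, 4] [.out 4186],
  .sub [21, 7, 6, 4] [.out 3561],
  .sub [6, 8, 6, 4] [.out 5808],
  .sub [13, 8, 6, 4] [.out 1069],
  .sub [0, 16, 6, 4] [.out 2529],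
  .sub [5, 16, 6, 4] [.out 3996],
  .sub [8, 16, 6, 4] [.sub [4, 8, 5, 5, 3, 5, 3, 4, 8, 5, 5, 3, 5, 3, 5, 3, 4, 8, 5, 5, 3, 4, 8, 5, 5, 3, 5, 3] [.out 1933]],
  .sub [11, 16, 6, 4] [.out 2289],
  .sub [12, 16, 6, 4] [.out 1635],
  .sub [16, 16, 6, 4] [.out 1518],
  .sub [4, 18, 6, 4] [.out 1683],
  .sub [6, 18, 6, 4] [.sub [5, 3, 5, 3, 5, 3, 4, 8, 5, 5, 3, 5, 3, 4, 8, 5, 5, 3, 4, 8, 5, 5, 3, 4, 8, 5, 5, 3, 5, 3] [.out 1173]],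
  .sub [11, 18, 6, 4] [.sub [4, 8, 5, 5, 3, 5, 3, 5, 3, 4, 8, 5, 5, 3, 4, 8, 5, 5, 3] [.out 136]],
  .sub [21, 18, 6, 4] [.out 5011],
  .sub [16, 21, 6, 4] [.out 4867],
  .sub [19, 21, 6, 4] [.out 5403],
  .sub [4, 3, 7, 4] [.sub [5, 3, 5, 3, 4, 8, 5, 5, 3, 5, 3, 4, 8, 5, 5, 3, 4, 8, 5, 5, 3, 5, 3, 4, 8, 5, 5, 3, 5, 3, 5, 3, 4, 8, 5, 5, 3, 4, 8, 5] [.out 2177]],
  .sub [6, 3, 7, 4] [.sub [4, 8, 5, 5, 3, 5, 3, 5, 3, 4, 8, 5, 5, 3, 4, 8, 5, 5, 3, 4, 8, 5, 5, 3, 5, 3, 4, 8, 5] [.out 4915]],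
  .sub [21, 3, 7, 4] [.out 2449],
  .sub [1, 4, 7, 4] [.out 4324],
  .sub [2, 4, 7, 4] [.out 1286],
  .sub [3, 4, 7, 4] [.out 1218],
  .sub [4, 4, 7, 4] [.out 85],
  .sub [6, 4, 7, 4] [.out 712],
  .sub [8, 4, 7, 4] [.out 654],
  .sub [16, 4, 7, 4] [.out 4307],
  .sub [17, 4, 7, 4] [.out 5400],
  .sub [18, 4, 7, 4] [.out 493],
  .sub [19, 4, 7, 4] [.out 2703],
  .sub [20, 4, 7, 4] [.out 4623],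
  .sub [3, 6, 7, 4] [.out 3737],
  .sub [4, 6, 7, 4] [.sub [5, 3, 5, 3, 4, 8, 5, 5, 3, 5, 3, 5, 3, 4, 8, 5, 5, 3, 5, 3, 4, 8, 5, 5, 3] [.out 3518]],
  .sub [5, 6, 7, 4] [.out 4109],
  .sub [8, 6, 7, 4] [.out 1823],
  .sub [9, 6, 7, 4] [.out 1791],
  .sub [11, 6, 7, 4] [.out 5869],
  .sub [17, 6, 7, 4] [.out 5219],
  .sub [7, 8, 7, 4] [.out 5788],
  .sub [16, 8, 7, 4] [.out 3034],
  .sub [17, 8, 7, 4] [.out 2261],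
  .sub [19, 8, 7, 4] [.out 460],
  .sub [6, 9, 7, 4] [.out 34],
  .sub [16, 9, 7, 4] [.out 3247],
  .sub [21, 9, 7, 4] [.out 5672],
  .sub [5, 10, 7, 4] [.out 1829],
  .sub [8, 10, 7, 4] [.out 930],
  .sub [11, 10, 7, 4] [.out 3205],
  .sub [12, 10, 7, 4] [.out 4699],
  .sub [13, 10, 7, 4] [.out 5496],
  .sub [0, 11, 7, 4] [.out 985],
  .sub [1, 11, 7, 4] [.out 3899],
  .sub [4, 11, 7, 4] [.out 3296],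
  .sub [5, 11, 7, 4] [.out 2070],
  .sub [11, 11, 7, 4] [.sub [5, 3, 5, 3, 5, 3, 4, 8, 5, 5, 3, 4, 8, 5, 5, 3, 5, 3, 5, 3, 4, 8, 5, 5, 3, 4, 8, 5, 5, 3] [.out 3719]],
  .sub [13, 11, 7, 4] [.out 203],
  .sub [17, 11, 7, 4] [.out 5410],
  .sub [18, 11, 7, 4] [.out 815],
  .sub [19, 11, 7, 4] [.out 3675],
  .sub [21, 11, 7, 4] [.out 2496],
  .sub [2, 12, 7, 4] [.out 3913],
  .sub [4, 12, 7, 4] [.out 4837],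
  .sub [5, 12, 7, 4] [.out 4157],
  .sub [7, 12, 7, 4] [.out 4553],
  .sub [8, 12, 7, 4] [.out 5316],
  .sub [9, 12, 7, 4] [.sub [5, 3, 4, 8, 5, 5, 3, 4, 8, 5, 5, 3, 5, 3, 4, 8, 5, 5, 3, 4, 8, 5, 5, 3, 5, 3, 4, 8, 5, 5, 3] [.out 975]],
  .sub [10, 12, 7, 4] [.out 5463],
  .sub [11, 12, 7, 4] [.out 4960],
  .sub [12, 12, 7, 4] [.out 4331],
  .sub [13, 12, 7, 4] [.out 5155],
  .sub [17, 12, 7, 4] [.out 5396],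
  .sub [18, 12, 7, 4] [.out 3327],
  .sub [19, 12, 7, 4] [.out 2203],
  .sub [20, 12, 7, 4] [.out 3833],
  .sub [21, 12, 7, 4] [.out 2402],
  .sub [4, 13, 7, 4] [.out 2630],
  .sub [6, 13, 7, 4] [.out 4351],
  .sub [10, 13, 7, 4] [.sub [5, 3, 4, 8, 5, 5, 3, 4, 8, 5, 5, 3, 5, 3, 4, 8, 5, 5, 3, 4, 8, 5, 5, 3, 5, 3, 5, 3] [.out 3834]],
  .sub [11, 13, 7, 4] [.sub [4, 8, 5, 5, 3, 5, 3, 5, 3, 4, 8, 5, 5, 3] [.out 815]],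
  .sub [5, 14, 7, 4] [.out 1066],
  .sub [9, 14, 7, 4] [.out 674],
  .sub [10, 14, 7, 4] [.out 1418],
  .sub [18, 14, 7, 4] [.sub [5, 3, 5, 3, 4, 8, 5, 5, 3, 5, 3, 5, 3, 4, 8, 5, 5, 3, 4, 8, 5, 5, 3, 5, 3] [.out 5334]],
  .sub [5, 16, 7, 4] [.out 3238],
  .sub [11, 16, 7, 4] [.out 3351],
  .sub [12, 16, 7, 4] [.out 2978],
  .sub [4, 17, 7, 4] [.out 1357],
  .sub [8, 17, 7, 4] [.sub [5, 3, 5, 3, 5, 3, 4, 8, 5, 5, 3, 4, 8, 5, 5, 3, 4, 8, 5, 5, 3, 5, 3] [.out 2424]],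
  .sub [11, 17, 7, 4] [.out 5313],
  .sub [16, 17, 7, 4] [.out 3462],
  .sub [21, 17, 7, 4] [.out 5607],
  .sub [4, 18, 7, 4] [.out 1054],
  .sub [5, 18, 7, 4] [.out 2200],
  .sub [8, 18, 7, 4] [.out 1612],
  .sub [11, 18, 7, 4] [.out 3692],
  .sub [5, 21, 7, 4] [.out 486],
  .sub [8, 21, 7, 4] [.out 3129],
  .sub [10, 21, 7, 4] [.out 4314],
  .sub [11, 21, 7, 4] [.out 902],
  .sub [12, 21, 7, 4] [.out 3412],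
  .sub [14, 21, 7, 4] [.sub [4, 8, 5, 5, 3, 5, 3] [.out 3341]],
  .sub [17, 21, 7, 4] [.out 1911],
  .sub [21, 21, 7, 4] [.out 5917],
  .sub [10, 0, 8, 4] [.out 916],
  .sub [13, 0, 8, 4] [.out 2174],
  .sub [18, 0, 8, 4] [.sub [5, 3, 5, 3, 4, 8, 5, 5, 3, 4, 8, 5, 5, 3, 4, 8, 5, 5, 3, 5, 3, 4, 8, 5, 5, 3] [.out 2856]],
  .sub [21, 0, 8, 4] [.out 3201],
  .sub [4, 1, 8, 4] [.out 4121],
  .sub [16, 1, 8, 4] [.out 3312],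
  .sub [17, 1, 8, 4] [.out 4754],
  .sub [19, 1, 8, 4] [.out 4802],
  .sub [17, 2, 8, 4] [.out 2694],
  .sub [18, 2, 8, 4] [.out 1782],
  .sub [21, 2, 8, 4] [.sub [5, 3, 4, 8, 5, 5, 3, 5, 3, 4, 8, 5, 5, 3, 5, 3, 5, 3, 4, 8, 5, 5, 3, 4, 8, 5, 5, 3, 5, 3] [.out 3482]],
  .sub [8, 4, 8, 4] [.out 4471],
  .sub [9, 4, 8, 4] [.out 5443],
  .sub [10, 4, 8, 4] [.out 3950],
  .sub [11, 4, 8, 4] [.sub [4, 8, 5, 5, 3, 5, 3, 4, 8, 5, 5, 3, 4, 8, 5, 5, 3, 5, 3, 4, 8, 5] [.out 239]],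
  .sub [12, 4, 8, 4] [.out 5411],
  .sub [13, 4, 8, 4] [.out 2031],
  .sub [17, 4, 8, 4] [.out 4],
  .sub [18, 4, 8, 4] [.out 2251]]

/-- Branches. -/
def kidsXPart12 : List Branch := [
  .sub [21, 4, 8, 4] [.out 2375],
  .sub [2, 6, 8, 4] [.out 1005],
  .sub [3, 6, 8, 4] [.out 4539],
  .sub [4, 6, 8, 4] [.out 3822],
  .sub [5, 6, 8, 4] [.out 4250],
  .sub [7, 6, 8, 4] [.out 3450],
  .sub [8, 6, 8, 4] [.out 1384],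
  .sub [9, 6, 8, 4] [.out 2443],
  .sub [10, 6, 8, 4] [.out 5417],
  .sub [11, 6, 8, 4] [.sub [5, 3, 5, 3, 4, 8, 5, 5, 3, 5, 3, 4, 8, 5, 5, 3] [.out 5065]],
  .sub [13, 6, 8, 4] [.out 4270],
  .sub [14, 6, 8, 4] [.sub [4, 8, 5, 5, 3, 5, 3, 4, 8, 5, 5, 3, 5, 3, 5, 3, 4, 8, 5, 5, 3, 5, 3, 5, 3] [.out 3253]],
  .sub [16, 6, 8, 4] [.out 5620],
  .sub [17, 6, 8, 4] [.out 1867],
  .sub [18, 6, 8, 4] [.out 3969],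
  .sub [19, 6, 8, 4] [.out 284],
  .sub [20, 6, 8, 4] [.out 4392],
  .sub [21, 6, 8, 4] [.out 5435],
  .sub [16, 9, 8, 4] [.out 2599],
  .sub [21, 9, 8, 4] [.out 4604],
  .sub [2, 11, 8, 4] [.out 4444],
  .sub [5, 11, 8, 4] [.out 2284],
  .sub [10, 11, 8, 4] [.out 6085],
  .sub [17, 11, 8, 4] [.sub [5, 3, 4, 8, 5, 5, 3] [.out 3682]],
  .sub [19, 11, 8, 4] [.out 168],
  .sub [20, 11, 8, 4] [.out 3910],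
  .sub [21, 11, 8, 4] [.out 2381],
  .sub [2, 12, 8, 4] [.out 4923],
  .sub [3, 12, 8, 4] [.out 5114],
  .sub [4, 12, 8, 4] [.out 5463],
  .sub [5, 12, 8, 4] [.out 1794],
  .sub [9, 12, 8, 4] [.out 2970],
  .sub [10, 12, 8, 4] [.out 304],
  .sub [11, 12, 8, 4] [.out 4026],
  .sub [12, 12, 8, 4] [.out 1114],
  .sub [13, 12, 8, 4] [.out 1746],
  .sub [21, 12, 8, 4] [.out 231],
  .sub [7, 13, 8, 4] [.out 1023],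
  .sub [18, 13, 8, 4] [.out 2175],
  .sub [19, 13, 8, 4] [.out 2461],
  .sub [21, 13, 8, 4] [.out 2112],
  .sub [2, 14, 8, 4] [.out 4367],
  .sub [8, 14, 8, 4] [.out 3109],
  .sub [10, 14, 8, 4] [.out 2642],
  .sub [11, 14, 8, 4] [.out 5887],
  .sub [17, 14, 8, 4] [.out 4049],
  .sub [19, 14, 8, 4] [.out 652],
  .sub [20, 14, 8, 4] [.out 8],
  .sub [21, 14, 8, 4] [.sub [5, 3, 4, 8, 5, 5, 3, 4, 8, 5, 5, 3, 4, 8, 5] [.out 3992]],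
  .sub [0, 17, 8, 4] [.out 787],
  .sub [1, 17, 8, 4] [.sub [5, 3, 5, 3, 5, 3, 4, 8, 5, 5, 3, 4, 8, 5, 5, 3, 5, 3, 4, 8, 5, 5, 3, 5, 3] [.out 4818]],
  .sub [4, 17, 8, 4] [.out 746],
  .sub [6, 17, 8, 4] [.out 621],
  .sub [8, 17, 8, 4] [.out 2412],
  .sub [10, 17, 8, 4] [.out 3065],
  .sub [12, 17, 8, 4] [.out 1834],
  .sub [14, 17, 8, 4] [.out 2167],
  .sub [16, 17, 8, 4] [.out 648],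
  .sub [21, 17, 8, 4] [.out 177],
  .sub [4, 18, 8, 4] [.out 6037],
  .sub [6, 18, 8, 4] [.out 4413],
  .sub [8, 18, 8, 4] [.out 70],
  .sub [9, 18, 8, 4] [.out 6044],
  .sub [10, 18, 8, 4] [.sub [5, 3, 5, 3, 4, 8, 5, 5, 3, 5, 3, 5, 3, 4, 8, 5, 5, 3, 5, 3, 5, 3] [.out 836]],
  .sub [11, 18, 8, 4] [.sub [4, 8, 5, 5, 3, 5, 3, 4, 8, 5, 5, 3, 5, 3, 5, 3, 4, 8, 5, 5, 3, 4, 8, 5, 5, 3] [.out 2226]],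
  .sub [12, 18, 8, 4] [.out 1682],
  .sub [13, 18, 8, 4] [.out 4739],
  .sub [14, 18, 8, 4] [.out 1311],
  .sub [21, 18, 8, 4] [.out 3142],
  .sub [1, 19, 8, 4] [.sub [4, 8, 5, 5, 3, 4, 8, 5, 5, 3, 4, 8, 5, 5, 3, 4, 8, 5, 5, 3, 5, 3, 4, 8, 5, 5, 3, 4, 8, 5, 5, 3, 5, 3, 4, 8, 5, 5, 3] [.out 5486]],
  .sub [6, 19, 8, 4] [.out 536],
  .sub [8, 19, 8, 4] [.out 498],
  .sub [10, 19, 8, 4] [.out 531],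
  .sub [11, 19, 8, 4] [.out 3332],
  .sub [16, 19, 8, 4] [.out 3327],
  .sub [21, 19, 8, 4] [.out 1298],
  .sub [1, 21, 8, 4] [.out 2017],
  .sub [6, 21, 8, 4] [.out 3434],
  .sub [8, 21, 8, 4] [.out 729],
  .sub [9, 21, 8, 4] [.out 5700],
  .sub [12, 21, 8, 4] [.sub [5, 3, 5, 3, 5, 3, 4, 8, 5, 5, 3, 4, 8, 5, 5, 3, 4, 8, 5] [.out 2049]],
  .sub [14, 21, 8, 4] [.out 1385],
  .sub [17, 21, 8, 4] [.out 6045],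
  .sub [18, 21, 8, 4] [.out 4013],
  .sub [19, 21, 8, 4] [.out 3889],
  .sub [3, 0, 9, 4] [.out 4397],
  .sub [4, 0, 9, 4] [.out 4668],
  .sub [5, 0, 9, 4] [.sub [5, 3, 4, 8, 5, 5, 3, 4, 8, 5, 5, 3, 5, 3, 4, 8, 5, 5, 3, 4, 8, 5, 5, 3] [.out 5808]],
  .sub [6, 0, 9, 4] [.out 4566],
  .sub [8, 0, 9, 4] [.out 185],
  .sub [9, 0, 9, 4] [.out 5120],
  .sub [10, 0, 9, 4] [.out 1366],
  .sub [11, 0, 9, 4] [.out 1377],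
  .sub [13, 0, 9, 4] [.out 5747],
  .sub [14, 0, 9, 4] [.out 4654],
  .sub [3, 1, 9, 4] [.out 6110],
  .sub [4, 1, 9, 4] [.sub [5, 3, 4, 8, 5, 5, 3, 5, 3, 4, 8, 5, 5, 3, 4, 8, 5, 5, 3, 5, 3, 5, 3, 4, 8, 5, 5, 3, 4, 8, 5, 5, 3, 5, 3, 4, 8, 5, 5, 3, 5, 3, 5, 3] [.out 4818]],
  .sub [5, 1, 9, 4] [.out 3056],
  .sub [8, 1, 9, 4] [.out 1526],
  .sub [9, 1, 9, 4] [.out 428],
  .sub [11, 1, 9, 4] [.out 2365],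
  .sub [12, 1, 9, 4] [.out 2487],
  .sub [17, 1, 9, 4] [.out 4859],
  .sub [19, 1, 9, 4] [.out 4145],
  .sub [21, 1, 9, 4] [.out 5897],
  .sub [1, 4, 9, 4] [.out 6001],
  .sub [2, 4, 9, 4] [.out 2251],
  .sub [3, 4, 9, 4] [.out 6015],
  .sub [4, 4, 9, 4] [.out 1806],
  .sub [6, 4, 9, 4] [.sub [4, 8, 5, 5, 3, 4, 8, 5, 5, 3, 5, 3, 4, 8, 5, 5, 3, 4, 8, 5, 5, 3, 5, 3, 5, 3, 4, 8, 5, 5, 3, 4, 8, 5, 5, 3, 5, 3, 4, 8, 5] [.out 422]],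
  .sub [7, 4, 9, 4] [.out 3317],
  .sub [8, 4, 9, 4] [.out 1737],
  .sub [11, 4, 9, 4] [.out 3546],
  .sub [12, 4, 9, 4] [.out 5479],
  .sub [16, 4, 9, 4] [.out 158],
  .sub [17, 4, 9, 4] [.out 159],
  .sub [18, 4, 9, 4] [.out 4520],
  .sub [20, 4, 9, 4] [.out 1778],
  .sub [21, 4, 9, 4] [.sub [5, 3, 4, 8, 5, 5, 3, 5, 3, 5, 3, 4, 8, 5, 5, 3, 4, 8, 5, 5, 3, 5, 3, 4, 8, 5, 5, 3, 4, 8, 5, 5, 3, 4, 8, 5] [.out 70]],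
  .sub [3, 6, 9, 4] [.out 3361],
  .sub [4, 6, 9, 4] [.out 592],
  .sub [5, 6, 9, 4] [.out 1196],
  .sub [7, 6, 9, 4] [.out 4501],
  .sub [8, 6, 9, 4] [.out 5394],
  .sub [9, 6, 9, 4] [.out 4753],
  .sub [10, 6, 9, 4] [.out 5274],
  .sub [12, 6, 9, 4] [.sub [4, 8, 5, 5, 3, 5, 3, 4, 8, 5, 5, 3, 5, 3, 5, 3, 4, 8, 5, 5, 3, 5, 3, 4, 8, 5, 5, 3, 4, 8, 5, 5, 3, 4, 8, 5] [.out 6017]],
  .sub [13, 6, 9, 4] [.sub [4, 8, 5, 5, 3, 4, 8, 5, 5, 3, 5, 3, 4, 8, 5] [.out 1317]],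
  .sub [17, 6, 9, 4] [.out 907],
  .sub [18, 6, 9, 4] [.out 228],
  .sub [19, 6, 9, 4] [.out 3975],
  .sub [20, 6, 9, 4] [.out 5104],
  .sub [21, 6, 9, 4] [.out 3997],
  .sub [0, 8, 9, 4] [.out 5088],
  .sub [1, 8, 9, 4] [.sub [4, 8, 5, 5, 3, 5, 3, 5, 3, 4, 8, 5, 5, 3, 4, 8, 5, 5, 3, 4, 8, 5, 5, 3, 5, 3, 4, 8, 5] [.out 1651]],
  .sub [2, 8, 9, 4] [.sub [4, 8, 5, 5, 3, 4, 8, 5, 5, 3, 5, 3, 4, 8, 5, 5, 3, 5, 3, 5, 3, 4, 8, 5, 5, 3, 4, 8, 5, 5, 3, 5, 3, 5, 3, 4, 8, 5, 5, 3, 4, 8, 5, 5, 3, 5, 3] [.out 4517]],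
  .sub [4, 8, 9, 4] [.out 441],
  .sub [6, 8, 9, 4] [.out 4687],
  .sub [9, 8, 9, 4] [.out 566],
  .sub [10, 8, 9, 4] [.out 350],
  .sub [11, 8, 9, 4] [.out 1444],
  .sub [13, 8, 9, 4] [.out 5092],
  .sub [14, 8, 9, 4] [.sub [5, 3, 5, 3, 4, 8, 5, 5, 3, 5, 3, 4, 8, 5, 5, 3, 4, 8, 5, 5, 3, 5, 3, 4, 8, 5, 5, 3] [.out 5299]],
  .sub [16, 8, 9, 4] [.out 3469],
  .sub [17, 8, 9, 4] [.out 2315],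
  .sub [18, 8, 9, 4] [.out 4153],
  .sub [20, 8, 9, 4] [.out 5626],
  .sub [21, 8, 9, 4] [.out 1050],
  .sub [0, 11, 9, 4] [.out 609],
  .sub [2, 11, 9, 4] [.out 4709],
  .sub [4, 11, 9, 4] [.out 729],
  .sub [5, 11, 9, 4] [.out 6026],
  .sub [6, 11, 9, 4] [.sub [5, 3, 5, 3, 4, 8, 5, 5, 3, 4, 8, 5] [.out 2143]],
  .sub [9, 11, 9, 4] [.out 3556],
  .sub [10, 11, 9, 4] [.out 1603],
  .sub [11, 11, 9, 4] [.out 1650],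
  .sub [12, 11, 9, 4] [.out 842],
  .sub [13, 11, 9, 4] [.out 400],
  .sub [16, 11, 9, 4] [.out 2526],
  .sub [17, 11, 9, 4] [.out 6065],
  .sub [18, 11, 9, 4] [.out 6122],
  .sub [19, 11, 9, 4] [.out 4218],
  .sub [21, 11, 9, 4] [.out 2885],
  .sub [4, 16, 9, 4] [.out 3102],
  .sub [5, 16, 9, 4] [.out 2908],
  .sub [7, 16, 9, 4] [.out 2147],
  .sub [9, 16, 9, 4] [.sub [4, 8, 5, 5, 3, 5, 3, 4, 8, 5, 5, 3, 4, 8, 5, 5, 3, 5, 3, 4, 8, 5, 5, 3, 5, 3] [.out 4818]],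
  .sub [10, 16, 9, 4] [.sub [4, 8, 5, 5, 3, 5, 3, 4, 8, 5, 5, 3, 4, 8, 5, 5, 3, 5, 3, 5, 3] [.out 427]],
  .sub [13, 16, 9, 4] [.out 5696],
  .sub [16, 16, 9, 4] [.out 4193],
  .sub [17, 16, 9, 4] [.sub [5, 3, 5, 3, 4, 8, 5, 5, 3, 5, 3, 5, 3, 4, 8, 5, 5, 3, 4, 8, 5, 5, 3, 5, 3, 5, 3, 4, 8, 5, 5, 3, 5, 3, 4, 8, 5, 5, 3] [.out 31]],
  .sub [20, 16, 9, 4] [.out 3188],
  .sub [1, 17, 9, 4] [.out 2670],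
  .sub [11, 17, 9, 4] [.sub [5, 3, 4, 8, 5, 5, 3, 4, 8, 5, 5, 3, 5, 3, 5, 3, 4, 8, 5, 5, 3, 5, 3] [.out 860]],
  .sub [1, 19, 9, 4] [.out 2604],
  .sub [4, 19, 9, 4] [.out 550],
  .sub [16, 19, 9, 4] [.out 2375],
  .sub [21, 19, 9, 4] [.out 4686],
  .sub [3, 0, 10, 4] [.out 840],
  .sub [5, 0, 10, 4] [.sub [4, 8, 5, 5, 3, 5, 3, 4, 8, 5, 5, 3, 4, 8, 5, 5, 3, 5, 3, 4, 8, 5, 5, 3, 4, 8, 5, 5, 3, 5, 3, 4, 8, 5, 5, 3, 5, 3, 4, 8, 5, 5, 3] [.out 3608]],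
  .sub [9, 0, 10, 4] [.out 3858],
  .sub [12, 0, 10, 4] [.out 2954],
  .sub [17, 0, 10, 4] [.out 581],
  .sub [19, 0, 10, 4] [.out 3346],
  .sub [21, 0, 10, 4] [.out 4692],
  .sub [4, 1, 10, 4] [.out 4486],
  .sub [9, 1, 10, 4] [.out 3633],
  .sub [11, 1, 10, 4] [.out 2562],
  .sub [12, 1, 10, 4] [.out 586],
  .sub [18, 1, 10, 4] [.out 4970],
  .sub [4, 2, 10, 4] [.out 3805],
  .sub [5, 2, 10, 4] [.out 2208]]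

/-- Branches. -/
def kidsXPart13 : List Branch := [
  .sub [6, 2, 10, 4] [.out 4861],
  .sub [8, 2, 10, 4] [.out 2743],
  .sub [11, 2, 10, 4] [.out 1916],
  .sub [21, 2, 10, 4] [.out 4088],
  .sub [1, 3, 10, 4] [.out 3903],
  .sub [4, 3, 10, 4] [.out 890],
  .sub [6, 3, 10, 4] [.sub [5, 3, 4, 8, 5, 5, 3, 5, 3, 4, 8, 5, 5, 3, 5, 3, 5, 3, 4, 8, 5, 5, 3, 5, 3, 4, 8, 5, 5, 3, 4, 8, 5, 5, 3, 5, 3, 5, 3] [.out 3041]],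
  .sub [11, 3, 10, 4] [.out 3966],
  .sub [16, 3, 10, 4] [.out 4126],
  .sub [17, 3, 10, 4] [.out 4493],
  .sub [21, 3, 10, 4] [.out 3489],
  .sub [1, 4, 10, 4] [.out 1719],
  .sub [4, 4, 10, 4] [.sub [5, 3, 5, 3, 4, 8, 5, 5, 3, 4, 8, 5] [.out 5627]],
  .sub [6, 4, 10, 4] [.out 4093],
  .sub [7, 4, 10, 4] [.out 210],
  .sub [8, 4, 10, 4] [.out 3677],
  .sub [14, 4, 10, 4] [.out 576],
  .sub [16, 4, 10, 4] [.out 601],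
  .sub [19, 4, 10, 4] [.out 1807],
  .sub [21, 4, 10, 4] [.sub [4, 8, 5, 5, 3, 5, 3, 5, 3, 4, 8, 5, 5, 3, 4, 8, 5, 5, 3, 5, 3] [.out 4327]],
  .sub [2, 5, 10, 4] [.out 1087],
  .sub [3, 5, 10, 4] [.out 5677],
  .sub [4, 5, 10, 4] [.out 3281],
  .sub [8, 5, 10, 4] [.out 4690],
  .sub [9, 5, 10, 4] [.out 322],
  .sub [10, 5, 10, 4] [.out 1035],
  .sub [12, 5, 10, 4] [.out 5295],
  .sub [13, 5, 10, 4] [.sub [4, 8, 5, 5, 3, 5, 3, 5, 3, 4, 8, 5, 5, 3, 4, 8, 5, 5, 3, 5, 3, 5, 3, 4, 8, 5, 5, 3, 5, 3, 4, 8, 5, 5, 3, 4, 8, 5, 5, 3] [.out 3782]],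
  .sub [14, 5, 10, 4] [.sub [4, 8, 5, 5, 3, 5, 3, 4, 8, 5, 5, 3] [.out 2534]],
  .sub [18, 5, 10, 4] [.out 4934],
  .sub [19, 5, 10, 4] [.out 5838],
  .sub [21, 5, 10, 4] [.out 5732],
  .sub [2, 6, 10, 4] [.out 4286],
  .sub [3, 6, 10, 4] [.out 3966],
  .sub [4, 6, 10, 4] [.out 870],
  .sub [5, 6, 10, 4] [.sub [4, 8, 5, 5, 3, 5, 3, 4, 8, 5, 5, 3, 4, 8, 5, 5, 3, 5, 3, 4, 8, 5, 5, 3, 5, 3, 4, 8, 5, 5, 3, 4, 8, 5, 5, 3, 4, 8, 5, 5, 3, 5, 3, 4, 8, 5] [.out 3504]],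
  .sub [8, 6, 10, 4] [.out 1285],
  .sub [17, 6, 10, 4] [.out 439],
  .sub [4, 7, 10, 4] [.out 3474],
  .sub [6, 7, 10, 4] [.sub [5, 3, 4, 8, 5, 5, 3, 4, 8, 5, 5, 3, 4, 8, 5, 5, 3, 5, 3, 4, 8, 5, 5, 3, 5, 3, 5, 3, 4, 8, 5, 5, 3, 4, 8, 5, 5, 3] [.out 3482]],
  .sub [9, 7, 10, 4] [.out 2445],
  .sub [12, 7, 10, 4] [.out 5722],
  .sub [0, 8, 10, 4] [.sub [5, 3, 4, 8, 5, 5, 3, 5, 3, 4, 8, 5, 5, 3, 4, 8, 5] [.out 2208]],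
  .sub [1, 8, 10, 4] [.out 5256],
  .sub [5, 8, 10, 4] [.out 3429],
  .sub [6, 8, 10, 4] [.sub [5, 3, 4, 8, 5, 5, 3, 5, 3, 5, 3, 4, 8, 5, 5, 3, 5, 3, 4, 8, 5, 5, 3, 4, 8, 5] [.out 4947]],
  .sub [10, 8, 10, 4] [.out 121],
  .sub [12, 8, 10, 4] [.sub [4, 8, 5, 5, 3, 4, 8, 5, 5, 3, 4, 8, 5, 5, 3, 5, 3, 4, 8, 5, 5, 3, 5, 3, 4, 8, 5, 5, 3] [.out 3482]],
  .sub [16, 8, 10, 4] [.out 2157],
  .sub [3, 10, 10, 4] [.out 6099],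
  .sub [4, 10, 10, 4] [.out 5824],
  .sub [5, 10, 10, 4] [.out 3961],
  .sub [6, 10, 10, 4] [.out 2379],
  .sub [8, 10, 10, 4] [.out 5886],
  .sub [9, 10, 10, 4] [.out 3161],
  .sub [10, 10, 10, 4] [.out 685],
  .sub [12, 10, 10, 4] [.out 1149],
  .sub [14, 10, 10, 4] [.out 1064],
  .sub [18, 10, 10, 4] [.out 3741],
  .sub [0, 11, 10, 4] [.out 3896],
  .sub [1, 11, 10, 4] [.out 4466],
  .sub [2, 11, 10, 4] [.out 2632],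
  .sub [3, 11, 10, 4] [.sub [4, 8, 5, 5, 3, 5, 3, 4, 8, 5, 5, 3, 4, 8, 5, 5, 3, 4, 8, 5, 5, 3, 5, 3, 5, 3] [.out 5627]],
  .sub [6, 11, 10, 4] [.out 4354],
  .sub [7, 11, 10, 4] [.out 5420],
  .sub [10, 11, 10, 4] [.out 557],
  .sub [13, 11, 10, 4] [.out 4018],
  .sub [16, 11, 10, 4] [.out 1041],
  .sub [17, 11, 10, 4] [.out 4693],
  .sub [19, 11, 10, 4] [.out 5584],
  .sub [20, 11, 10, 4] [.out 56],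
  .sub [21, 11, 10, 4] [.sub [5, 3, 5, 3, 4, 8, 5, 5, 3, 5, 3, 5, 3, 4, 8, 5, 5, 3, 4, 8, 5, 5, 3, 5, 3, 4, 8, 5, 5, 3, 5, 3, 5, 3, 4, 8, 5, 5, 3] [.out 3992]],
  .sub [0, 12, 10, 4] [.out 4425],
  .sub [2, 12, 10, 4] [.out 2534],
  .sub [4, 12, 10, 4] [.out 5086],
  .sub [5, 12, 10, 4] [.out 5869],
  .sub [6, 12, 10, 4] [.out 3000],
  .sub [7, 12, 10, 4] [.out 3520],
  .sub [12, 12, 10, 4] [.out 5613],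
  .sub [14, 12, 10, 4] [.out 2824],
  .sub [19, 12, 10, 4] [.out 5630],
  .sub [21, 12, 10, 4] [.out 1291],
  .sub [3, 13, 10, 4] [.out 718],
  .sub [4, 13, 10, 4] [.out 860],
  .sub [5, 13, 10, 4] [.out 3188],
  .sub [6, 13, 10, 4] [.out 6100],
  .sub [9, 13, 10, 4] [.out 843],
  .sub [10, 13, 10, 4] [.out 4512],
  .sub [11, 13, 10, 4] [.out 5526],
  .sub [12, 13, 10, 4] [.out 3323],
  .sub [13, 13, 10, 4] [.out 2714],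
  .sub [17, 13, 10, 4] [.out 312],
  .sub [18, 13, 10, 4] [.sub [4, 8, 5, 5, 3, 5, 3, 4, 8, 5, 5, 3, 5, 3, 5, 3, 4, 8, 5, 5, 3, 4, 8, 5, 5, 3, 4, 8, 5] [.out 4872]],
  .sub [0, 17, 10, 4] [.out 341],
  .sub [4, 17, 10, 4] [.out 4446],
  .sub [5, 17, 10, 4] [.out 5258],
  .sub [11, 17, 10, 4] [.sub [5, 3, 5, 3, 4, 8, 5, 5, 3, 4, 8, 5, 5, 3, 5, 3, 4, 8, 5, 5, 3, 4, 8, 5, 5, 3, 5, 3, 5, 3, 4, 8, 5, 5, 3, 5, 3, 5, 3] [.out 1212]],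
  .sub [12, 17, 10, 4] [.sub [4, 8, 5, 5, 3, 5, 3, 5, 3, 4, 8, 5, 5, 3, 5, 3, 4, 8, 5, 5, 3, 4, 8, 5, 5, 3, 5, 3, 4, 8, 5, 5, 3, 4, 8, 5, 5, 3, 4, 8, 5] [.out 205]],
  .sub [13, 17, 10, 4] [.out 4747],
  .sub [21, 17, 10, 4] [.sub [4, 8, 5, 5, 3, 5, 3, 4, 8, 5, 5, 3, 4, 8, 5, 5, 3, 5, 3, 4, 8, 5, 5, 3, 5, 3, 5, 3, 4, 8, 5, 5, 3, 5, 3, 4, 8, 5, 5, 3] [.out 1042]],
  .sub [6, 19, 10, 4] [.sub [5, 3, 4, 8, 5, 5, 3, 4, 8, 5, 5, 3, 5, 3, 4, 8, 5, 5, 3, 4, 8, 5, 5, 3, 4, 8, 5, 5, 3, 5, 3, 4, 8, 5] [.out 2747]],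
  .sub [8, 19, 10, 4] [.sub [5, 3, 5, 3, 5, 3, 4, 8, 5, 5, 3, 4, 8, 5, 5, 3, 4, 8, 5, 5, 3, 5, 3, 4, 8, 5, 5, 3, 4, 8, 5] [.out 463]],
  .sub [11, 19, 10, 4] [.out 2615],
  .sub [12, 19, 10, 4] [.out 3168],
  .sub [1, 21, 10, 4] [.sub [4, 8, 5, 5, 3, 4, 8, 5, 5, 3, 4, 8, 5, 5, 3, 5, 3, 5, 3, 4, 8, 5, 5, 3, 5, 3, 4, 8, 5, 5, 3, 4, 8, 5, 5, 3, 4, 8, 5, 5, 3, 5, 3] [.out 2424]],
  .sub [3, 21, 10, 4] [.out 2793],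
  .sub [4, 21, 10, 4] [.out 4899],
  .sub [5, 21, 10, 4] [.out 880],
  .sub [8, 21, 10, 4] [.out 2047],
  .sub [9, 21, 10, 4] [.sub [4, 8, 5, 5, 3, 4, 8, 5, 5, 3, 5, 3, 5, 3, 4, 8, 5, 5, 3, 4, 8, 5, 5, 3, 4, 8, 5, 5, 3] [.out 239]],
  .sub [12, 21, 10, 4] [.out 5867],
  .sub [16, 21, 10, 4] [.out 3027],
  .sub [17, 21, 10, 4] [.out 563],
  .sub [19, 21, 10, 4] [.out 3270],
  .sub [2, 0, 11, 4] [.out 668],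
  .sub [7, 0, 11, 4] [.out 5510],
  .sub [9, 0, 11, 4] [.out 5427],
  .sub [17, 0, 11, 4] [.out 4898],
  .sub [18, 0, 11, 4] [.out 3841],
  .sub [3, 2, 11, 4] [.out 394],
  .sub [4, 2, 11, 4] [.out 915],
  .sub [9, 2, 11, 4] [.sub [5, 3, 4, 8, 5, 5, 3, 5, 3, 4, 8, 5, 5, 3, 4, 8, 5, 5, 3, 4, 8, 5, 5, 3, 5, 3, 4, 8, 5] [.out 4915]],
  .sub [11, 2, 11, 4] [.out 4876],
  .sub [12, 2, 11, 4] [.out 3613],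
  .sub [17, 2, 11, 4] [.out 3303],
  .sub [21, 2, 11, 4] [.out 849],
  .sub [10, 3, 11, 4] [.out 2171],
  .sub [16, 3, 11, 4] [.sub [4, 8, 5, 5, 3, 5, 3, 4, 8, 5, 5, 3, 4, 8, 5, 5, 3, 5, 3, 4, 8, 5, 5, 3] [.out 4327]],
  .sub [17, 3, 11, 4] [.out 5537],
  .sub [19, 3, 11, 4] [.out 4551],
  .sub [21, 3, 11, 4] [.out 1533],
  .sub [1, 4, 11, 4] [.out 3116],
  .sub [3, 4, 11, 4] [.sub [5, 3, 5, 3, 4, 8, 5, 5, 3, 5, 3, 5, 3, 4, 8, 5, 5, 3, 4, 8, 5, 5, 3, 5, 3, 4, 8, 5, 5, 3, 5, 3, 5, 3] [.out 5266]],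
  .sub [4, 4, 11, 4] [.out 4679],
  .sub [5, 4, 11, 4] [.out 1747],
  .sub [9, 4, 11, 4] [.out 148],
  .sub [10, 4, 11, 4] [.out 4763],
  .sub [11, 4, 11, 4] [.out 5686],
  .sub [12, 4, 11, 4] [.out 2618],
  .sub [13, 4, 11, 4] [.out 5258],
  .sub [14, 4, 11, 4] [.out 5649],
  .sub [20, 4, 11, 4] [.out 2747],
  .sub [21, 4, 11, 4] [.sub [5, 3, 4, 8, 5, 5, 3, 4, 8, 5, 5, 3, 5, 3, 4, 8, 5, 5, 3, 4, 8, 5, 5, 3, 4, 8, 5, 5, 3, 5, 3, 4, 8, 5] [.out 441]],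
  .sub [4, 5, 11, 4] [.out 1137],
  .sub [8, 5, 11, 4] [.sub [4, 8, 5, 5, 3, 4, 8, 5, 5, 3, 5, 3, 5, 3] [.out 1482]],
  .sub [11, 5, 11, 4] [.out 3612],
  .sub [21, 5, 11, 4] [.out 6133],
  .sub [4, 7, 11, 4] [.out 2932],
  .sub [9, 7, 11, 4] [.out 6118],
  .sub [12, 7, 11, 4] [.out 3831],
  .sub [14, 7, 11, 4] [.out 2567],
  .sub [17, 7, 11, 4] [.out 5434],
  .sub [18, 7, 11, 4] [.sub [4, 8, 5, 5, 3, 4, 8, 5, 5, 3, 4, 8, 5, 5, 3, 4, 8, 5, 5, 3, 5, 3, 4, 8, 5, 5, 3, 5, 3] [.out 239]],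
  .sub [4, 9, 11, 4] [.out 2421],
  .sub [6, 9, 11, 4] [.out 189],
  .sub [16, 9, 11, 4] [.out 4686],
  .sub [17, 9, 11, 4] [.sub [4, 8, 5, 5, 3, 5, 3, 5, 3, 4, 8, 5, 5, 3, 4, 8, 5, 5, 3, 4, 8, 5, 5, 3, 5, 3, 4, 8, 5, 5, 3, 5, 3] [.out 2460]],
  .sub [19, 9, 11, 4] [.out 4745],
  .sub [1, 11, 11, 4] [.out 67],
  .sub [7, 11, 11, 4] [.out 1526],
  .sub [13, 11, 11, 4] [.out 4549],
  .sub [16, 11, 11, 4] [.out 4571],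
  .sub [17, 11, 11, 4] [.out 1021],
  .sub [18, 11, 11, 4] [.out 981],
  .sub [19, 11, 11, 4] [.sub [4, 8, 5, 5, 3, 4, 8, 5, 5, 3, 4, 8, 5, 5, 3, 5, 3, 4, 8, 5, 5, 3, 5, 3, 5, 3, 4, 8, 5, 5, 3, 4, 8, 5, 5, 3, 4, 8, 5] [.out 915]],
  .sub [20, 11, 11, 4] [.out 1822],
  .sub [21, 11, 11, 4] [.out 2900],
  .sub [0, 12, 11, 4] [.out 3678],
  .sub [2, 12, 11, 4] [.out 1932],
  .sub [3, 12, 11, 4] [.out 1819],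
  .sub [5, 12, 11, 4] [.out 3446],
  .sub [7, 12, 11, 4] [.out 3642],
  .sub [8, 12, 11, 4] [.out 2273],
  .sub [9, 12, 11, 4] [.out 6149],
  .sub [10, 12, 11, 4] [.out 2947],
  .sub [13, 12, 11, 4] [.out 5525],
  .sub [17, 12, 11, 4] [.out 5127],
  .sub [18, 12, 11, 4] [.out 1733],
  .sub [20, 12, 11, 4] [.out 5750],
  .sub [21, 12, 11, 4] [.out 5806],
  .sub [4, 16, 11, 4] [.out 6145],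
  .sub [5, 16, 11, 4] [.out 1335],
  .sub [8, 16, 11, 4] [.out 3084],
  .sub [21, 16, 11, 4] [.out 3336],
  .sub [0, 17, 11, 4] [.out 4496],
  .sub [4, 17, 11, 4] [.out 1813],
  .sub [5, 17, 11, 4] [.out 1490],
  .sub [6, 17, 11, 4] [.out 4135],
  .sub [8, 17, 11, 4] [.out 5407],
  .sub [11, 17, 11, 4] [.out 393],
  .sub [12, 17, 11, 4] [.out 2192],
  .sub [13, 17, 11, 4] [.out 2965]]

/-- Branches. -/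
def kidsXPart14 : List Branch := [
  .sub [14, 17, 11, 4] [.out 5554],
  .sub [16, 17, 11, 4] [.out 3416],
  .sub [21, 17, 11, 4] [.out 5631],
  .sub [6, 18, 11, 4] [.out 4924],
  .sub [8, 18, 11, 4] [.sub [5, 3, 4, 8, 5, 5, 3, 4, 8, 5, 5, 3, 5, 3, 4, 8, 5, 5, 3, 4, 8, 5, 5, 3, 4, 8, 5, 5, 3, 5, 3, 4, 8, 5, 5, 3, 4, 8, 5] [.out 3608]],
  .sub [9, 18, 11, 4] [.out 4950],
  .sub [12, 18, 11, 4] [.sub [4, 8, 5, 5, 3, 4, 8, 5, 5, 3, 5, 3, 4, 8, 5, 5, 3, 5, 3, 5, 3, 4, 8, 5, 5, 3, 4, 8, 5, 5, 3, 4, 8, 5] [.out 4230]],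
  .sub [13, 18, 11, 4] [.out 5496],
  .sub [14, 18, 11, 4] [.out 4741],
  .sub [1, 19, 11, 4] [.out 4822],
  .sub [4, 19, 11, 4] [.sub [4, 8, 5, 5, 3, 4, 8, 5, 5, 3, 5, 3, 4, 8, 5, 5, 3, 5, 3, 4, 8, 5, 5, 3, 4, 8, 5, 5, 3, 4, 8, 5] [.out 5723]],
  .sub [5, 19, 11, 4] [.out 4266],
  .sub [8, 19, 11, 4] [.sub [4, 8, 5, 5, 3, 5, 3, 4, 8, 5, 5, 3, 5, 3, 4, 8, 5, 5, 3, 4, 8, 5, 5, 3, 5, 3, 4, 8, 5, 5, 3, 5, 3, 5, 3, 4, 8, 5, 5, 3, 4, 8, 5] [.out 2662]],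
  .sub [11, 19, 11, 4] [.out 2354],
  .sub [12, 19, 11, 4] [.out 4799],
  .sub [14, 19, 11, 4] [.out 1069],
  .sub [16, 19, 11, 4] [.sub [4, 8, 5, 5, 3, 5, 3, 5, 3, 4, 8, 5] [.out 709]],
  .sub [21, 19, 11, 4] [.out 1029],
  .sub [4, 20, 11, 4] [.sub [5, 3, 5, 3, 5, 3, 4, 8, 5, 5, 3, 5, 3, 4, 8, 5, 5, 3] [.bad [3, 3, 2, 0, 3, 3, 2, 0, 3, 2, 0, 8, 3, 1, 3, 0, 2, 1, 0, 3, 3, 2, 0, 3, 3, 2, 0, 3, 3, 2, 0, 3, 2, 0, 8, 3, 1, 3, 0, 2, 1, 0, 3, 3, 2, 0, 3, 2, 0, 8, 3, 1, 3, 0, 2, 1, 0, 5, 3, 4, 8, 5, 5, 3, 5, 3, 4, 8, 5, 5, 3, 5, 3, 5, 3, 4, 8, 5, 5, 3, 5, 3, 3, 3, 2, 0, 3, 3, 2, 0, 3, 2, 0, 8, 3, 1, 3, 0, 2, 1, 0, 3, 3, 2, 0, 3, 3, 2, 0, 3, 3, 2, 0, 3, 2, 0, 8, 3, 1, 3, 0, 2, 1, 0, 3, 3, 2, 0, 3, 2, 0, 8, 3, 1, 3, 0, 2, 1, 0, 5, 3, 4, 8, 5, 5, 3, 5, 3, 4, 8, 5, 5, 3, 5, 3,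 5, 3, 4, 8, 5, 5, 3, 5, 3, 3, 2, 0, 8, 3, 1, 3, 0, 2, 1, 0, 3, 3, 2, 0, 3, 3, 2, 0, 3, 2, 0, 8, 3, 1, 3, 0, 2, 1, 0, 5, 3, 4, 8, 5, 5, 3, 4, 8, 5, 5, 3, 5, 3, 5, 3, 4, 8, 5] 1]],
  .sub [6, 20, 11, 4] [.sub [5, 3, 5, 3, 4, 8, 5, 5, 3, 4, 8, 5, 5, 3, 5, 3, 5, 3, 4, 8, 5, 5, 3, 5, 3] [.out 4823]],
  .sub [8, 20, 11, 4] [.out 4415],
  .sub [11, 20, 11, 4] [.out 1097],
  .sub [4, 21, 11, 4] [.out 1281],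
  .sub [7, 21, 11, 4] [.out 2771],
  .sub [11, 21, 11, 4] [.sub [4, 8, 5, 5, 3, 4, 8, 5, 5, 3, 4, 8, 5, 5, 3, 5, 3, 4, 8, 5, 5, 3, 5, 3, 5, 3, 4, 8, 5, 5, 3, 4, 8, 5] [.out 3253]],
  .sub [12, 21, 11, 4] [.out 4749],
  .sub [14, 21, 11, 4] [.out 980],
  .sub [16, 21, 11, 4] [.out 2942],
  .sub [17, 21, 11, 4] [.out 4794],
  .sub [19, 21, 11, 4] [.out 5090],
  .sub [21, 21, 11, 4] [.out 627],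
  .sub [4, 0, 12, 4] [.out 4297],
  .sub [5, 0, 12, 4] [.out 5695],
  .sub [8, 0, 12, 4] [.sub [4, 8, 5, 5, 3, 5, 3, 5, 3, 4, 8, 5, 5, 3, 4, 8, 5, 5, 3, 4, 8, 5, 5, 3, 5, 3, 4, 8, 5] [.out 989]],
  .sub [11, 0, 12, 4] [.out 4870],
  .sub [12, 0, 12, 4] [.out 6044],
  .sub [21, 0, 12, 4] [.out 180],
  .sub [4, 2, 12, 4] [.out 1302],
  .sub [6, 2, 12, 4] [.out 227],
  .sub [16, 2, 12, 4] [.sub [5, 3, 4, 8, 5, 5, 3, 5, 3, 4, 8, 5, 5, 3, 5, 3, 5, 3, 4, 8, 5, 5, 3, 4, 8, 5, 5, 3, 5, 3, 5, 3, 4, 8, 5, 5, 3, 4, 8, 5, 5, 3, 5, 3] [.out 5191]],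
  .sub [17, 2, 12, 4] [.sub [4, 8, 5, 5, 3, 5, 3, 4, 8, 5, 5, 3, 4, 8, 5, 5, 3, 5, 3, 4, 8, 5, 5, 3] [.out 2218]],
  .sub [18, 2, 12, 4] [.out 3668],
  .sub [19, 2, 12, 4] [.out 5113],
  .sub [1, 3, 12, 4] [.out 1821],
  .sub [16, 3, 12, 4] [.sub [4, 8, 5, 5, 3, 4, 8, 5, 5, 3, 5, 3, 4, 8, 5, 5, 3, 4, 8, 5, 5, 3, 5, 3, 4, 8, 5, 5, 3, 5, 3, 4, 8, 5, 5, 3, 4, 8, 5, 5, 3, 4, 8, 5, 5, 3, 5, 3, 4, 8, 5] [.out 422]],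
  .sub [17, 3, 12, 4] [.sub [5, 3, 4, 8, 5, 5, 3, 5, 3, 4, 8, 5, 5, 3, 5, 3, 5, 3, 4, 8, 5, 5, 3, 4, 8, 5, 5, 3, 5, 3, 5, 3, 4, 8, 5, 5, 3, 5, 3, 4, 8, 5, 5, 3] [.out 4980]],
  .sub [19, 3, 12, 4] [.out 3324],
  .sub [21, 3, 12, 4] [.out 5486],
  .sub [0, 4, 12, 4] [.out 3890],
  .sub [1, 4, 12, 4] [.out 1076],
  .sub [3, 4, 12, 4] [.out 4671],
  .sub [4, 4, 12, 4] [.sub [4, 8, 5, 5, 3, 4, 8, 5, 5, 3, 4, 8, 5, 5, 3, 4, 8, 5, 5, 3, 5, 3, 4, 8, 5, 5, 3, 5, 3, 4, 8, 5, 5, 3, 4, 8, 5, 5, 3, 4, 8, 5] [.out 344]],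
  .sub [6, 4, 12, 4] [.out 2636],
  .sub [11, 4, 12, 4] [.out 3965],
  .sub [12, 4, 12, 4] [.out 4863],
  .sub [16, 4, 12, 4] [.sub [4, 8, 5, 5, 3, 5, 3, 5, 3, 4, 8, 5, 5, 3, 4, 8, 5, 5, 3, 5, 3] [.out 3409]],
  .sub [18, 4, 12, 4] [.sub [5, 3, 5, 3, 4, 8, 5, 5, 3, 5, 3, 5, 3, 4, 8, 5, 5, 3] [.out 3729]],
  .sub [21, 4, 12, 4] [.out 309],
  .sub [3, 5, 12, 4] [.out 3439],
  .sub [7, 5, 12, 4] [.out 3477],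
  .sub [10, 5, 12, 4] [.out 1117],
  .sub [11, 5, 12, 4] [.sub [5, 3, 4, 8, 5, 5, 3, 5, 3, 4, 8, 5, 5, 3, 4, 8, 5, 5, 3, 5, 3, 4, 8, 5, 5, 3, 4, 8, 5, 5, 3, 5, 3, 5, 3, 4, 8, 5, 5, 3, 4, 8, 5, 5, 3] [.out 4674]],
  .sub [13, 5, 12, 4] [.out 4297],
  .sub [17, 5, 12, 4] [.out 1474],
  .sub [18, 5, 12, 4] [.out 2421],
  .sub [19, 5, 12, 4] [.out 2887],
  .sub [20, 5, 12, 4] [.out 1384],
  .sub [21, 5, 12, 4] [.out 5915],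
  .sub [4, 7, 12, 4] [.out 5093],
  .sub [6, 7, 12, 4] [.sub [5, 3, 4, 8, 5, 5, 3, 4, 8, 5, 5, 3, 5, 3, 4, 8, 5, 5, 3, 4, 8, 5, 5, 3, 5, 3] [.out 4792]],
  .sub [8, 7, 12, 4] [.out 5925],
  .sub [12, 7, 12, 4] [.sub [4, 8, 5, 5, 3, 5, 3, 5, 3, 4, 8, 5, 5, 3, 4, 8, 5, 5, 3, 5, 3, 4, 8, 5] [.out 936]],
  .sub [13, 7, 12, 4] [.out 5900],
  .sub [18, 7, 12, 4] [.out 2860],
  .sub [21, 7, 12, 4] [.out 832],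
  .sub [0, 8, 12, 4] [.sub [4, 8, 5, 5, 3, 4, 8, 5, 5, 3] [.out 2558]],
  .sub [5, 8, 12, 4] [.out 1840],
  .sub [9, 8, 12, 4] [.out 2206],
  .sub [11, 8, 12, 4] [.sub [5, 3, 4, 8, 5, 5, 3, 4, 8, 5, 5, 3, 5, 3, 5, 3, 4, 8, 5, 5, 3, 4, 8, 5, 5, 3, 5, 3, 4, 8, 5, 5, 3, 5, 3, 5, 3, 4, 8, 5, 5, 3] [.out 3844]],
  .sub [13, 8, 12, 4] [.out 5592],
  .sub [14, 8, 12, 4] [.out 5515],
  .sub [21, 8, 12, 4] [.sub [5, 3, 5, 3, 4, 8, 5, 5, 3, 4, 8, 5, 5, 3, 4, 8, 5, 5, 3, 5, 3, 5, 3, 4, 8, 5, 5, 3, 4, 8, 5, 5, 3] [.out 4654]],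
  .sub [4, 10, 12, 4] [.sub [5, 3, 4, 8, 5, 5, 3, 4, 8, 5, 5, 3, 4, 8, 5, 5, 3, 5, 3, 4, 8, 5, 5, 3, 5, 3, 5, 3] [.out 3834]],
  .sub [5, 10, 12, 4] [.out 5558],
  .sub [8, 10, 12, 4] [.out 218],
  .sub [9, 10, 12, 4] [.sub [5, 3, 4, 8, 5, 5, 3, 5, 3, 4, 8, 5, 5, 3, 5, 3, 4, 8, 5, 5, 3, 4, 8, 5, 5, 3, 5, 3, 4, 8, 5, 5, 3] [.out 3597]],
  .sub [10, 10, 12, 4] [.out 3808],
  .sub [11, 10, 12, 4] [.out 1331],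
  .sub [12, 10, 12, 4] [.out 2518],
  .sub [13, 10, 12, 4] [.out 2112],
  .sub [14, 10, 12, 4] [.out 1313],
  .sub [18, 10, 12, 4] [.out 926],
  .sub [0, 11, 12, 4] [.out 5736],
  .sub [5, 11, 12, 4] [.sub [4, 8, 5, 5, 3, 4, 8, 5, 5, 3, 5, 3, 4, 8, 5, 5, 3, 4, 8, 5, 5, 3, 5, 3, 5, 3, 4, 8, 5, 5, 3] [.out 4204]],
  .sub [17, 11, 12, 4] [.out 5861],
  .sub [21, 11, 12, 4] [.out 4480],
  .sub [6, 12, 12, 4] [.out 885],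
  .sub [13, 12, 12, 4] [.out 3015],
  .sub [18, 12, 12, 4] [.out 5843],
  .sub [0, 17, 12, 4] [.sub [5, 3, 5, 3, 4, 8, 5, 5, 3, 4, 8, 5, 5, 3, 5, 3, 4, 8, 5, 5, 3, 5, 3, 4, 8, 5, 5, 3] [.out 3094]],
  .sub [1, 17, 12, 4] [.out 1110],
  .sub [4, 17, 12, 4] [.sub [5, 3, 4, 8, 5, 5, 3, 4, 8, 5, 5, 3, 5, 3] [.out 2267]],
  .sub [5, 17, 12, 4] [.out 3592],
  .sub [6, 17, 12, 4] [.out 4201],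
  .sub [10, 17, 12, 4] [.out 4462],
  .sub [11, 17, 12, 4] [.sub [5, 3, 5, 3, 4, 8, 5, 5, 3, 5, 3, 5, 3, 4, 8, 5, 5, 3, 5, 3, 4, 8, 5, 5, 3, 4, 8, 5, 5, 3] [.out 3482]],
  .sub [12, 17, 12, 4] [.out 4837],
  .sub [16, 17, 12, 4] [.out 4918],
  .sub [21, 17, 12, 4] [.out 562],
  .sub [1, 18, 12, 4] [.out 3990],
  .sub [4, 18, 12, 4] [.out 1438],
  .sub [6, 18, 12, 4] [.out 1705],
  .sub [10, 18, 12, 4] [.out 3323],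
  .sub [11, 18, 12, 4] [.out 3836],
  .sub [14, 18, 12, 4] [.out 4273],
  .sub [21, 18, 12, 4] [.out 3026],
  .sub [4, 19, 12, 4] [.out 6032],
  .sub [5, 19, 12, 4] [.out 5530],
  .sub [6, 19, 12, 4] [.out 742],
  .sub [8, 19, 12, 4] [.out 2685],
  .sub [11, 19, 12, 4] [.out 48],
  .sub [16, 19, 12, 4] [.sub [4, 8, 5, 5, 3, 5, 3, 4, 8, 5, 5, 3, 5, 3, 4, 8, 5, 5, 3, 4, 8, 5] [.out 2713]],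
  .sub [4, 20, 12, 4] [.out 3598],
  .sub [11, 20, 12, 4] [.out 3772],
  .sub [16, 20, 12, 4] [.out 5043],
  .sub [21, 20, 12, 4] [.out 2246],
  .sub [4, 21, 12, 4] [.out 2689],
  .sub [5, 21, 12, 4] [.sub [5, 3, 4, 8, 5, 5, 3, 4, 8, 5, 5, 3, 5, 3, 5, 3, 4, 8, 5, 5, 3, 4, 8, 5, 5, 3, 5, 3, 4, 8, 5] [.out 3806]],
  .sub [7, 21, 12, 4] [.out 3613],
  .sub [10, 21, 12, 4] [.out 4470],
  .sub [14, 21, 12, 4] [.out 548],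
  .sub [16, 21, 12, 4] [.out 1270],
  .sub [17, 21, 12, 4] [.out 4032],
  .sub [18, 21, 12, 4] [.out 2875],
  .sub [19, 21, 12, 4] [.out 2979],
  .sub [21, 21, 12, 4] [.sub [4, 8, 5, 5, 3, 4, 8, 5, 5, 3, 5, 3, 5, 3, 4, 8, 5, 5, 3, 4, 8, 5, 5, 3, 5, 3, 4, 8, 5] [.out 5298]],
  .sub [4, 2, 13, 4] [.out 3772],
  .sub [8, 2, 13, 4] [.out 4828],
  .sub [11, 2, 13, 4] [.out 2264],
  .sub [12, 2, 13, 4] [.out 994],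
  .sub [1, 3, 13, 4] [.out 5858],
  .sub [4, 3, 13, 4] [.out 4968],
  .sub [6, 3, 13, 4] [.out 5486],
  .sub [10, 3, 13, 4] [.out 2412],
  .sub [11, 3, 13, 4] [.out 3896],
  .sub [14, 3, 13, 4] [.out 5276],
  .sub [17, 3, 13, 4] [.out 1008],
  .sub [18, 3, 13, 4] [.out 3808],
  .sub [1, 4, 13, 4] [.out 4811],
  .sub [4, 4, 13, 4] [.out 3810],
  .sub [6, 4, 13, 4] [.sub [4, 8, 5, 5, 3, 4, 8, 5, 5, 3, 5, 3, 4, 8, 5, 5, 3, 4, 8, 5, 5, 3, 5, 3, 5, 3, 4, 8, 5, 5, 3, 5, 3, 5, 3] [.out 4872]],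
  .sub [8, 4, 13, 4] [.out 4035],
  .sub [10, 4, 13, 4] [.out 3943],
  .sub [11, 4, 13, 4] [.out 1525],
  .sub [16, 4, 13, 4] [.out 1125],
  .sub [21, 4, 13, 4] [.out 6149],
  .sub [4, 5, 13, 4] [.sub [5, 3, 5, 3, 4, 8, 5, 5, 3, 4, 8, 5, 5, 3, 4, 8, 5, 5, 3, 5, 3, 4, 8, 5, 5, 3, 5, 3, 5, 3, 4, 8, 5, 5, 3, 5, 3, 4, 8, 5, 5, 3] [.out 6017]],
  .sub [8, 5, 13, 4] [.out 5656],
  .sub [10, 5, 13, 4] [.out 2993],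
  .sub [19, 5, 13, 4] [.out 3482],
  .sub [4, 6, 13, 4] [.out 3393],
  .sub [8, 6, 13, 4] [.sub [4, 8, 5, 5, 3, 4, 8, 5, 5, 3, 5, 3, 4, 8, 5, 5, 3, 4, 8, 5, 5, 3, 5, 3, 4, 8, 5, 5, 3, 5, 3, 5, 3, 4, 8, 5, 5, 3, 4, 8, 5, 5, 3, 5, 3, 4, 8, 5] [.done 7]],
  .sub [9, 6, 13, 4] [.sub [4, 8, 5, 5, 3, 4, 8, 5, 5, 3, 4, 8, 5, 5, 3, 5, 3, 4, 8, 5, 5, 3, 5, 3, 4, 8, 5, 5, 3, 4, 8, 5, 5, 3, 4, 8, 5] [.out 4811]],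
  .sub [12, 6, 13, 4] [.out 325],
  .sub [4, 7, 13, 4] [.out 3729],
  .sub [8, 7, 13, 4] [.out 895],
  .sub [9, 7, 13, 4] [.out 5282],
  .sub [11, 7, 13, 4] [.out 3815],
  .sub [12, 7, 13, 4] [.out 3572],
  .sub [17, 7, 13, 4] [.out 3386],
  .sub [18, 7, 13, 4] [.out 779],
  .sub [0, 8, 13, 4] [.out 3834],
  .sub [1, 8, 13, 4] [.out 4671],
  .sub [3, 8, 13, 4] [.out 5752],
  .sub [5, 8, 13, 4] [.sub [5, 3, 4, 8, 5, 5, 3, 5, 3, 4, 8, 5, 5, 3, 5, 3, 5, 3, 4, 8, 5, 5, 3] [.out 3350]],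
  .sub [6, 8, 13, 4] [.out 3615],
  .sub [12, 8, 13, 4] [.out 3796],
  .sub [13, 8, 13, 4] [.out 3279],
  .sub [14, 8, 13, 4] [.sub [5, 3, 5, 3, 4, 8, 5, 5, 3, 5, 3, 5, 3, 4, 8, 5, 5, 3, 5, 3, 4, 8, 5, 5, 3, 4, 8, 5, 5, 3] [.out 427]],
  .sub [16, 8, 13, 4] [.out 784],
  .sub [21, 8, 13, 4] [.out 4629],
  .sub [4, 9, 13, 4] [.out 4483],
  .sub [6, 9, 13, 4] [.out 1782],
  .sub [19, 9, 13, 4] [.out 1566],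
  .sub [1, 10, 13, 4] [.out 1383],
  .sub [10, 10, 13, 4] [.out 4701],
  .sub [0, 11, 13, 4] [.out 3966],
  .sub [2, 11, 13, 4] [.out 6075],
  .sub [3, 11, 13, 4] [.out 4404],
  .sub [5, 11, 13, 4] [.out 1491],
  .sub [9, 11, 13, 4] [.out 2419],
  .sub [10, 11, 13, 4] [.sub [4, 8, 5, 5, 3, 5, 3, 4, 8, 5, 5, 3, 4, 8, 5, 5, 3, 4, 8, 5, 5, 3, 5, 3, 5, 3, 4, 8, 5, 5, 3] [.out 2596]]]

/-- Branches. -/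
def kidsXPart15 : List Branch := [
  .sub [13, 11, 13, 4] [.out 2553],
  .sub [18, 11, 13, 4] [.out 3739],
  .sub [19, 11, 13, 4] [.out 5400],
  .sub [20, 11, 13, 4] [.out 3708],
  .sub [21, 11, 13, 4] [.out 675],
  .sub [2, 12, 13, 4] [.out 507],
  .sub [4, 12, 13, 4] [.out 1989],
  .sub [5, 12, 13, 4] [.out 2204],
  .sub [7, 12, 13, 4] [.out 5737],
  .sub [10, 12, 13, 4] [.out 5015],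
  .sub [11, 12, 13, 4] [.sub [4, 8, 5, 5, 3, 5, 3, 4, 8, 5, 5, 3, 5, 3, 5, 3, 4, 8, 5, 5, 3] [.out 3759]],
  .sub [12, 12, 13, 4] [.out 4566],
  .sub [17, 12, 13, 4] [.out 4895],
  .sub [19, 12, 13, 4] [.out 160],
  .sub [20, 12, 13, 4] [.out 4218],
  .sub [21, 12, 13, 4] [.sub [5, 3, 5, 3, 5, 3, 4, 8, 5, 5, 3, 5, 3, 4, 8, 5, 5, 3, 4, 8, 5, 5, 3, 4, 8, 5, 5, 3, 5, 3, 4, 8, 5, 5, 3, 5, 3] [.out 4327]],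
  .sub [4, 13, 13, 4] [.out 2829],
  .sub [7, 13, 13, 4] [.sub [5, 3, 5, 3, 4, 8, 5, 5, 3, 4, 8, 5, 5, 3, 5, 3, 4, 8, 5, 5, 3, 5, 3, 5, 3, 4, 8, 5, 5, 3] [.out 3978]],
  .sub [8, 13, 13, 4] [.out 4711],
  .sub [9, 13, 13, 4] [.out 5513],
  .sub [10, 13, 13, 4] [.out 4584],
  .sub [19, 13, 13, 4] [.out 4214],
  .sub [21, 13, 13, 4] [.out 584],
  .sub [11, 16, 13, 4] [.out 3211],
  .sub [21, 16, 13, 4] [.out 4921],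
  .sub [5, 17, 13, 4] [.out 781],
  .sub [10, 17, 13, 4] [.sub [4, 8, 5, 5, 3, 5, 3, 4, 8, 5, 5, 3, 4, 8, 5, 5, 3, 5, 3, 4, 8, 5, 5, 3, 4, 8, 5, 5, 3, 5, 3, 5, 3, 4, 8, 5, 5, 3, 5, 3, 5, 3] [.out 5201]],
  .sub [12, 17, 13, 4] [.out 2485],
  .sub [1, 18, 13, 4] [.out 4082],
  .sub [8, 18, 13, 4] [.out 1498],
  .sub [9, 18, 13, 4] [.out 4580],
  .sub [10, 18, 13, 4] [.sub [5, 3, 4, 8, 5, 5, 3, 4, 8, 5, 5, 3, 5, 3, 4, 8, 5, 5, 3, 4, 8, 5] [.out 2584]],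
  .sub [11, 18, 13, 4] [.sub [5, 3, 5, 3, 4, 8, 5, 5, 3, 5, 3, 5, 3, 4, 8, 5, 5, 3, 5, 3, 4, 8, 5, 5, 3, 4, 8, 5, 5, 3, 5, 3, 5, 3] [.out 2424]],
  .sub [4, 19, 13, 4] [.out 6027],
  .sub [11, 19, 13, 4] [.out 1114],
  .sub [12, 19, 13, 4] [.sub [4, 8, 5, 5, 3, 4, 8, 5, 5, 3, 5, 3, 5, 3, 4, 8, 5, 5, 3, 4, 8, 5, 5, 3, 4, 8, 5] [.out 2226]],
  .sub [4, 20, 13, 4] [.out 3546],
  .sub [8, 20, 13, 4] [.out 1817],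
  .sub [11, 20, 13, 4] [.out 4919],
  .sub [6, 21, 13, 4] [.out 4666],
  .sub [10, 21, 13, 4] [.out 2422],
  .sub [0, 4, 14, 4] [.out 6015],
  .sub [2, 4, 14, 4] [.out 6138],
  .sub [3, 4, 14, 4] [.out 412],
  .sub [4, 4, 14, 4] [.out 1260],
  .sub [5, 4, 14, 4] [.sub [4, 8, 5, 5, 3, 4, 8, 5, 5, 3, 5, 3, 4, 8, 5] [.out 5471]],
  .sub [6, 4, 14, 4] [.out 5892],
  .sub [7, 4, 14, 4] [.out 1507],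
  .sub [8, 4, 14, 4] [.out 89],
  .sub [9, 4, 14, 4] [.out 1531],
  .sub [10, 4, 14, 4] [.out 2158],
  .sub [11, 4, 14, 4] [.out 3540],
  .sub [12, 4, 14, 4] [.out 3816],
  .sub [13, 4, 14, 4] [.out 988],
  .sub [14, 4, 14, 4] [.out 1777],
  .sub [17, 4, 14, 4] [.out 4399],
  .sub [19, 4, 14, 4] [.out 58],
  .sub [20, 4, 14, 4] [.out 1598],
  .sub [21, 4, 14, 4] [.out 3107],
  .sub [3, 6, 14, 4] [.out 5193],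
  .sub [4, 6, 14, 4] [.out 5936],
  .sub [5, 6, 14, 4] [.out 6091],
  .sub [11, 6, 14, 4] [.sub [5, 3, 5, 3, 4, 8, 5, 5, 3, 5, 3, 5, 3, 4, 8, 5, 5, 3, 4, 8, 5, 5, 3, 5, 3] [.out 788]],
  .sub [16, 6, 14, 4] [.out 3285],
  .sub [21, 6, 14, 4] [.sub [5, 3, 4, 8, 5, 5, 3, 5, 3, 4, 8, 5, 5, 3, 5, 3] [.out 2177]],
  .sub [0, 8, 14, 4] [.out 4010],
  .sub [2, 8, 14, 4] [.out 4976],
  .sub [17, 8, 14, 4] [.out 3763],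
  .sub [18, 8, 14, 4] [.sub [5, 3, 4, 8, 5, 5, 3, 4, 8, 5, 5, 3, 5, 3, 4, 8, 5, 5, 3, 4, 8, 5, 5, 3, 5, 3, 5, 3, 4, 8, 5, 5, 3, 4, 8, 5, 5, 3, 5, 3, 4, 8, 5] [.out 6073]],
  .sub [19, 8, 14, 4] [.out 5464],
  .sub [20, 8, 14, 4] [.out 3146],
  .sub [0, 9, 14, 4] [.out 5167],
  .sub [1, 9, 14, 4] [.out 1937],
  .sub [6, 9, 14, 4] [.out 3882],
  .sub [0, 11, 14, 4] [.out 692],
  .sub [1, 11, 14, 4] [.sub [4, 8, 5, 5, 3, 4, 8, 5, 5, 3, 5, 3, 5, 3, 4, 8, 5, 5, 3, 4, 8, 5, 5, 3, 5, 3] [.out 2387]],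
  .sub [3, 11, 14, 4] [.out 4898],
  .sub [5, 11, 14, 4] [.out 3392],
  .sub [7, 11, 14, 4] [.out 702],
  .sub [9, 11, 14, 4] [.out 820],
  .sub [11, 11, 14, 4] [.out 3294],
  .sub [12, 11, 14, 4] [.sub [4, 8, 5, 5, 3, 5, 3, 4, 8, 5, 5, 3, 5, 3, 5, 3, 4, 8, 5, 5, 3, 4, 8, 5, 5, 3, 5, 3] [.out 836]],
  .sub [13, 11, 14, 4] [.out 2358],
  .sub [20, 11, 14, 4] [.out 4552],
  .sub [3, 12, 14, 4] [.out 5631],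
  .sub [4, 12, 14, 4] [.out 2534],
  .sub [7, 12, 14, 4] [.out 4287],
  .sub [8, 12, 14, 4] [.out 4964],
  .sub [9, 12, 14, 4] [.out 2590],
  .sub [11, 12, 14, 4] [.out 255],
  .sub [12, 12, 14, 4] [.out 2067],
  .sub [13, 12, 14, 4] [.sub [4, 8, 5, 5, 3, 4, 8, 5, 5, 3, 5, 3, 5, 3] [.out 5570]],
  .sub [17, 12, 14, 4] [.out 4755],
  .sub [18, 12, 14, 4] [.out 5432],
  .sub [19, 12, 14, 4] [.sub [5, 3, 4, 8, 5, 5, 3, 5, 3, 5, 3, 4, 8, 5, 5, 3, 4, 8, 5, 5, 3, 4, 8, 5, 5, 3, 5, 3, 5, 3] [.out 4327]],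
  .sub [2, 13, 14, 4] [.out 4271],
  .sub [3, 13, 14, 4] [.out 1437],
  .sub [5, 13, 14, 4] [.out 5015],
  .sub [7, 13, 14, 4] [.sub [5, 3, 5, 3, 5, 3, 4, 8, 5, 5, 3, 5, 3, 4, 8, 5, 5, 3, 4, 8, 5, 5, 3, 4, 8, 5, 5, 3, 5, 3] [.out 4947]],
  .sub [8, 13, 14, 4] [.out 1937],
  .sub [9, 13, 14, 4] [.out 5144],
  .sub [11, 13, 14, 4] [.out 2032],
  .sub [12, 13, 14, 4] [.out 2346],
  .sub [18, 13, 14, 4] [.out 3181],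
  .sub [19, 13, 14, 4] [.out 1696],
  .sub [4, 14, 14, 4] [.sub [5, 3, 4, 8, 5, 5, 3, 4, 8, 5, 5, 3, 4, 8, 5] [.out 5308]],
  .sub [6, 14, 14, 4] [.out 4702],
  .sub [9, 14, 14, 4] [.out 1769],
  .sub [11, 14, 14, 4] [.out 1119],
  .sub [4, 17, 14, 4] [.out 5944],
  .sub [6, 17, 14, 4] [.out 2612],
  .sub [8, 17, 14, 4] [.sub [4, 8, 5, 5, 3, 4, 8, 5, 5, 3, 5, 3, 4, 8, 5, 5, 3, 5, 3, 5, 3, 4, 8, 5, 5, 3] [.out 4203]],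
  .sub [10, 17, 14, 4] [.out 1457],
  .sub [11, 17, 14, 4] [.out 1320],
  .sub [12, 17, 14, 4] [.out 2459],
  .sub [13, 17, 14, 4] [.out 4363],
  .sub [4, 18, 14, 4] [.out 5624],
  .sub [8, 18, 14, 4] [.out 3154],
  .sub [10, 18, 14, 4] [.out 2163],
  .sub [11, 18, 14, 4] [.out 5650],
  .sub [12, 18, 14, 4] [.out 4044],
  .sub [14, 18, 14, 4] [.out 4437],
  .sub [4, 19, 14, 4] [.out 3675],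
  .sub [6, 19, 14, 4] [.out 3933],
  .sub [8, 19, 14, 4] [.out 58],
  .sub [11, 19, 14, 4] [.out 2635],
  .sub [4, 20, 14, 4] [.out 3127],
  .sub [11, 20, 14, 4] [.out 5748],
  .sub [6, 21, 14, 4] [.out 1713],
  .sub [12, 21, 14, 4] [.sub [5, 3, 4, 8, 5, 5, 3, 5, 3, 4, 8, 5, 5, 3, 5, 3, 5, 3, 4, 8, 5, 5, 3, 4, 8, 5, 5, 3, 5, 3, 4, 8, 5] [.out 471]],
  .sub [21, 0, 16, 4] [.out 1887],
  .sub [2, 4, 16, 4] [.out 4148],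
  .sub [7, 4, 16, 4] [.out 1156],
  .sub [8, 4, 16, 4] [.out 2813],
  .sub [9, 4, 16, 4] [.out 4068],
  .sub [10, 4, 16, 4] [.sub [5, 3, 5, 3, 4, 8, 5, 5, 3, 5, 3, 5, 3, 4, 8, 5, 5, 3] [.out 4204]],
  .sub [13, 4, 16, 4] [.out 5745],
  .sub [16, 4, 16, 4] [.sub [5, 3, 5, 3, 4, 8, 5, 5, 3, 4, 8, 5, 5, 3, 5, 3, 5, 3, 4, 8, 5, 5, 3, 5, 3] [.out 2471]],
  .sub [18, 4, 16, 4] [.out 5521],
  .sub [19, 4, 16, 4] [.out 3136],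
  .sub [20, 4, 16, 4] [.out 3061],
  .sub [8, 5, 16, 4] [.out 5095],
  .sub [11, 5, 16, 4] [.out 1271],
  .sub [12, 5, 16, 4] [.sub [5, 3, 4, 8, 5, 5, 3, 5, 3, 4, 8, 5, 5, 3, 4, 8, 5, 5, 3, 5, 3, 5, 3, 4, 8, 5, 5, 3, 4, 8, 5] [.out 2049]],
  .sub [14, 8, 16, 4] [.out 3015],
  .sub [16, 8, 16, 4] [.out 4416],
  .sub [17, 8, 16, 4] [.out 4146],
  .sub [20, 8, 16, 4] [.out 3735],
  .sub [2, 10, 16, 4] [.out 4373],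
  .sub [3, 10, 16, 4] [.out 4884],
  .sub [5, 10, 16, 4] [.sub [5, 3, 4, 8, 5, 5, 3, 4, 8, 5, 5, 3, 5, 3, 4, 8, 5, 5, 3, 4, 8, 5, 5, 3] [.out 1651]],
  .sub [8, 10, 16, 4] [.out 5581],
  .sub [9, 10, 16, 4] [.out 4415],
  .sub [11, 10, 16, 4] [.out 2092],
  .sub [13, 10, 16, 4] [.out 5036],
  .sub [18, 10, 16, 4] [.out 190],
  .sub [19, 10, 16, 4] [.out 733],
  .sub [20, 10, 16, 4] [.sub [5, 3, 5, 3, 4, 8, 5, 5, 3, 5, 3, 4, 8, 5, 5, 3, 4, 8, 5, 5, 3, 5, 3, 4, 8, 5, 5, 3, 5, 3] [.out 1932]],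
  .sub [3, 11, 16, 4] [.out 5948],
  .sub [4, 11, 16, 4] [.out 1563],
  .sub [5, 11, 16, 4] [.out 5266],
  .sub [10, 11, 16, 4] [.out 4803],
  .sub [17, 11, 16, 4] [.sub [4, 8, 5, 5, 3, 4, 8, 5, 5, 3, 5, 3, 5, 3, 4, 8, 5, 5, 3, 4, 8, 5, 5, 3, 5, 3, 4, 8, 5] [.bad [3, 3, 2, 0, 3, 3, 2, 0, 3, 2, 0, 8, 3, 1, 3, 0, 2, 1, 0, 3, 3, 2, 0, 3, 3, 2, 0, 3, 3, 2, 0, 3, 2, 0, 8, 3, 1, 3, 0, 2, 1, 0, 3, 3, 2, 0, 3, 2, 0, 8, 3, 1, 3, 0, 2, 1, 0, 5, 3, 4, 8, 5, 5, 3, 5, 3, 4, 8, 5, 5, 3, 5, 3, 5, 3, 4, 8, 5, 5, 3, 5, 3, 3, 2, 0, 8, 3, 1, 3, 0, 2, 1, 0, 3, 3, 2, 0, 3, 3, 2, 0, 3, 2, 0, 8, 3, 1, 3, 0, 2, 1, 0, 5, 3, 4, 8, 5, 5, 3, 4, 8, 5, 5, 3, 5, 3, 5, 3, 4, 8, 5] 1]],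
  .sub [18, 11, 16, 4] [.sub [4, 8, 5, 5, 3, 4, 8, 5, 5, 3, 5, 3, 4, 8, 5, 5, 3, 5, 3, 5, 3, 4, 8, 5, 5, 3, 5, 3, 4, 8, 5, 5, 3] [.out 989]],
  .sub [20, 11, 16, 4] [.out 4314],
  .sub [4, 13, 16, 4] [.out 5926],
  .sub [8, 13, 16, 4] [.out 163],
  .sub [21, 13, 16, 4] [.out 2426],
  .sub [4, 16, 16, 4] [.out 4264],
  .sub [5, 16, 16, 4] [.out 3342],
  .sub [8, 16, 16, 4] [.out 2014],
  .sub [12, 16, 16, 4] [.out 1159],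
  .sub [0, 17, 16, 4] [.out 3956],
  .sub [1, 17, 16, 4] [.out 6019],
  .sub [4, 17, 16, 4] [.out 2708],
  .sub [13, 17, 16, 4] [.out 5770],
  .sub [21, 17, 16, 4] [.out 1324],
  .sub [4, 19, 16, 4] [.out 5365],
  .sub [6, 19, 16, 4] [.out 2755],
  .sub [14, 19, 16, 4] [.out 808],
  .sub [1, 21, 16, 4] [.out 1197],
  .sub [10, 21, 16, 4] [.sub [4, 8, 5, 5, 3, 5, 3, 4, 8, 5, 5, 3, 5, 3, 5, 3] [.out 4690]],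
  .sub [1, 0, 17, 4] [.out 1523],
  .sub [3, 0, 17, 4] [.out 2839],
  .sub [4, 0, 17, 4] [.out 1797],
  .sub [5, 0, 17, 4] [.out 1988],
  .sub [10, 0, 17, 4] [.out 4068],
  .sub [11, 0, 17, 4] [.out 4133],
  .sub [12, 0, 17, 4] [.out 6086],
  .sub [14, 0, 17, 4] [.out 972],
  .sub [18, 0, 17, 4] [.out 5477],
  .sub [3, 1, 17, 4] [.out 6000]]

/-- Branches. -/
def kidsXPart16 : List Branch := [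
  .sub [4, 1, 17, 4] [.out 4417],
  .sub [5, 1, 17, 4] [.sub [4, 8, 5, 5, 3, 4, 8, 5, 5, 3, 4, 8, 5, 5, 3, 5, 3] [.out 5321]],
  .sub [8, 1, 17, 4] [.sub [4, 8, 5, 5, 3, 5, 3, 4, 8, 5, 5, 3, 5, 3, 5, 3, 4, 8, 5, 5, 3, 4, 8, 5, 5, 3, 5, 3, 5, 3, 4, 8, 5, 5, 3, 4, 8, 5, 5, 3, 5, 3] [.out 4980]],
  .sub [9, 1, 17, 4] [.out 4714],
  .sub [11, 1, 17, 4] [.out 345],
  .sub [12, 1, 17, 4] [.sub [4, 8, 5, 5, 3, 4, 8, 5, 5, 3, 5, 3, 4, 8, 5, 5, 3, 5, 3, 5, 3, 4, 8, 5, 5, 3, 5, 3, 4, 8, 5, 5, 3, 4, 8, 5, 5, 3, 5, 3, 5, 3] [.out 5043]],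
  .sub [16, 1, 17, 4] [.out 899],
  .sub [17, 1, 17, 4] [.out 5737],
  .sub [1, 5, 17, 4] [.out 2396],
  .sub [3, 5, 17, 4] [.out 3838],
  .sub [4, 5, 17, 4] [.out 2236],
  .sub [5, 5, 17, 4] [.out 5631],
  .sub [6, 5, 17, 4] [.out 5086],
  .sub [9, 5, 17, 4] [.out 5321],
  .sub [10, 5, 17, 4] [.out 2760],
  .sub [14, 5, 17, 4] [.out 3539],
  .sub [17, 5, 17, 4] [.out 1773],
  .sub [3, 6, 17, 4] [.out 5852],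
  .sub [4, 6, 17, 4] [.out 2108],
  .sub [5, 6, 17, 4] [.out 50],
  .sub [9, 6, 17, 4] [.out 5821],
  .sub [10, 6, 17, 4] [.out 1926],
  .sub [11, 6, 17, 4] [.out 6080],
  .sub [12, 6, 17, 4] [.out 671],
  .sub [14, 6, 17, 4] [.out 980],
  .sub [17, 6, 17, 4] [.out 1012],
  .sub [19, 6, 17, 4] [.out 2607],
  .sub [20, 6, 17, 4] [.out 3791],
  .sub [9, 8, 17, 4] [.out 3059],
  .sub [14, 8, 17, 4] [.out 2759],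
  .sub [18, 8, 17, 4] [.out 312],
  .sub [19, 8, 17, 4] [.out 4436],
  .sub [21, 8, 17, 4] [.out 1554],
  .sub [3, 10, 17, 4] [.out 5788],
  .sub [4, 10, 17, 4] [.out 3203],
  .sub [8, 10, 17, 4] [.out 5433],
  .sub [10, 10, 17, 4] [.out 486],
  .sub [13, 10, 17, 4] [.out 175],
  .sub [14, 10, 17, 4] [.out 5470],
  .sub [20, 10, 17, 4] [.out 3201],
  .sub [2, 11, 17, 4] [.out 1746],
  .sub [3, 11, 17, 4] [.out 3526],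
  .sub [7, 11, 17, 4] [.out 5310],
  .sub [12, 11, 17, 4] [.out 175],
  .sub [17, 11, 17, 4] [.out 1619],
  .sub [19, 11, 17, 4] [.out 2282],
  .sub [21, 11, 17, 4] [.out 1602],
  .sub [2, 12, 17, 4] [.out 5965],
  .sub [3, 12, 17, 4] [.out 5889],
  .sub [4, 12, 17, 4] [.out 3813],
  .sub [5, 12, 17, 4] [.out 4208],
  .sub [9, 12, 17, 4] [.out 1873],
  .sub [11, 12, 17, 4] [.sub [5, 3, 4, 8, 5, 5, 3, 4, 8, 5, 5, 3, 5, 3, 5, 3] [.out 3154]],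
  .sub [12, 12, 17, 4] [.out 486],
  .sub [17, 12, 17, 4] [.out 2708],
  .sub [18, 12, 17, 4] [.out 927],
  .sub [19, 12, 17, 4] [.out 828],
  .sub [20, 12, 17, 4] [.out 2886],
  .sub [3, 14, 17, 4] [.out 1798],
  .sub [8, 14, 17, 4] [.sub [4, 8, 5, 5, 3, 4, 8, 5, 5, 3, 5, 3, 4, 8, 5, 5, 3, 5, 3, 5, 3, 4, 8, 5, 5, 3, 4, 8, 5, 5, 3, 5, 3, 5, 3, 4, 8, 5, 5, 3, 4, 8, 5, 5, 3, 5, 3] [.out 4654]],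
  .sub [11, 14, 17, 4] [.sub [5, 3, 4, 8, 5, 5, 3, 5, 3, 4, 8, 5, 5, 3, 5, 3, 4, 8, 5, 5, 3, 4, 8, 5, 5, 3, 5, 3, 5, 3] [.out 2460]],
  .sub [12, 14, 17, 4] [.out 3547],
  .sub [14, 14, 17, 4] [.out 3127],
  .sub [17, 14, 17, 4] [.sub [5, 3, 4, 8, 5, 5, 3, 5, 3, 5, 3, 4, 8, 5, 5, 3, 4, 8, 5, 5, 3, 4, 8, 5, 5, 3, 5, 3, 4, 8, 5, 5, 3, 5, 3] [.out 5265]],
  .sub [18, 14, 17, 4] [.out 1436],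
  .sub [4, 16, 17, 4] [.sub [5, 3, 4, 8, 5, 5, 3, 5, 3, 4, 8, 5, 5, 3, 5, 3, 4, 8, 5, 5, 3, 4, 8, 5, 5, 3, 5, 3, 4, 8, 5, 5, 3, 4, 8, 5, 5, 3, 4, 8, 5] [.out 4204]],
  .sub [10, 16, 17, 4] [.sub [4, 8, 5, 5, 3, 5, 3, 5, 3, 4, 8, 5, 5, 3, 4, 8, 5, 5, 3, 5, 3, 5, 3, 4, 8, 5, 5, 3, 4, 8, 5, 5, 3, 5, 3, 4, 8, 5, 5, 3, 5, 3, 5, 3] [.out 3928]],
  .sub [11, 16, 17, 4] [.out 2022],
  .sub [19, 16, 17, 4] [.out 1244],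
  .sub [21, 16, 17, 4] [.out 507],
  .sub [4, 21, 17, 4] [.sub [4, 8, 5, 5, 3, 5, 3, 4, 8, 5, 5, 3, 4, 8, 5, 5, 3, 5, 3, 4, 8, 5, 5, 3] [.out 4947]],
  .sub [6, 21, 17, 4] [.sub [5, 3, 4, 8, 5, 5, 3, 5, 3, 4, 8, 5, 5, 3, 5, 3, 4, 8, 5, 5, 3, 4, 8, 5, 5, 3, 4, 8, 5, 5, 3, 5, 3, 4, 8, 5] [.out 3253]],
  .sub [8, 21, 17, 4] [.out 4324],
  .sub [11, 21, 17, 4] [.out 5607],
  .sub [16, 21, 17, 4] [.sub [5, 3, 4, 8, 5, 5, 3, 5, 3, 4, 8, 5, 5, 3, 5, 3, 5, 3, 4, 8, 5, 5, 3, 4, 8, 5, 5, 3] [.out 541]],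
  .sub [4, 1, 18, 4] [.out 1218],
  .sub [8, 1, 18, 4] [.out 3588],
  .sub [6, 3, 18, 4] [.out 4479],
  .sub [21, 3, 18, 4] [.out 3494],
  .sub [0, 4, 18, 4] [.out 2932],
  .sub [2, 4, 18, 4] [.sub [5, 3, 5, 3, 4, 8, 5, 5, 3, 4, 8, 5, 5, 3, 5, 3, 4, 8, 5, 5, 3, 4, 8, 5, 5, 3] [.out 4875]],
  .sub [3, 4, 18, 4] [.out 4234],
  .sub [5, 4, 18, 4] [.out 2351],
  .sub [6, 4, 18, 4] [.sub [5, 3, 4, 8, 5, 5, 3, 5, 3, 4, 8, 5, 5, 3, 5, 3, 5, 3, 4, 8, 5, 5, 3, 4, 8, 5, 5, 3, 5, 3, 5, 3, 4, 8, 5, 5, 3, 5, 3, 4, 8, 5, 5, 3] [.out 3822]],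
  .sub [7, 4, 18, 4] [.sub [5, 3, 4, 8, 5, 5, 3, 4, 8, 5, 5, 3, 5, 3, 4, 8, 5, 5, 3, 4, 8, 5, 5, 3, 5, 3, 4, 8, 5] [.out 6149]],
  .sub [9, 4, 18, 4] [.out 2230],
  .sub [10, 4, 18, 4] [.out 3890],
  .sub [11, 4, 18, 4] [.out 1925],
  .sub [12, 4, 18, 4] [.out 4893],
  .sub [13, 4, 18, 4] [.sub [5, 3, 4, 8, 5, 5, 3, 4, 8, 5, 5, 3, 4, 8, 5, 5, 3, 5, 3, 4, 8, 5, 5, 3, 5, 3, 5, 3, 4, 8, 5, 5, 3, 4, 8, 5] [.out 655]],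
  .sub [20, 4, 18, 4] [.out 2342],
  .sub [21, 4, 18, 4] [.out 5407],
  .sub [8, 5, 18, 4] [.out 5968],
  .sub [11, 5, 18, 4] [.out 1010],
  .sub [12, 5, 18, 4] [.out 4890],
  .sub [13, 5, 18, 4] [.out 2235],
  .sub [21, 5, 18, 4] [.out 4208],
  .sub [2, 6, 18, 4] [.out 3197],
  .sub [3, 6, 18, 4] [.out 559],
  .sub [5, 6, 18, 4] [.out 4537],
  .sub [7, 6, 18, 4] [.out 5188],
  .sub [8, 6, 18, 4] [.out 5253],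
  .sub [9, 6, 18, 4] [.sub [5, 3, 4, 8, 5, 5, 3, 4, 8, 5, 5, 3, 5, 3, 5, 3, 4, 8, 5, 5, 3, 5, 3, 5, 3] [.out 3782]],
  .sub [11, 6, 18, 4] [.out 2684],
  .sub [19, 6, 18, 4] [.out 4087],
  .sub [0, 8, 18, 4] [.out 4940],
  .sub [1, 8, 18, 4] [.out 444],
  .sub [7, 8, 18, 4] [.out 3549],
  .sub [13, 8, 18, 4] [.out 5978],
  .sub [18, 8, 18, 4] [.out 2694],
  .sub [20, 8, 18, 4] [.sub [4, 8, 5, 5, 3, 5, 3, 5, 3, 4, 8, 5, 5, 3, 5, 3, 4, 8, 5, 5, 3, 4, 8, 5, 5, 3, 5, 3, 4, 8, 5, 5, 3, 4, 8, 5, 5, 3, 4, 8, 5] [.out 2653]],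
  .sub [1, 9, 18, 4] [.out 4139],
  .sub [4, 9, 18, 4] [.out 2728],
  .sub [6, 9, 18, 4] [.out 5573],
  .sub [21, 9, 18, 4] [.out 3932],
  .sub [4, 10, 18, 4] [.out 4015],
  .sub [6, 10, 18, 4] [.out 789],
  .sub [11, 10, 18, 4] [.out 6024],
  .sub [0, 11, 18, 4] [.out 6085],
  .sub [1, 11, 18, 4] [.out 6076],
  .sub [2, 11, 18, 4] [.out 2783],
  .sub [3, 11, 18, 4] [.out 3861],
  .sub [5, 11, 18, 4] [.out 5120],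
  .sub [6, 11, 18, 4] [.out 6132],
  .sub [7, 11, 18, 4] [.out 250],
  .sub [9, 11, 18, 4] [.out 760],
  .sub [10, 11, 18, 4] [.out 5102],
  .sub [12, 11, 18, 4] [.out 2725],
  .sub [16, 11, 18, 4] [.out 5635],
  .sub [18, 11, 18, 4] [.out 5262],
  .sub [19, 11, 18, 4] [.out 4023],
  .sub [20, 11, 18, 4] [.out 3342],
  .sub [21, 11, 18, 4] [.out 1632],
  .sub [2, 12, 18, 4] [.out 1507],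
  .sub [4, 12, 18, 4] [.sub [4, 8, 5, 5, 3, 5, 3, 4, 8, 5, 5, 3, 5, 3, 4, 8, 5, 5, 3, 4, 8, 5, 5, 3, 5, 3, 4, 8, 5, 5, 3, 4, 8, 5, 5, 3, 5, 3, 5, 3] [.out 2579]],
  .sub [5, 12, 18, 4] [.out 3878],
  .sub [7, 12, 18, 4] [.out 1095],
  .sub [8, 12, 18, 4] [.out 2175],
  .sub [9, 12, 18, 4] [.out 779],
  .sub [10, 12, 18, 4] [.out 3963],
  .sub [12, 12, 18, 4] [.out 2296],
  .sub [13, 12, 18, 4] [.sub [5, 3, 4, 8, 5, 5, 3, 5, 3, 4, 8, 5, 5, 3, 5, 3, 4, 8, 5, 5, 3, 4, 8, 5, 5, 3, 5, 3, 5, 3] [.out 3306]],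
  .sub [17, 12, 18, 4] [.sub [5, 3, 5, 3, 4, 8, 5, 5, 3, 5, 3, 4, 8, 5, 5, 3, 4, 8, 5, 5, 3, 5, 3, 4, 8, 5, 5, 3] [.out 2856]],
  .sub [18, 12, 18, 4] [.sub [4, 8, 5, 5, 3, 4, 8, 5, 5, 3, 5, 3, 5, 3, 4, 8, 5, 5, 3, 4, 8, 5, 5, 3, 5, 3] [.out 3928]],
  .sub [19, 12, 18, 4] [.out 1818],
  .sub [21, 12, 18, 4] [.out 3747],
  .sub [8, 13, 18, 4] [.out 4139],
  .sub [9, 13, 18, 4] [.out 4905],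
  .sub [11, 13, 18, 4] [.out 5614],
  .sub [12, 13, 18, 4] [.out 1989],
  .sub [13, 13, 18, 4] [.out 3830],
  .sub [20, 13, 18, 4] [.out 4340],
  .sub [21, 13, 18, 4] [.sub [4, 8, 5, 5, 3, 4, 8, 5, 5, 3, 4, 8, 5, 5, 3, 5, 3, 4, 8, 5, 5, 3] [.out 4674]],
  .sub [3, 14, 18, 4] [.out 4605],
  .sub [4, 14, 18, 4] [.out 5045],
  .sub [6, 14, 18, 4] [.out 3553],
  .sub [9, 14, 18, 4] [.out 5077],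
  .sub [11, 14, 18, 4] [.sub [5, 3, 5, 3, 4, 8, 5, 5, 3, 4, 8, 5, 5, 3, 5, 3, 4, 8, 5, 5, 3, 5, 3, 4, 8, 5, 5, 3, 4, 8, 5, 5, 3, 4, 8, 5] [.out 358]],
  .sub [13, 14, 18, 4] [.out 4341],
  .sub [5, 21, 18, 4] [.out 318],
  .sub [8, 21, 18, 4] [.out 5376],
  .sub [12, 21, 18, 4] [.out 4374],
  .sub [16, 21, 18, 4] [.out 3513],
  .sub [4, 1, 19, 4] [.out 617],
  .sub [8, 1, 19, 4] [.out 2488],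
  .sub [11, 1, 19, 4] [.out 3839],
  .sub [1, 4, 19, 4] [.out 4731],
  .sub [2, 4, 19, 4] [.out 4276],
  .sub [4, 4, 19, 4] [.out 5866],
  .sub [6, 4, 19, 4] [.sub [4, 8, 5, 5, 3, 5, 3, 4, 8, 5, 5, 3, 5, 3, 4, 8, 5, 5, 3, 4, 8, 5, 5, 3, 5, 3, 4, 8, 5, 5, 3, 4, 8, 5, 5, 3] [.out 1081]],
  .sub [7, 4, 19, 4] [.sub [4, 8, 5, 5, 3, 5, 3, 5, 3, 4, 8, 5, 5, 3, 5, 3] [.out 736]],
  .sub [8, 4, 19, 4] [.out 230],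
  .sub [10, 4, 19, 4] [.out 2215],
  .sub [11, 4, 19, 4] [.out 5042],
  .sub [13, 4, 19, 4] [.out 5342],
  .sub [14, 4, 19, 4] [.out 2407],
  .sub [17, 4, 19, 4] [.out 5763],
  .sub [18, 4, 19, 4] [.out 5073],
  .sub [19, 4, 19, 4] [.out 1568],
  .sub [20, 4, 19, 4] [.out 4892],
  .sub [4, 5, 19, 4] [.out 1001],
  .sub [10, 5, 19, 4] [.out 2456],
  .sub [11, 5, 19, 4] [.out 6062],
  .sub [17, 5, 19, 4] [.out 1128],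
  .sub [19, 5, 19, 4] [.out 5814],
  .sub [2, 6, 19, 4] [.out 4862],
  .sub [3, 6, 19, 4] [.out 5968],
  .sub [4, 6, 19, 4] [.out 976],
  .sub [5, 6, 19, 4] [.out 4180],
  .sub [7, 6, 19, 4] [.sub [4, 8, 5, 5, 3, 4, 8, 5, 5, 3, 5, 3, 5, 3, 4, 8, 5, 5, 3, 5, 3, 4, 8, 5, 5, 3, 4, 8, 5, 5, 3, 4, 8, 5] [.out 3782]],
  .sub [8, 6, 19, 4] [.out 2681],
  .sub [11, 6, 19, 4] [.sub [5, 3, 4, 8, 5, 5, 3, 4, 8, 5, 5, 3, 4, 8, 5, 5, 3, 5, 3, 5, 3, 4, 8, 5, 5, 3, 4, 8, 5, 5, 3] [.out 4000]]]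

/-- Branches. -/
def kidsXPart17 : List Branch := [
  .sub [16, 6, 19, 4] [.out 5260],
  .sub [19, 6, 19, 4] [.out 1482],
  .sub [5, 8, 19, 4] [.out 4750],
  .sub [6, 8, 19, 4] [.out 5795],
  .sub [9, 8, 19, 4] [.out 4229],
  .sub [12, 8, 19, 4] [.sub [4, 8, 5, 5, 3, 5, 3, 5, 3, 4, 8, 5, 5, 3, 4, 8, 5, 5, 3, 4, 8, 5, 5, 3, 5, 3, 4, 8, 5, 5, 3, 4, 8, 5, 5, 3, 4, 8, 5] [.out 1651]],
  .sub [13, 8, 19, 4] [.out 2157],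
  .sub [14, 8, 19, 4] [.out 241],
  .sub [17, 8, 19, 4] [.out 2078],
  .sub [18, 8, 19, 4] [.out 4376],
  .sub [21, 8, 19, 4] [.out 2305],
  .sub [3, 10, 19, 4] [.out 56],
  .sub [4, 10, 19, 4] [.out 2400],
  .sub [8, 10, 19, 4] [.out 368],
  .sub [9, 10, 19, 4] [.out 839],
  .sub [12, 10, 19, 4] [.out 2778],
  .sub [0, 11, 19, 4] [.out 5316],
  .sub [3, 11, 19, 4] [.out 3946],
  .sub [5, 11, 19, 4] [.out 2693],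
  .sub [6, 11, 19, 4] [.out 2861],
  .sub [7, 11, 19, 4] [.out 4609],
  .sub [10, 11, 19, 4] [.out 3939],
  .sub [16, 11, 19, 4] [.out 1467],
  .sub [19, 11, 19, 4] [.out 3319],
  .sub [6, 12, 19, 4] [.out 1787],
  .sub [10, 12, 19, 4] [.out 5421],
  .sub [12, 12, 19, 4] [.out 3870],
  .sub [13, 12, 19, 4] [.out 2399],
  .sub [14, 12, 19, 4] [.out 3348],
  .sub [21, 12, 19, 4] [.out 1037],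
  .sub [10, 14, 19, 4] [.out 145],
  .sub [17, 14, 19, 4] [.out 5136],
  .sub [4, 16, 19, 4] [.out 2544],
  .sub [11, 16, 19, 4] [.sub [5, 3, 5, 3, 5, 3, 4, 8, 5, 5, 3, 4, 8, 5] [.out 1933]],
  .sub [12, 16, 19, 4] [.out 3465],
  .sub [0, 4, 20, 4] [.out 2891],
  .sub [5, 4, 20, 4] [.out 3581],
  .sub [8, 4, 20, 4] [.out 4447],
  .sub [10, 4, 20, 4] [.out 5169],
  .sub [12, 4, 20, 4] [.out 6083],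
  .sub [14, 4, 20, 4] [.sub [4, 8, 5, 5, 3, 5, 3, 5, 3, 4, 8, 5, 5, 3, 5, 3, 4, 8, 5, 5, 3] [.out 5265]],
  .sub [16, 4, 20, 4] [.out 5471],
  .sub [20, 4, 20, 4] [.out 552],
  .sub [0, 8, 20, 4] [.out 5289],
  .sub [1, 8, 20, 4] [.sub [5, 3, 4, 8, 5, 5, 3, 5, 3, 4, 8, 5, 5, 3, 4, 8, 5, 5, 3, 5, 3, 4, 8, 5, 5, 3, 5, 3, 4, 8, 5] [.out 4690]],
  .sub [2, 8, 20, 4] [.out 2212],
  .sub [6, 8, 20, 4] [.out 2556],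
  .sub [9, 8, 20, 4] [.out 1738],
  .sub [10, 8, 20, 4] [.out 4278],
  .sub [13, 8, 20, 4] [.out 2866],
  .sub [14, 8, 20, 4] [.out 2472],
  .sub [17, 8, 20, 4] [.out 2568],
  .sub [18, 8, 20, 4] [.out 1545],
  .sub [20, 8, 20, 4] [.out 6029],
  .sub [3, 11, 20, 4] [.out 3937],
  .sub [5, 11, 20, 4] [.out 6126],
  .sub [6, 11, 20, 4] [.out 428],
  .sub [9, 11, 20, 4] [.out 541],
  .sub [10, 11, 20, 4] [.out 5329],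
  .sub [11, 11, 20, 4] [.out 3151],
  .sub [12, 11, 20, 4] [.out 4035],
  .sub [13, 11, 20, 4] [.out 2911],
  .sub [21, 11, 20, 4] [.out 5854],
  .sub [11, 16, 20, 4] [.out 5635],
  .sub [19, 21, 20, 4] [.out 1079],
  .sub [4, 1, 21, 4] [.out 5957],
  .sub [7, 3, 21, 4] [.out 3440],
  .sub [16, 3, 21, 4] [.out 3232],
  .sub [13, 4, 21, 4] [.out 2117],
  .sub [1, 5, 21, 4] [.sub [4, 8, 5, 5, 3, 4, 8, 5, 5, 3, 4, 8, 5, 5, 3, 5, 3, 4, 8, 5, 5, 3, 5, 3, 5, 3, 4, 8, 5, 5, 3, 4, 8, 5, 5, 3, 5, 3, 4, 8, 5] [.out 1916]],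
  .sub [9, 5, 21, 4] [.out 1998],
  .sub [10, 5, 21, 4] [.out 1824],
  .sub [12, 5, 21, 4] [.out 495],
  .sub [13, 5, 21, 4] [.out 4234],
  .sub [14, 5, 21, 4] [.out 376],
  .sub [18, 5, 21, 4] [.out 3575],
  .sub [21, 5, 21, 4] [.out 1132],
  .sub [2, 6, 21, 4] [.sub [4, 8, 5, 5, 3, 4, 8, 5, 5, 3, 5, 3, 4, 8, 5, 5, 3, 4, 8, 5, 5, 3, 5, 3, 5, 3, 4, 8, 5, 5, 3, 4, 8, 5] [.out 67]],
  .sub [3, 6, 21, 4] [.out 2345],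
  .sub [9, 6, 21, 4] [.out 1265],
  .sub [12, 6, 21, 4] [.sub [4, 8, 5, 5, 3, 5, 3, 5, 3, 4, 8, 5, 5, 3, 4, 8, 5, 5, 3, 4, 8, 5] [.out 2864]],
  .sub [17, 6, 21, 4] [.out 5890],
  .sub [20, 6, 21, 4] [.out 717],
  .sub [6, 7, 21, 4] [.out 1132],
  .sub [8, 7, 21, 4] [.out 5973],
  .sub [9, 7, 21, 4] [.sub [5, 3, 5, 3, 4, 8, 5, 5, 3, 4, 8, 5, 5, 3, 5, 3, 5, 3, 4, 8, 5, 5, 3, 5, 3] [.out 3112]],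
  .sub [21, 7, 21, 4] [.out 4459],
  .sub [4, 8, 21, 4] [.out 4992],
  .sub [6, 8, 21, 4] [.out 1323],
  .sub [11, 8, 21, 4] [.out 3567],
  .sub [12, 8, 21, 4] [.out 6009],
  .sub [21, 8, 21, 4] [.out 5044],
  .sub [4, 9, 21, 4] [.out 796],
  .sub [3, 11, 21, 4] [.out 1682],
  .sub [7, 11, 21, 4] [.out 5743],
  .sub [17, 11, 21, 4] [.out 911],
  .sub [18, 11, 21, 4] [.out 3064],
  .sub [20, 11, 21, 4] [.out 3307],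
  .sub [21, 11, 21, 4] [.out 1014],
  .sub [3, 12, 21, 4] [.sub [5, 3, 4, 8, 5, 5, 3, 4, 8, 5, 5, 3, 5, 3, 4, 8, 5, 5, 3, 4, 8, 5, 5, 3, 5, 3, 4, 8, 5] [.out 1806]],
  .sub [7, 12, 21, 4] [.out 1664],
  .sub [8, 12, 21, 4] [.out 3339],
  .sub [12, 12, 21, 4] [.out 3568],
  .sub [17, 12, 21, 4] [.sub [5, 3, 4, 8, 5, 5, 3, 4, 8, 5] [.out 744]],
  .sub [18, 12, 21, 4] [.out 4184],
  .sub [19, 12, 21, 4] [.sub [5, 3, 4, 8, 5, 5, 3, 4, 8, 5, 5, 3, 5, 3, 5, 3, 4, 8, 5, 5, 3, 5, 3, 4, 8, 5, 5, 3, 4, 8, 5, 5, 3, 4, 8, 5] [.out 2662]],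
  .sub [21, 12, 21, 4] [.out 4471],
  .sub [3, 16, 21, 4] [.out 4341],
  .sub [7, 16, 21, 4] [.sub [5, 3, 5, 3, 4, 8, 5, 5, 3, 4, 8, 5, 5, 3, 5, 3, 5, 3] [.out 3705]],
  .sub [8, 16, 21, 4] [.out 3820],
  .sub [9, 16, 21, 4] [.out 595],
  .sub [11, 16, 21, 4] [.out 5441],
  .sub [12, 16, 21, 4] [.out 3392],
  .sub [17, 16, 21, 4] [.out 3021],
  .sub [20, 16, 21, 4] [.out 721],
  .sub [4, 17, 21, 4] [.out 2713],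
  .sub [8, 17, 21, 4] [.out 3023],
  .sub [12, 17, 21, 4] [.out 3302],
  .sub [4, 18, 21, 4] [.sub [5, 3, 5, 3, 5, 3, 4, 8, 5, 5, 3, 4, 8, 5, 5, 3, 4, 8, 5, 5, 3, 5, 3, 4, 8, 5, 5, 3] [.out 1419]],
  .sub [6, 18, 21, 4] [.out 2354],
  .sub [8, 18, 21, 4] [.out 3299],
  .sub [12, 18, 21, 4] [.out 3498],
  .sub [14, 19, 21, 4] [.out 3426],
  .sub [3, 21, 21, 4] [.out 2009],
  .sub [4, 21, 21, 4] [.out 3795],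
  .sub [8, 21, 21, 4] [.out 2381],
  .sub [11, 21, 21, 4] [.out 5199],
  .sub [12, 21, 21, 4] [.out 2165],
  .sub [3, 2, 4, 5] [.out 2910],
  .sub [8, 2, 4, 5] [.out 4127],
  .sub [17, 2, 4, 5] [.out 4516],
  .sub [18, 2, 4, 5] [.out 1762],
  .sub [19, 2, 4, 5] [.out 5603],
  .sub [21, 2, 4, 5] [.out 5612],
  .sub [16, 3, 4, 5] [.out 3404],
  .sub [17, 3, 4, 5] [.out 463],
  .sub [18, 3, 4, 5] [.out 5554],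
  .sub [19, 3, 4, 5] [.out 413],
  .sub [4, 5, 4, 5] [.out 1014],
  .sub [6, 5, 4, 5] [.out 2934],
  .sub [7, 5, 4, 5] [.sub [5, 3, 4, 8, 5, 5, 3, 5, 3, 4, 8, 5, 5, 3, 4, 8, 5, 5, 3, 5, 3, 4, 8, 5, 5, 3, 4, 8, 5, 5, 3, 5, 3] [.out 4050]],
  .sub [8, 5, 4, 5] [.sub [4, 8, 5, 5, 3, 5, 3, 4, 8, 5, 5, 3, 4, 8, 5, 5, 3, 4, 8, 5, 5, 3, 5, 3, 5, 3, 4, 8, 5, 5, 3, 4, 8, 5, 5, 3] [.out 3482]],
  .sub [9, 5, 4, 5] [.out 3387],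
  .sub [10, 5, 4, 5] [.out 1773],
  .sub [13, 5, 4, 5] [.out 5045],
  .sub [17, 5, 4, 5] [.out 2252],
  .sub [20, 5, 4, 5] [.sub [5, 3, 4, 8, 5, 5, 3, 5, 3, 4, 8, 5, 5, 3, 4, 8, 5, 5, 3, 5, 3, 5, 3, 4, 8, 5, 5, 3, 5, 3, 5, 3] [.out 686]],
  .sub [21, 5, 4, 5] [.out 1022],
  .sub [5, 6, 4, 5] [.out 1965],
  .sub [7, 6, 4, 5] [.out 2737],
  .sub [9, 6, 4, 5] [.out 4269],
  .sub [17, 6, 4, 5] [.out 4526],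
  .sub [18, 6, 4, 5] [.out 797],
  .sub [19, 6, 4, 5] [.out 5456],
  .sub [6, 7, 4, 5] [.out 565],
  .sub [8, 7, 4, 5] [.out 2538],
  .sub [10, 7, 4, 5] [.out 4780],
  .sub [13, 7, 4, 5] [.out 4981],
  .sub [14, 7, 4, 5] [.out 1137],
  .sub [17, 7, 4, 5] [.out 1320],
  .sub [18, 7, 4, 5] [.out 4375],
  .sub [18, 8, 4, 5] [.out 184],
  .sub [19, 9, 4, 5] [.out 5088],
  .sub [4, 10, 4, 5] [.out 596],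
  .sub [5, 10, 4, 5] [.out 5645],
  .sub [9, 10, 4, 5] [.out 236],
  .sub [11, 10, 4, 5] [.out 4510],
  .sub [12, 10, 4, 5] [.out 3028],
  .sub [13, 10, 4, 5] [.out 1286],
  .sub [17, 10, 4, 5] [.out 4816],
  .sub [18, 10, 4, 5] [.sub [5, 3, 5, 3, 4, 8, 5, 5, 3, 4, 8, 5, 5, 3, 5, 3, 4, 8, 5, 5, 3, 4, 8, 5, 5, 3, 5, 3, 4, 8, 5, 5, 3, 4, 8, 5, 5, 3, 5, 3] [.out 161]],
  .sub [19, 10, 4, 5] [.sub [5, 3, 5, 3, 4, 8, 5, 5, 3, 5, 3, 5, 3, 4, 8, 5, 5, 3, 4, 8, 5, 5, 3, 4, 8, 5, 5, 3, 5, 3, 4, 8, 5, 5, 3] [.out 441]],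
  .sub [20, 10, 4, 5] [.out 2045],
  .sub [21, 10, 4, 5] [.sub [4, 8, 5, 5, 3, 5, 3, 4, 8, 5, 5, 3, 5, 3, 4, 8, 5, 5, 3, 4, 8, 5, 5, 3, 5, 3, 4, 8, 5, 5, 3, 5, 3, 5, 3, 4, 8, 5, 5, 3, 4, 8, 5] [.out 3041]],
  .sub [2, 12, 4, 5] [.out 1615],
  .sub [4, 12, 4, 5] [.out 4622],
  .sub [5, 12, 4, 5] [.out 5252],
  .sub [6, 12, 4, 5] [.out 2487],
  .sub [8, 12, 4, 5] [.out 2844],
  .sub [11, 12, 4, 5] [.out 3759],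
  .sub [17, 12, 4, 5] [.out 2162],
  .sub [19, 12, 4, 5] [.out 3221],
  .sub [5, 13, 4, 5] [.out 3361],
  .sub [12, 13, 4, 5] [.out 410],
  .sub [16, 13, 4, 5] [.out 6080],
  .sub [17, 13, 4, 5] [.out 1125],
  .sub [18, 13, 4, 5] [.out 3811],
  .sub [16, 16, 4, 5] [.out 4043],
  .sub [0, 17, 4, 5] [.out 4888],
  .sub [1, 17, 4, 5] [.out 2473],
  .sub [4, 17, 4, 5] [.out 2333],
  .sub [5, 17, 4, 5] [.sub [4, 8, 5, 5, 3, 5, 3, 4, 8, 5, 5, 3, 4, 8, 5, 5, 3, 5, 3, 4, 8, 5, 5, 3, 5, 3, 4, 8, 5] [.out 736]]]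

/-- Branches. -/
def kidsXPart18 : List Branch := [
  .sub [6, 17, 4, 5] [.out 5410],
  .sub [8, 17, 4, 5] [.sub [4, 8, 5, 5, 3, 4, 8, 5, 5, 3, 5, 3, 4, 8, 5, 5, 3, 4, 8, 5, 5, 3, 5, 3, 5, 3] [.out 3011]],
  .sub [13, 17, 4, 5] [.sub [4, 8, 5, 5, 3, 5, 3, 4, 8, 5, 5, 3, 5, 3, 4, 8, 5, 5, 3, 4, 8, 5] [.out 5837]],
  .sub [14, 17, 4, 5] [.out 1553],
  .sub [16, 17, 4, 5] [.out 3079],
  .sub [1, 18, 4, 5] [.out 5313],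
  .sub [4, 18, 4, 5] [.out 5404],
  .sub [10, 18, 4, 5] [.out 1763],
  .sub [11, 18, 4, 5] [.out 4670],
  .sub [0, 19, 4, 5] [.out 4647],
  .sub [1, 19, 4, 5] [.out 4834],
  .sub [4, 19, 4, 5] [.out 5080],
  .sub [10, 19, 4, 5] [.out 4799],
  .sub [11, 19, 4, 5] [.out 5303],
  .sub [12, 19, 4, 5] [.out 2079],
  .sub [14, 19, 4, 5] [.out 2210],
  .sub [16, 19, 4, 5] [.out 5120],
  .sub [6, 20, 4, 5] [.out 1420],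
  .sub [8, 21, 4, 5] [.out 5665],
  .sub [16, 21, 4, 5] [.out 436],
  .sub [19, 21, 4, 5] [.out 2893],
  .sub [21, 21, 4, 5] [.sub [5, 3, 5, 3, 4, 8, 5, 5, 3, 4, 8, 5, 5, 3, 5, 3, 4, 8, 5, 5, 3, 4, 8, 5, 5, 3, 5, 3, 5, 3, 4, 8, 5, 5, 3, 5, 3, 5, 3] [.out 5511]],
  .sub [2, 4, 6, 5] [.out 5211],
  .sub [9, 4, 6, 5] [.out 709],
  .sub [8, 5, 6, 5] [.out 1241],
  .sub [12, 5, 6, 5] [.out 4991],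
  .sub [10, 7, 6, 5] [.out 2409],
  .sub [10, 8, 6, 5] [.out 5103],
  .sub [13, 8, 6, 5] [.out 3489],
  .sub [21, 8, 6, 5] [.out 3882],
  .sub [19, 11, 6, 5] [.out 5296],
  .sub [8, 12, 6, 5] [.out 2935],
  .sub [11, 12, 6, 5] [.out 3406],
  .sub [4, 16, 6, 5] [.out 3590],
  .sub [5, 16, 6, 5] [.out 2978],
  .sub [8, 16, 6, 5] [.out 5444],
  .sub [11, 16, 6, 5] [.out 4612],
  .sub [12, 16, 6, 5] [.out 2048],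
  .sub [4, 17, 6, 5] [.out 3851],
  .sub [4, 19, 6, 5] [.out 3382],
  .sub [8, 19, 6, 5] [.out 6019],
  .sub [11, 19, 6, 5] [.out 3167],
  .sub [12, 19, 6, 5] [.out 4463],
  .sub [4, 14, 8, 5] [.out 889],
  .sub [8, 4, 9, 5] [.out 1223],
  .sub [9, 4, 9, 5] [.out 2911],
  .sub [11, 4, 9, 5] [.sub [4, 8, 5, 5, 3, 4, 8, 5, 5, 3, 4, 8, 5, 5, 3, 4, 8, 5, 5, 3, 5, 3, 5, 3, 4, 8, 5, 5, 3, 4, 8, 5, 5, 3, 4, 8, 5] [.out 1868]],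
  .sub [16, 4, 9, 5] [.sub [5, 3, 5, 3, 4, 8, 5, 5, 3, 5, 3, 5, 3, 4, 8, 5, 5, 3, 4, 8, 5, 5, 3, 5, 3] [.out 5287]],
  .sub [18, 4, 9, 5] [.out 5424],
  .sub [20, 4, 9, 5] [.out 1682],
  .sub [21, 4, 9, 5] [.out 1910],
  .sub [3, 6, 9, 5] [.out 4374],
  .sub [4, 6, 9, 5] [.sub [4, 8, 5, 5, 3, 4, 8, 5, 5, 3, 4, 8, 5, 5, 3, 4, 8, 5, 5, 3, 5, 3, 4, 8, 5, 5, 3, 4, 8, 5, 5, 3, 5, 3] [.out 975]],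
  .sub [5, 6, 9, 5] [.out 3739],
  .sub [11, 6, 9, 5] [.out 2731],
  .sub [12, 6, 9, 5] [.sub [5, 3, 5, 3, 4, 8, 5, 5, 3, 4, 8, 5, 5, 3, 5, 3, 4, 8, 5, 5, 3, 4, 8, 5, 5, 3, 5, 3, 4, 8, 5, 5, 3, 5, 3, 4, 8, 5, 5, 3] [.out 4872]],
  .sub [2, 8, 9, 5] [.sub [5, 3, 5, 3, 5, 3, 4, 8, 5, 5, 3, 4, 8, 5, 5, 3, 4, 8, 5, 5, 3, 5, 3] [.out 6050]],
  .sub [10, 8, 9, 5] [.out 2648],
  .sub [13, 8, 9, 5] [.out 4645],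
  .sub [17, 8, 9, 5] [.out 6020],
  .sub [2, 11, 9, 5] [.out 5395],
  .sub [7, 11, 9, 5] [.out 5445],
  .sub [9, 11, 9, 5] [.out 5632],
  .sub [10, 11, 9, 5] [.out 2903],
  .sub [17, 11, 9, 5] [.out 1583],
  .sub [18, 11, 9, 5] [.out 3612],
  .sub [20, 11, 9, 5] [.out 3704],
  .sub [1, 4, 10, 5] [.out 1015],
  .sub [3, 4, 10, 5] [.sub [4, 8, 5, 5, 3, 5, 3, 5, 3, 4, 8, 5, 5, 3, 5, 3, 4, 8, 5, 5, 3, 4, 8, 5, 5, 3] [.out 2068]],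
  .sub [4, 4, 10, 5] [.sub [5, 3, 5, 3, 4, 8, 5, 5, 3, 4, 8, 5, 5, 3, 4, 8, 5, 5, 3, 5, 3, 4, 8, 5, 5, 3, 5, 3, 5, 3, 4, 8, 5, 5, 3, 5, 3, 4, 8, 5, 5, 3] [.out 1651]],
  .sub [5, 4, 10, 5] [.out 332],
  .sub [9, 4, 10, 5] [.out 4728],
  .sub [11, 4, 10, 5] [.out 3618],
  .sub [12, 4, 10, 5] [.out 1035],
  .sub [14, 4, 10, 5] [.out 1455],
  .sub [17, 4, 10, 5] [.out 3695],
  .sub [19, 4, 10, 5] [.out 2959],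
  .sub [0, 8, 10, 5] [.out 303],
  .sub [1, 8, 10, 5] [.sub [5, 3, 5, 3, 5, 3, 4, 8, 5, 5, 3, 4, 8, 5, 5, 3] [.out 3014]],
  .sub [10, 8, 10, 5] [.out 1246],
  .sub [16, 8, 10, 5] [.out 329],
  .sub [17, 8, 10, 5] [.out 2629],
  .sub [18, 8, 10, 5] [.out 5173],
  .sub [20, 8, 10, 5] [.out 2708],
  .sub [21, 8, 10, 5] [.sub [5, 3, 4, 8, 5, 5, 3, 5, 3, 5, 3, 4, 8, 5, 5, 3, 4, 8, 5, 5, 3, 5, 3, 4, 8, 5, 5, 3, 5, 3, 5, 3, 4, 8, 5, 5, 3] [.out 3719]],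
  .sub [11, 10, 10, 5] [.out 4912],
  .sub [5, 11, 10, 5] [.out 3907],
  .sub [16, 11, 10, 5] [.out 4872],
  .sub [17, 11, 10, 5] [.out 3361],
  .sub [19, 11, 10, 5] [.out 432],
  .sub [4, 13, 10, 5] [.out 1096],
  .sub [8, 13, 10, 5] [.out 5614],
  .sub [8, 14, 10, 5] [.out 3788],
  .sub [11, 14, 10, 5] [.out 4606],
  .sub [6, 2, 11, 5] [.out 4228],
  .sub [8, 2, 11, 5] [.out 2285],
  .sub [17, 2, 11, 5] [.out 2224],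
  .sub [19, 2, 11, 5] [.out 5180],
  .sub [4, 5, 11, 5] [.out 812],
  .sub [6, 5, 11, 5] [.out 3108],
  .sub [10, 5, 11, 5] [.out 3285],
  .sub [11, 5, 11, 5] [.out 4722],
  .sub [13, 5, 11, 5] [.out 3116],
  .sub [14, 5, 11, 5] [.out 4386],
  .sub [18, 5, 11, 5] [.out 2734],
  .sub [2, 6, 11, 5] [.out 406],
  .sub [5, 6, 11, 5] [.out 240],
  .sub [7, 6, 11, 5] [.out 5014],
  .sub [10, 6, 11, 5] [.out 484],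
  .sub [13, 6, 11, 5] [.out 1120],
  .sub [17, 6, 11, 5] [.out 2500],
  .sub [18, 6, 11, 5] [.out 4135],
  .sub [19, 6, 11, 5] [.sub [4, 8, 5, 5, 3, 4, 8, 5, 5, 3, 4, 8, 5, 5, 3, 5, 3, 4, 8, 5] [.out 5744]],
  .sub [21, 6, 11, 5] [.out 3977],
  .sub [17, 7, 11, 5] [.out 5258],
  .sub [18, 7, 11, 5] [.out 2184],
  .sub [2, 10, 11, 5] [.out 5106],
  .sub [6, 10, 11, 5] [.out 2900],
  .sub [7, 10, 11, 5] [.out 3905],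
  .sub [8, 10, 11, 5] [.out 1277],
  .sub [9, 10, 11, 5] [.out 4638],
  .sub [10, 10, 11, 5] [.out 5565],
  .sub [11, 10, 11, 5] [.out 1092],
  .sub [12, 10, 11, 5] [.out 176],
  .sub [17, 10, 11, 5] [.out 2267],
  .sub [18, 10, 11, 5] [.out 2277],
  .sub [19, 10, 11, 5] [.out 4422],
  .sub [20, 10, 11, 5] [.out 2553],
  .sub [21, 10, 11, 5] [.out 1462],
  .sub [7, 13, 11, 5] [.sub [5, 3, 5, 3, 4, 8, 5, 5, 3, 5, 3, 4, 8, 5, 5, 3, 4, 8, 5, 5, 3, 5, 3, 4, 8, 5, 5, 3, 4, 8, 5, 5, 3, 5, 3, 5, 3, 4, 8, 5, 5, 3, 4, 8, 5, 5, 3] [.out 4766]],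
  .sub [10, 13, 11, 5] [.sub [4, 8, 5, 5, 3, 4, 8, 5, 5, 3, 4, 8, 5, 5, 3, 4, 8, 5, 5, 3, 5, 3, 4, 8, 5, 5, 3, 5, 3, 5, 3, 4, 8, 5, 5, 3, 4, 8, 5] [.out 4526]],
  .sub [17, 13, 11, 5] [.out 2887],
  .sub [18, 13, 11, 5] [.out 2181],
  .sub [20, 13, 11, 5] [.out 4253],
  .sub [16, 16, 11, 5] [.out 2267],
  .sub [17, 16, 11, 5] [.out 535],
  .sub [19, 16, 11, 5] [.out 3098],
  .sub [21, 16, 11, 5] [.sub [5, 3, 5, 3, 4, 8, 5, 5, 3, 5, 3, 4, 8, 5, 5, 3, 4, 8, 5, 5, 3, 5, 3, 4, 8, 5, 5, 3, 5, 3, 5, 3, 4, 8, 5, 5, 3, 4, 8, 5, 5, 3, 5, 3, 4, 8, 5] [.out 2201]],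
  .sub [0, 17, 11, 5] [.out 1795],
  .sub [4, 17, 11, 5] [.out 2212],
  .sub [8, 17, 11, 5] [.out 749],
  .sub [10, 17, 11, 5] [.out 1484],
  .sub [12, 17, 11, 5] [.out 1273],
  .sub [13, 17, 11, 5] [.out 1531],
  .sub [16, 17, 11, 5] [.out 4477],
  .sub [1, 18, 11, 5] [.out 4473],
  .sub [4, 18, 11, 5] [.out 1755],
  .sub [8, 18, 11, 5] [.out 6089],
  .sub [10, 18, 11, 5] [.out 184],
  .sub [12, 18, 11, 5] [.out 5843],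
  .sub [13, 18, 11, 5] [.out 2128],
  .sub [14, 18, 11, 5] [.out 4601],
  .sub [8, 19, 11, 5] [.out 4442],
  .sub [11, 19, 11, 5] [.out 5052],
  .sub [16, 19, 11, 5] [.out 4086],
  .sub [21, 19, 11, 5] [.sub [5, 3, 4, 8, 5, 5, 3, 5, 3, 5, 3, 4, 8, 5, 5, 3, 4, 8, 5, 5, 3, 4, 8, 5, 5, 3, 5, 3, 5, 3] [.out 4464]],
  .sub [6, 20, 11, 5] [.sub [5, 3, 4, 8, 5, 5, 3, 4, 8, 5, 5, 3, 4, 8, 5, 5, 3, 5, 3, 4, 8, 5, 5, 3] [.out 5011]],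
  .sub [8, 20, 11, 5] [.out 4148],
  .sub [16, 20, 11, 5] [.out 5973],
  .sub [11, 21, 11, 5] [.out 4539],
  .sub [12, 21, 11, 5] [.sub [4, 8, 5, 5, 3, 5, 3, 5, 3, 4, 8, 5, 5, 3, 4, 8, 5, 5, 3, 5, 3, 5, 3, 4, 8, 5, 5, 3, 4, 8, 5, 5, 3] [.out 6039]],
  .sub [21, 21, 11, 5] [.out 644],
  .sub [5, 2, 12, 5] [.sub [5, 3, 4, 8, 5, 5, 3, 5, 3, 5, 3, 4, 8, 5, 5, 3, 4, 8, 5, 5, 3, 4, 8, 5, 5, 3] [.out 686]],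
  .sub [8, 2, 12, 5] [.out 4875],
  .sub [1, 3, 12, 5] [.out 4501],
  .sub [16, 3, 12, 5] [.out 2635],
  .sub [17, 3, 12, 5] [.sub [5, 3, 4, 8, 5, 5, 3, 4, 8, 5, 5, 3, 4, 8, 5, 5, 3, 5, 3, 4, 8, 5, 5, 3, 4, 8, 5, 5, 3, 5, 3, 4, 8, 5, 5, 3, 5, 3, 4, 8, 5] [.out 4872]],
  .sub [18, 3, 12, 5] [.out 2279],
  .sub [0, 4, 12, 5] [.out 4373],
  .sub [1, 4, 12, 5] [.out 4279],
  .sub [2, 4, 12, 5] [.out 3394],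
  .sub [3, 4, 12, 5] [.out 275],
  .sub [4, 4, 12, 5] [.out 4199],
  .sub [6, 4, 12, 5] [.out 200],
  .sub [8, 4, 12, 5] [.out 1748],
  .sub [9, 4, 12, 5] [.out 1113],
  .sub [11, 4, 12, 5] [.out 5502],
  .sub [12, 4, 12, 5] [.out 3464],
  .sub [13, 4, 12, 5] [.out 4985],
  .sub [14, 4, 12, 5] [.out 1660],
  .sub [16, 4, 12, 5] [.out 4180],
  .sub [17, 4, 12, 5] [.out 4050],
  .sub [18, 4, 12, 5] [.out 4158],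
  .sub [19, 4, 12, 5] [.out 5908],
  .sub [20, 4, 12, 5] [.out 2133],
  .sub [21, 4, 12, 5] [.out 2157],
  .sub [6, 5, 12, 5] [.out 800],
  .sub [10, 5, 12, 5] [.out 320],
  .sub [12, 5, 12, 5] [.out 3752],
  .sub [18, 5, 12, 5] [.out 5828],
  .sub [4, 7, 12, 5] [.out 5636],
  .sub [8, 7, 12, 5] [.sub [4, 8, 5, 5, 3, 4, 8, 5, 5, 3, 4, 8, 5, 5, 3, 5, 3, 4, 8, 5, 5, 3, 5, 3, 4, 8, 5, 5, 3] [.out 3554]]]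

/-- Branches. -/
def kidsXPart19 : List Branch := [
  .sub [0, 8, 12, 5] [.out 5387],
  .sub [1, 8, 12, 5] [.out 3971],
  .sub [5, 8, 12, 5] [.out 5099],
  .sub [6, 8, 12, 5] [.out 6024],
  .sub [7, 8, 12, 5] [.out 2406],
  .sub [9, 8, 12, 5] [.sub [5, 3, 5, 3, 4, 8, 5, 5, 3, 4, 8, 5, 5, 3, 5, 3, 4, 8, 5, 5, 3, 4, 8, 5, 5, 3, 5, 3, 5, 3] [.out 2483]],
  .sub [10, 8, 12, 5] [.sub [4, 8, 5, 5, 3, 4, 8, 5, 5, 3, 4, 8, 5, 5, 3, 5, 3, 4, 8, 5, 5, 3, 4, 8, 5, 5, 3, 5, 3, 5, 3] [.bad [3, 3, 2, 0, 3, 3, 2, 0, 3, 2, 0, 8, 3, 1, 3, 0, 2, 1, 0, 3, 3, 2, 0, 3, 3, 2, 0, 3, 3, 2, 0, 3, 2, 0, 8, 3, 1, 3, 0, 2, 1, 0, 3, 3, 2, 0, 3, 2, 0, 8, 3, 1, 3, 0, 2, 1, 0, 5, 3, 4, 8, 5, 5, 3, 5, 3, 4, 8, 5, 5, 3, 5, 3, 5, 3, 4, 8, 5, 5, 3, 5, 3, 3, 3, 2, 0, 3, 3, 2, 0, 3, 2, 0, 8, 3, 1, 3, 0,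 2, 1, 0, 3, 3, 2, 0, 3, 3, 2, 0, 3, 3, 2, 0, 3, 2, 0, 8, 3, 1, 3, 0, 2, 1, 0, 3, 3, 2, 0, 3, 2, 0, 8, 3, 1, 3, 0, 2, 1, 0, 5, 3, 4, 8, 5, 5, 3, 5, 3, 4, 8, 5, 5, 3, 5, 3, 5, 3, 4, 8, 5, 5, 3, 5, 3, 3, 2, 0, 8, 3, 1, 3, 0, 2, 1, 0, 3, 3, 2, 0, 3, 3, 2, 0, 3, 2, 0, 8, 3, 1, 3, 0, 2, 1, 0, 5, 3, 4, 8, 5, 5, 3, 4, 8, 5, 5, 3, 5, 3, 5, 3, 4, 8, 5] 1]],
  .sub [13, 8, 12, 5] [.out 1385],
  .sub [14, 8, 12, 5] [.out 5135],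
  .sub [16, 8, 12, 5] [.out 5377],
  .sub [17, 8, 12, 5] [.out 828],
  .sub [18, 8, 12, 5] [.out 4647],
  .sub [19, 8, 12, 5] [.out 1259],
  .sub [20, 8, 12, 5] [.out 5828],
  .sub [0, 9, 12, 5] [.out 1366],
  .sub [1, 9, 12, 5] [.out 125],
  .sub [6, 9, 12, 5] [.out 3951],
  .sub [16, 9, 12, 5] [.out 2932],
  .sub [17, 9, 12, 5] [.out 5544],
  .sub [1, 11, 12, 5] [.out 4106],
  .sub [6, 11, 12, 5] [.out 770],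
  .sub [7, 11, 12, 5] [.sub [5, 3, 5, 3, 4, 8, 5, 5, 3, 4, 8, 5, 5, 3, 5, 3, 5, 3, 4, 8, 5, 5, 3, 5, 3, 5, 3] [.out 736]],
  .sub [10, 11, 12, 5] [.out 4893],
  .sub [19, 11, 12, 5] [.out 487],
  .sub [20, 11, 12, 5] [.out 149],
  .sub [0, 12, 12, 5] [.out 5589],
  .sub [2, 12, 12, 5] [.out 3697],
  .sub [5, 12, 12, 5] [.out 3356],
  .sub [7, 12, 12, 5] [.out 2833],
  .sub [8, 12, 12, 5] [.out 39],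
  .sub [9, 12, 12, 5] [.out 1341],
  .sub [10, 12, 12, 5] [.out 1239],
  .sub [14, 12, 12, 5] [.out 4733],
  .sub [17, 12, 12, 5] [.out 6065],
  .sub [18, 12, 12, 5] [.out 1311],
  .sub [19, 12, 12, 5] [.out 4413],
  .sub [20, 12, 12, 5] [.out 2024],
  .sub [21, 12, 12, 5] [.out 5152],
  .sub [4, 17, 12, 5] [.out 4196],
  .sub [5, 17, 12, 5] [.out 5767],
  .sub [8, 17, 12, 5] [.out 2406],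
  .sub [11, 17, 12, 5] [.out 586],
  .sub [12, 17, 12, 5] [.out 2671],
  .sub [12, 18, 12, 5] [.out 807],
  .sub [5, 19, 12, 5] [.out 5341],
  .sub [11, 19, 12, 5] [.out 57],
  .sub [4, 20, 12, 5] [.out 2344],
  .sub [4, 21, 12, 5] [.out 4186],
  .sub [5, 21, 12, 5] [.out 4620],
  .sub [8, 21, 12, 5] [.out 4212],
  .sub [12, 21, 12, 5] [.out 1087],
  .sub [4, 3, 13, 5] [.out 3388],
  .sub [11, 3, 13, 5] [.out 4043],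
  .sub [2, 4, 13, 5] [.out 5092],
  .sub [5, 4, 13, 5] [.out 670],
  .sub [8, 4, 13, 5] [.out 3439],
  .sub [9, 4, 13, 5] [.sub [5, 3, 4, 8, 5, 5, 3, 4, 8, 5, 5, 3, 5, 3] [.out 4000]],
  .sub [10, 4, 13, 5] [.out 1301],
  .sub [13, 4, 13, 5] [.out 5460],
  .sub [14, 4, 13, 5] [.out 6013],
  .sub [17, 4, 13, 5] [.out 1118],
  .sub [18, 4, 13, 5] [.out 4052],
  .sub [20, 4, 13, 5] [.out 749],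
  .sub [21, 4, 13, 5] [.sub [4, 8, 5, 5, 3, 4, 8, 5, 5, 3, 4, 8, 5, 5, 3, 5, 3, 4, 8, 5, 5, 3, 5, 3, 4, 8, 5, 5, 3, 4, 8, 5, 5, 3, 4, 8, 5, 5, 3, 5, 3, 4, 8, 5] [.out 2915]],
  .sub [6, 8, 13, 5] [.out 3583],
  .sub [6, 11, 13, 5] [.sub [5, 3, 4, 8, 5, 5, 3, 5, 3, 4, 8, 5, 5, 3, 4, 8, 5, 5, 3, 5, 3, 5, 3, 4, 8, 5, 5, 3, 5, 3] [.out 212]],
  .sub [12, 11, 13, 5] [.out 1531],
  .sub [16, 11, 13, 5] [.sub [5, 3, 4, 8, 5, 5, 3, 5, 3, 4, 8, 5, 5, 3, 4, 8, 5, 5, 3, 5, 3, 4, 8, 5, 5, 3, 5, 3, 5, 3, 4, 8, 5, 5, 3, 4, 8, 5] [.out 3759]],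
  .sub [21, 11, 13, 5] [.out 3751],
  .sub [4, 6, 0, 8] [.out 2531],
  .sub [5, 6, 0, 8] [.out 208],
  .sub [8, 6, 0, 8] [.out 4265],
  .sub [9, 6, 0, 8] [.out 4461],
  .sub [11, 6, 0, 8] [.out 5808],
  .sub [12, 6, 0, 8] [.sub [4, 8, 5, 5, 3, 4, 8, 5, 5, 3, 4, 8, 5, 5, 3, 5, 3, 4, 8, 5, 5, 3, 4, 8, 5, 5, 3, 5, 3, 4, 8, 5, 5, 3, 4, 8, 5, 5, 3, 5, 3] [.out 1214]],
  .sub [16, 6, 0, 8] [.out 3923],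
  .sub [17, 6, 0, 8] [.out 1578],
  .sub [19, 6, 0, 8] [.out 179],
  .sub [20, 6, 0, 8] [.out 1563],
  .sub [21, 6, 0, 8] [.out 3646],
  .sub [8, 10, 0, 8] [.out 67],
  .sub [12, 10, 0, 8] [.out 4151],
  .sub [17, 10, 0, 8] [.out 2245],
  .sub [18, 10, 0, 8] [.out 3134],
  .sub [21, 10, 0, 8] [.sub [4, 8, 5, 5, 3, 4, 8, 5, 5, 3, 5, 3, 5, 3, 4, 8, 5, 5, 3, 4, 8, 5, 5, 3, 5, 3, 5, 3, 4, 8, 5, 5, 3, 4, 8, 5] [.out 3253]],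
  .sub [2, 13, 0, 8] [.sub [5, 3, 5, 3, 5, 3, 4, 8, 5, 5, 3, 5, 3, 4, 8, 5, 5, 3, 4, 8, 5, 5, 3, 5, 3, 5, 3] [.out 4296]],
  .sub [5, 13, 0, 8] [.out 711],
  .sub [9, 13, 0, 8] [.out 3844],
  .sub [10, 13, 0, 8] [.out 3288],
  .sub [12, 13, 0, 8] [.out 3443],
  .sub [13, 13, 0, 8] [.out 3729],
  .sub [20, 13, 0, 8] [.out 2567],
  .sub [1, 18, 0, 8] [.out 5027],
  .sub [6, 18, 0, 8] [.out 2880],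
  .sub [8, 18, 0, 8] [.out 4109],
  .sub [11, 18, 0, 8] [.out 1811],
  .sub [6, 19, 0, 8] [.out 2481],
  .sub [8, 19, 0, 8] [.out 3677],
  .sub [11, 21, 0, 8] [.sub [4, 8, 5, 5, 3, 4, 8, 5, 5, 3, 5, 3, 5, 3, 4, 8, 5, 5, 3, 4, 8, 5, 5, 3, 5, 3, 5, 3, 4, 8, 5, 5, 3, 5, 3, 4, 8, 5, 5, 3] [.out 4980]],
  .sub [14, 21, 0, 8] [.out 4885],
  .sub [4, 4, 1, 8] [.sub [5, 3, 5, 3, 5, 3, 4, 8, 5, 5, 3, 4, 8, 5, 5, 3, 5, 3, 5, 3, 4, 8, 5, 5, 3, 5, 3, 4, 8, 5, 5, 3] [.out 975]],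
  .sub [5, 4, 1, 8] [.out 1887],
  .sub [8, 4, 1, 8] [.sub [4, 8, 5, 5, 3, 4, 8, 5, 5, 3, 4, 8, 5, 5, 3, 5, 3, 5, 3, 4, 8, 5, 5, 3, 5, 3, 4, 8, 5, 5, 3, 4, 8, 5, 5, 3, 4, 8, 5] [.out 1238]],
  .sub [9, 4, 1, 8] [.out 3088],
  .sub [11, 4, 1, 8] [.out 56],
  .sub [12, 4, 1, 8] [.sub [4, 8, 5, 5, 3, 5, 3, 4, 8, 5, 5, 3, 5, 3, 5, 3, 4, 8, 5, 5, 3, 4, 8, 5, 5, 3, 5, 3, 5, 3, 4, 8, 5, 5, 3, 4, 8, 5] [.out 5065]],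
  .sub [18, 4, 1, 8] [.out 1809],
  .sub [21, 4, 1, 8] [.out 3272],
  .sub [6, 5, 1, 8] [.out 1542],
  .sub [11, 5, 1, 8] [.out 5838],
  .sub [18, 5, 1, 8] [.out 3993],
  .sub [4, 6, 1, 8] [.out 2834],
  .sub [5, 6, 1, 8] [.out 3865],
  .sub [19, 6, 1, 8] [.out 1926],
  .sub [12, 7, 1, 8] [.out 2071],
  .sub [13, 7, 1, 8] [.out 2487],
  .sub [17, 7, 1, 8] [.out 3572],
  .sub [21, 7, 1, 8] [.out 4757],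
  .sub [4, 9, 1, 8] [.out 2898],
  .sub [11, 9, 1, 8] [.out 5631],
  .sub [16, 9, 1, 8] [.out 4976],
  .sub [4, 10, 1, 8] [.out 3938],
  .sub [11, 10, 1, 8] [.out 1263],
  .sub [16, 16, 1, 8] [.out 3250],
  .sub [17, 16, 1, 8] [.sub [4, 8, 5, 5, 3, 4, 8, 5, 5, 3, 4, 8, 5, 5, 3, 4, 8, 5, 5, 3, 5, 3, 4, 8, 5, 5, 3, 4, 8, 5, 5, 3, 5, 3, 4, 8, 5, 5, 3] [.out 1769]],
  .sub [19, 16, 1, 8] [.out 5593],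
  .sub [21, 16, 1, 8] [.out 4088],
  .sub [4, 17, 1, 8] [.sub [4, 8, 5, 5, 3, 5, 3, 4, 8, 5, 5, 3, 4, 8, 5, 5, 3, 4, 8, 5, 5, 3, 5, 3, 4, 8, 5, 5, 3, 5, 3, 4, 8, 5, 5, 3, 4, 8, 5, 5, 3] [.out 1482]],
  .sub [13, 17, 1, 8] [.sub [5, 3, 5, 3, 4, 8, 5, 5, 3, 5, 3, 4, 8, 5, 5, 3, 4, 8, 5, 5, 3, 5, 3, 4, 8, 5, 5, 3, 5, 3, 5, 3, 4, 8, 5, 5, 3, 4, 8, 5] [.out 791]],
  .sub [14, 17, 1, 8] [.out 407],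
  .sub [4, 18, 1, 8] [.sub [5, 3, 4, 8, 5, 5, 3, 5, 3, 5, 3, 4, 8, 5, 5, 3, 5, 3] [.out 3744]],
  .sub [5, 18, 1, 8] [.out 5556],
  .sub [8, 18, 1, 8] [.out 750],
  .sub [9, 18, 1, 8] [.out 4059],
  .sub [11, 18, 1, 8] [.out 424],
  .sub [14, 18, 1, 8] [.out 2207],
  .sub [6, 19, 1, 8] [.out 5900],
  .sub [8, 19, 1, 8] [.out 4919],
  .sub [10, 19, 1, 8] [.out 3122],
  .sub [11, 19, 1, 8] [.out 220],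
  .sub [16, 19, 1, 8] [.sub [4, 8, 5, 5, 3, 5, 3, 4, 8, 5, 5, 3, 5, 3, 5, 3] [.out 3041]],
  .sub [21, 19, 1, 8] [.out 4469],
  .sub [8, 20, 1, 8] [.out 3434],
  .sub [2, 4, 2, 8] [.out 3776],
  .sub [4, 4, 2, 8] [.out 4119],
  .sub [5, 4, 2, 8] [.out 4910],
  .sub [7, 4, 2, 8] [.out 5971],
  .sub [9, 4, 2, 8] [.out 150],
  .sub [11, 4, 2, 8] [.out 1765],
  .sub [12, 4, 2, 8] [.out 4220],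
  .sub [17, 4, 2, 8] [.out 4198],
  .sub [19, 4, 2, 8] [.out 3598],
  .sub [2, 6, 2, 8] [.out 3292],
  .sub [3, 6, 2, 8] [.out 6122],
  .sub [5, 6, 2, 8] [.out 3733],
  .sub [11, 6, 2, 8] [.out 6019],
  .sub [16, 6, 2, 8] [.out 6102],
  .sub [19, 6, 2, 8] [.out 1347],
  .sub [21, 6, 2, 8] [.out 822],
  .sub [8, 13, 2, 8] [.sub [5, 3, 4, 8, 5, 5, 3, 4, 8, 5, 5, 3, 5, 3, 4, 8, 5, 5, 3, 5, 3, 5, 3] [.out 4465]],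
  .sub [9, 13, 2, 8] [.out 3511],
  .sub [12, 13, 2, 8] [.out 4737],
  .sub [3, 2, 6, 8] [.out 1858],
  .sub [4, 2, 6, 8] [.out 2857],
  .sub [8, 2, 6, 8] [.out 4358],
  .sub [18, 2, 6, 8] [.sub [5, 3, 5, 3, 4, 8, 5, 5, 3, 4, 8, 5, 5, 3, 5, 3, 5, 3, 4, 8, 5, 5, 3, 5, 3, 4, 8, 5, 5, 3] [.out 5299]],
  .sub [19, 2, 6, 8] [.out 2928],
  .sub [1, 3, 6, 8] [.out 3372],
  .sub [7, 3, 6, 8] [.out 5043],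
  .sub [14, 3, 6, 8] [.out 1880],
  .sub [17, 3, 6, 8] [.out 2504],
  .sub [18, 3, 6, 8] [.out 5686],
  .sub [21, 3, 6, 8] [.out 2269],
  .sub [2, 4, 6, 8] [.out 263],
  .sub [3, 4, 6, 8] [.out 2158],
  .sub [4, 4, 6, 8] [.sub [4, 8, 5, 5, 3, 5, 3, 4, 8, 5, 5, 3, 5, 3, 5, 3, 4, 8, 5, 5, 3, 5, 3, 4, 8, 5, 5, 3, 4, 8, 5, 5, 3, 4, 8, 5] [.out 5837]],
  .sub [6, 4, 6, 8] [.out 5802],
  .sub [8, 4, 6, 8] [.out 2546],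
  .sub [9, 4, 6, 8] [.out 3888],
  .sub [12, 4, 6, 8] [.out 2435],
  .sub [14, 4, 6, 8] [.out 1100],
  .sub [17, 4, 6, 8] [.out 2610],
  .sub [18, 4, 6, 8] [.out 3655],
  .sub [19, 4, 6, 8] [.out 1288],
  .sub [1, 5, 6, 8] [.out 948],
  .sub [4, 5, 6, 8] [.out 1834],
  .sub [6, 5, 6, 8] [.out 4209],
  .sub [8, 5, 6, 8] [.out 4161],
  .sub [9, 5, 6, 8] [.out 319],
  .sub [13, 5, 6, 8] [.out 4282],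
  .sub [9, 7, 6, 8] [.out 6155],
  .sub [10, 7, 6, 8] [.sub [4, 8, 5, 5, 3, 5, 3, 5, 3, 4, 8, 5, 5, 3, 5, 3, 4, 8, 5, 5, 3, 4, 8, 5, 5, 3, 4, 8, 5] [.out 815]]]

/-- Branches. -/
def kidsXPart20 : List Branch := [
  .sub [12, 7, 6, 8] [.out 3820],
  .sub [13, 7, 6, 8] [.out 592],
  .sub [14, 7, 6, 8] [.out 1137],
  .sub [2, 8, 6, 8] [.sub [5, 3, 4, 8, 5, 5, 3, 4, 8, 5, 5, 3, 4, 8, 5, 5, 3, 5, 3, 4, 8, 5, 5, 3, 5, 3, 5, 3] [.out 2741]],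
  .sub [4, 8, 6, 8] [.out 111],
  .sub [7, 8, 6, 8] [.out 5621],
  .sub [9, 8, 6, 8] [.out 5283],
  .sub [16, 8, 6, 8] [.out 3086],
  .sub [17, 8, 6, 8] [.out 3431],
  .sub [18, 8, 6, 8] [.sub [5, 3, 4, 8, 5, 5, 3, 5, 3, 5, 3, 4, 8, 5, 5, 3, 5, 3, 4, 8, 5, 5, 3, 4, 8, 5, 5, 3, 5, 3, 5, 3] [.out 3253]],
  .sub [19, 8, 6, 8] [.out 1753],
  .sub [21, 8, 6, 8] [.out 4754],
  .sub [0, 9, 6, 8] [.out 2606],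
  .sub [11, 9, 6, 8] [.sub [5, 3, 5, 3, 4, 8, 5, 5, 3, 5, 3, 5, 3, 4, 8, 5, 5, 3, 5, 3, 5, 3] [.out 1238]],
  .sub [16, 9, 6, 8] [.out 4896],
  .sub [17, 9, 6, 8] [.sub [5, 3, 4, 8, 5, 5, 3, 5, 3, 5, 3, 4, 8, 5, 5, 3, 5, 3, 4, 8, 5, 5, 3, 4, 8, 5, 5, 3, 5, 3, 5, 3] [.out 2584]],
  .sub [19, 9, 6, 8] [.out 1156],
  .sub [21, 9, 6, 8] [.sub [4, 8, 5, 5, 3, 4, 8, 5, 5, 3, 5, 3, 5, 3, 4, 8, 5, 5, 3, 5, 3, 4, 8, 5, 5, 3, 4, 8, 5, 5, 3] [.out 815]],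
  .sub [2, 10, 6, 8] [.out 4473],
  .sub [3, 10, 6, 8] [.out 4439],
  .sub [4, 10, 6, 8] [.out 2736],
  .sub [5, 10, 6, 8] [.out 2214],
  .sub [9, 10, 6, 8] [.sub [5, 3, 5, 3, 4, 8, 5, 5, 3, 5, 3, 4, 8, 5, 5, 3, 4, 8, 5, 5, 3, 5, 3, 5, 3] [.out 5188]],
  .sub [11, 10, 6, 8] [.out 2761],
  .sub [12, 10, 6, 8] [.out 1502],
  .sub [13, 10, 6, 8] [.out 4094],
  .sub [18, 10, 6, 8] [.out 4878],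
  .sub [19, 10, 6, 8] [.out 5047],
  .sub [20, 10, 6, 8] [.sub [5, 3, 5, 3, 4, 8, 5, 5, 3, 4, 8, 5, 5, 3, 5, 3, 4, 8, 5] [.out 2471]],
  .sub [21, 10, 6, 8] [.sub [4, 8, 5, 5, 3, 5, 3, 4, 8, 5, 5, 3, 5, 3, 5, 3, 4, 8, 5] [.out 5819]],
  .sub [6, 11, 6, 8] [.sub [4, 8, 5, 5, 3, 5, 3, 4, 8, 5, 5, 3, 5, 3, 5, 3, 4, 8, 5, 5, 3, 4, 8, 5, 5, 3] [.out 3177]],
  .sub [18, 11, 6, 8] [.out 2806],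
  .sub [19, 11, 6, 8] [.out 3443],
  .sub [21, 11, 6, 8] [.out 5897],
  .sub [0, 12, 6, 8] [.out 5630],
  .sub [2, 12, 6, 8] [.out 5435],
  .sub [5, 12, 6, 8] [.out 563],
  .sub [7, 12, 6, 8] [.out 5907],
  .sub [18, 12, 6, 8] [.out 1266],
  .sub [20, 12, 6, 8] [.sub [5, 3, 5, 3, 4, 8, 5, 5, 3, 4, 8, 5, 5, 3, 5, 3, 5, 3, 4, 8, 5, 5, 3, 4, 8, 5, 5, 3, 4, 8, 5] [.out 5671]],
  .sub [21, 12, 6, 8] [.out 3130],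
  .sub [2, 13, 6, 8] [.out 3163],
  .sub [3, 13, 6, 8] [.out 318],
  .sub [10, 13, 6, 8] [.out 3912],
  .sub [11, 13, 6, 8] [.out 1240],
  .sub [17, 13, 6, 8] [.out 990],
  .sub [20, 13, 6, 8] [.out 2140],
  .sub [0, 17, 6, 8] [.out 3806],
  .sub [4, 17, 6, 8] [.out 1868],
  .sub [6, 17, 6, 8] [.out 2136],
  .sub [8, 17, 6, 8] [.out 3169],
  .sub [12, 17, 6, 8] [.out 2171],
  .sub [13, 17, 6, 8] [.out 5466],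
  .sub [16, 17, 6, 8] [.out 1448],
  .sub [3, 18, 6, 8] [.out 3290],
  .sub [4, 18, 6, 8] [.out 2981],
  .sub [6, 18, 6, 8] [.out 5628],
  .sub [8, 18, 6, 8] [.sub [4, 8, 5, 5, 3, 4, 8, 5, 5, 3, 5, 3, 4, 8, 5, 5, 3, 4, 8, 5, 5, 3, 4, 8, 5] [.out 5570]],
  .sub [11, 18, 6, 8] [.out 4490],
  .sub [12, 18, 6, 8] [.sub [5, 3, 4, 8, 5, 5, 3, 4, 8, 5, 5, 3, 5, 3, 5, 3, 4, 8, 5, 5, 3, 5, 3, 4, 8, 5, 5, 3, 4, 8, 5, 5, 3, 4, 8, 5] [.out 5011]],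
  .sub [14, 18, 6, 8] [.out 1118],
  .sub [0, 19, 6, 8] [.out 2367],
  .sub [1, 19, 6, 8] [.out 820],
  .sub [5, 19, 6, 8] [.out 126],
  .sub [6, 19, 6, 8] [.out 1249],
  .sub [14, 19, 6, 8] [.out 4694],
  .sub [16, 19, 6, 8] [.out 3783],
  .sub [6, 20, 6, 8] [.out 2450],
  .sub [16, 20, 6, 8] [.out 3498],
  .sub [4, 21, 6, 8] [.out 178],
  .sub [5, 21, 6, 8] [.out 5517],
  .sub [9, 21, 6, 8] [.out 4665],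
  .sub [14, 21, 6, 8] [.out 1818],
  .sub [18, 21, 6, 8] [.out 2483],
  .sub [19, 21, 6, 8] [.out 2359],
  .sub [3, 6, 7, 8] [.sub [5, 3, 5, 3, 4, 8, 5, 5, 3, 4, 8, 5, 5, 3, 4, 8, 5, 5, 3, 5, 3, 4, 8, 5, 5, 3, 5, 3, 4, 8, 5] [.done 14]],
  .sub [8, 6, 7, 8] [.out 1994],
  .sub [9, 6, 7, 8] [.out 3495],
  .sub [10, 6, 7, 8] [.out 5404],
  .sub [11, 6, 7, 8] [.out 4285],
  .sub [12, 6, 7, 8] [.out 598],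
  .sub [18, 6, 7, 8] [.out 534],
  .sub [19, 6, 7, 8] [.out 4950],
  .sub [20, 6, 7, 8] [.out 2737],
  .sub [5, 10, 7, 8] [.out 4022],
  .sub [8, 10, 7, 8] [.out 5621],
  .sub [10, 10, 7, 8] [.out 5057],
  .sub [21, 10, 7, 8] [.out 2950],
  .sub [4, 13, 7, 8] [.out 5851],
  .sub [9, 13, 7, 8] [.sub [5, 3, 4, 8, 5, 5, 3, 4, 8, 5, 5, 3, 4, 8, 5, 5, 3, 5, 3, 4, 8, 5, 5, 3, 5, 3, 4, 8, 5, 5, 3, 4, 8, 5, 5, 3, 4, 8, 5] [.out 975]],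
  .sub [10, 13, 7, 8] [.out 1488],
  .sub [18, 13, 7, 8] [.sub [4, 8, 5, 5, 3, 4, 8, 5, 5, 3, 4, 8, 5, 5, 3, 4, 8, 5, 5, 3, 5, 3, 4, 8, 5, 5, 3, 5, 3] [.out 5606]],
  .sub [19, 13, 7, 8] [.out 5572],
  .sub [20, 13, 7, 8] [.sub [5, 3, 4, 8, 5, 5, 3, 4, 8, 5, 5, 3, 5, 3, 4, 8, 5, 5, 3, 5, 3] [.out 2217]],
  .sub [5, 14, 7, 8] [.out 4020],
  .sub [10, 14, 7, 8] [.out 386],
  .sub [12, 14, 7, 8] [.out 1413],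
  .sub [21, 14, 7, 8] [.out 2195],
  .sub [4, 17, 7, 8] [.out 818],
  .sub [6, 17, 7, 8] [.out 1755],
  .sub [11, 17, 7, 8] [.out 5204],
  .sub [6, 18, 7, 8] [.out 2995],
  .sub [14, 18, 7, 8] [.out 6012],
  .sub [10, 21, 7, 8] [.out 4518],
  .sub [0, 4, 9, 8] [.sub [4, 8, 5, 5, 3, 5, 3, 5, 3, 4, 8, 5, 5, 3, 4, 8, 5, 5, 3, 5, 3, 4, 8, 5, 5, 3, 5, 3, 5, 3, 4, 8, 5, 5, 3, 4, 8, 5] [.out 4674]],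
  .sub [8, 4, 9, 8] [.sub [5, 3, 5, 3, 4, 8, 5, 5, 3, 5, 3, 5, 3, 4, 8, 5, 5, 3, 5, 3, 4, 8, 5, 5, 3, 4, 8, 5, 5, 3, 4, 8, 5] [.out 1238]],
  .sub [20, 4, 9, 8] [.out 6086],
  .sub [1, 8, 9, 8] [.out 2274],
  .sub [14, 8, 9, 8] [.out 5032],
  .sub [21, 8, 9, 8] [.out 292],
  .sub [2, 11, 9, 8] [.out 6076],
  .sub [4, 11, 9, 8] [.out 2328],
  .sub [5, 11, 9, 8] [.out 101],
  .sub [6, 11, 9, 8] [.out 5993],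
  .sub [12, 11, 9, 8] [.sub [4, 8, 5, 5, 3, 5, 3, 4, 8, 5, 5, 3, 4, 8, 5, 5, 3, 4, 8, 5, 5, 3, 5, 3, 4, 8, 5, 5, 3, 5, 3, 5, 3] [.out 5043]],
  .sub [17, 11, 9, 8] [.out 1507],
  .sub [19, 0, 10, 8] [.sub [5, 3, 4, 8, 5, 5, 3, 5, 3, 5, 3, 4, 8, 5, 5, 3, 4, 8, 5, 5, 3, 4, 8, 5, 5, 3, 5, 3, 4, 8, 5] [.out 89]],
  .sub [3, 1, 10, 8] [.out 1217],
  .sub [5, 1, 10, 8] [.out 5963],
  .sub [9, 1, 10, 8] [.out 1936],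
  .sub [12, 1, 10, 8] [.out 546],
  .sub [13, 1, 10, 8] [.out 3643],
  .sub [18, 1, 10, 8] [.out 5192],
  .sub [21, 1, 10, 8] [.out 5348],
  .sub [4, 2, 10, 8] [.out 3961],
  .sub [6, 2, 10, 8] [.out 849],
  .sub [9, 2, 10, 8] [.out 813],
  .sub [11, 2, 10, 8] [.out 2195],
  .sub [12, 2, 10, 8] [.out 443],
  .sub [13, 2, 10, 8] [.sub [5, 3, 5, 3, 5, 3, 4, 8, 5, 5, 3, 4, 8, 5, 5, 3, 5, 3, 4, 8, 5, 5, 3, 5, 3, 4, 8, 5, 5, 3] [.out 5518]],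
  .sub [20, 2, 10, 8] [.out 935],
  .sub [21, 2, 10, 8] [.out 3496],
  .sub [4, 3, 10, 8] [.out 3434],
  .sub [10, 3, 10, 8] [.out 4832],
  .sub [11, 3, 10, 8] [.out 4386],
  .sub [13, 3, 10, 8] [.out 2189],
  .sub [14, 3, 10, 8] [.sub [5, 3, 4, 8, 5, 5, 3, 4, 8, 5, 5, 3, 5, 3, 5, 3, 4, 8, 5, 5, 3, 4, 8, 5, 5, 3, 5, 3, 4, 8, 5, 5, 3, 5, 3, 5, 3, 4, 8, 5, 5, 3] [.out 5321]],
  .sub [3, 5, 10, 8] [.out 4598],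
  .sub [4, 5, 10, 8] [.out 1787],
  .sub [6, 5, 10, 8] [.out 2783],
  .sub [8, 5, 10, 8] [.sub [4, 8, 5, 5, 3, 4, 8, 5, 5, 3, 5, 3, 4, 8, 5, 5, 3, 5, 3, 5, 3, 4, 8, 5] [.out 1338]],
  .sub [11, 5, 10, 8] [.out 4899],
  .sub [13, 5, 10, 8] [.out 2622],
  .sub [14, 5, 10, 8] [.out 3084],
  .sub [18, 5, 10, 8] [.out 758],
  .sub [20, 5, 10, 8] [.out 1294],
  .sub [3, 6, 10, 8] [.out 4386],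
  .sub [12, 6, 10, 8] [.out 5414],
  .sub [16, 6, 10, 8] [.out 406],
  .sub [21, 6, 10, 8] [.out 3848],
  .sub [5, 8, 10, 8] [.out 556],
  .sub [10, 8, 10, 8] [.out 5205],
  .sub [13, 8, 10, 8] [.out 2822],
  .sub [17, 8, 10, 8] [.out 4291],
  .sub [19, 8, 10, 8] [.out 1863],
  .sub [0, 9, 10, 8] [.out 5163],
  .sub [4, 9, 10, 8] [.out 1581],
  .sub [11, 9, 10, 8] [.sub [4, 8, 5, 5, 3, 5, 3, 4, 8, 5, 5, 3, 4, 8, 5, 5, 3, 5, 3, 4, 8, 5, 5, 3, 4, 8, 5, 5, 3, 5, 3, 5, 3] [.out 2460]],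
  .sub [21, 9, 10, 8] [.out 3027],
  .sub [0, 10, 10, 8] [.out 4975],
  .sub [1, 10, 10, 8] [.out 4417],
  .sub [3, 10, 10, 8] [.out 3547],
  .sub [5, 10, 10, 8] [.out 413],
  .sub [6, 10, 10, 8] [.out 1718],
  .sub [8, 10, 10, 8] [.out 5582],
  .sub [9, 10, 10, 8] [.out 510],
  .sub [10, 10, 10, 8] [.out 3511],
  .sub [0, 12, 10, 8] [.out 4775],
  .sub [2, 12, 10, 8] [.out 1629],
  .sub [3, 12, 10, 8] [.out 5145],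
  .sub [5, 12, 10, 8] [.out 6111],
  .sub [8, 12, 10, 8] [.out 1321],
  .sub [9, 12, 10, 8] [.sub [4, 8, 5, 5, 3, 4, 8, 5, 5, 3, 4, 8, 5, 5, 3, 5, 3, 5, 3, 4, 8, 5, 5, 3, 4, 8, 5, 5, 3] [.out 815]],
  .sub [10, 12, 10, 8] [.out 2278],
  .sub [12, 12, 10, 8] [.sub [4, 8, 5, 5, 3, 5, 3, 4, 8, 5, 5, 3, 5, 3, 4, 8, 5, 5, 3, 4, 8, 5, 5, 3, 5, 3, 4, 8, 5, 5, 3] [.out 2713]],
  .sub [18, 12, 10, 8] [.out 5971],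
  .sub [20, 12, 10, 8] [.out 1743],
  .sub [21, 12, 10, 8] [.out 5098],
  .sub [3, 13, 10, 8] [.out 3028],
  .sub [7, 13, 10, 8] [.out 5291],
  .sub [8, 13, 10, 8] [.out 1598],
  .sub [16, 13, 10, 8] [.out 4374],
  .sub [18, 13, 10, 8] [.out 2542],
  .sub [19, 13, 10, 8] [.out 2940],
  .sub [20, 13, 10, 8] [.out 2663],
  .sub [21, 13, 10, 8] [.out 122],
  .sub [5, 14, 10, 8] [.sub [4, 8, 5, 5, 3, 4, 8, 5, 5, 3, 4, 8, 5, 5, 3, 5, 3, 5, 3, 4, 8, 5, 5, 3, 5, 3, 4, 8, 5, 5, 3] [.out 1317]],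
  .sub [8, 18, 10, 8] [.out 4034],
  .sub [21, 18, 10, 8] [.out 795],
  .sub [4, 19, 10, 8] [.sub [5, 3, 4, 8, 5, 5, 3, 4, 8, 5, 5, 3, 5, 3, 4, 8, 5, 5, 3, 4, 8, 5, 5, 3, 5, 3, 4, 8, 5, 5, 3, 4, 8, 5, 5, 3, 5, 3] [.out 3482]],
  .sub [8, 19, 10, 8] [.out 2461],
  .sub [4, 20, 10, 8] [.out 2577]]

/-- Branches. -/
def kidsXPart21 : List Branch := [
  .sub [5, 21, 10, 8] [.out 5504],
  .sub [6, 21, 10, 8] [.out 244],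
  .sub [7, 21, 10, 8] [.out 3288],
  .sub [9, 21, 10, 8] [.sub [5, 3, 5, 3, 4, 8, 5, 5, 3, 5, 3, 5, 3, 4, 8, 5, 5, 3, 4, 8, 5, 5, 3, 5, 3, 5, 3, 4, 8, 5, 5, 3, 5, 3, 4, 8, 5, 5, 3] [.out 5287]],
  .sub [10, 21, 10, 8] [.out 2930],
  .sub [12, 21, 10, 8] [.sub [4, 8, 5, 5, 3, 5, 3, 5, 3, 4, 8, 5, 5, 3, 4, 8, 5, 5, 3] [.out 3296]],
  .sub [14, 21, 10, 8] [.sub [4, 8, 5, 5, 3, 5, 3, 4, 8, 5, 5, 3, 4, 8, 5, 5, 3, 4, 8, 5, 5, 3, 5, 3, 5, 3, 4, 8, 5, 5, 3, 4, 8, 5, 5, 3] [.out 4778]],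
  .sub [18, 21, 10, 8] [.out 2957],
  .sub [19, 21, 10, 8] [.out 1758],
  .sub [4, 2, 13, 8] [.out 4551],
  .sub [9, 2, 13, 8] [.out 3779],
  .sub [11, 2, 13, 8] [.out 3729],
  .sub [12, 2, 13, 8] [.sub [5, 3, 4, 8, 5, 5, 3, 5, 3, 4, 8, 5, 5, 3, 5, 3, 4, 8, 5, 5, 3, 4, 8, 5, 5, 3, 4, 8, 5] [.out 3522]],
  .sub [13, 2, 13, 8] [.out 5477],
  .sub [20, 2, 13, 8] [.sub [5, 3, 5, 3, 4, 8, 5, 5, 3, 5, 3, 4, 8, 5, 5, 3, 4, 8, 5, 5, 3, 4, 8, 5, 5, 3, 5, 3, 4, 8, 5, 5, 3, 4, 8, 5] [.out 3112]],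
  .sub [21, 2, 13, 8] [.out 1115],
  .sub [6, 3, 13, 8] [.out 787],
  .sub [17, 3, 13, 8] [.out 5803],
  .sub [18, 3, 13, 8] [.out 981],
  .sub [21, 3, 13, 8] [.out 485],
  .sub [2, 4, 13, 8] [.sub [4, 8, 5, 5, 3, 5, 3, 4, 8, 5, 5, 3, 5, 3, 5, 3, 4, 8, 5, 5, 3, 4, 8, 5, 5, 3, 5, 3, 4, 8, 5, 5, 3, 5, 3, 5, 3] [.out 6129]],
  .sub [4, 4, 13, 8] [.out 1333],
  .sub [10, 4, 13, 8] [.out 5379],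
  .sub [11, 4, 13, 8] [.out 4443],
  .sub [12, 4, 13, 8] [.out 3336],
  .sub [14, 4, 13, 8] [.out 1285],
  .sub [21, 4, 13, 8] [.out 5679],
  .sub [4, 5, 13, 8] [.out 1129],
  .sub [17, 5, 13, 8] [.out 1364],
  .sub [3, 6, 13, 8] [.out 2950],
  .sub [5, 6, 13, 8] [.out 3764],
  .sub [17, 6, 13, 8] [.out 4597],
  .sub [4, 7, 13, 8] [.out 4014],
  .sub [8, 7, 13, 8] [.out 461],
  .sub [12, 7, 13, 8] [.out 1858],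
  .sub [13, 7, 13, 8] [.out 3512],
  .sub [9, 8, 13, 8] [.out 1175],
  .sub [1, 9, 13, 8] [.out 4815],
  .sub [6, 9, 13, 8] [.out 2840],
  .sub [11, 9, 13, 8] [.out 432],
  .sub [16, 9, 13, 8] [.out 4285],
  .sub [17, 9, 13, 8] [.out 4242],
  .sub [5, 10, 13, 8] [.out 5584],
  .sub [6, 10, 13, 8] [.out 551],
  .sub [13, 10, 13, 8] [.out 4736],
  .sub [14, 10, 13, 8] [.out 2438],
  .sub [18, 10, 13, 8] [.out 6049],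
  .sub [0, 11, 13, 8] [.out 4608],
  .sub [2, 11, 13, 8] [.sub [5, 3, 4, 8, 5, 5, 3, 5, 3, 5, 3, 4, 8, 5, 5, 3, 5, 3, 5, 3] [.out 3202]],
  .sub [9, 11, 13, 8] [.out 4659],
  .sub [13, 11, 13, 8] [.out 1819],
  .sub [17, 11, 13, 8] [.out 4023],
  .sub [18, 11, 13, 8] [.out 5546],
  .sub [20, 11, 13, 8] [.out 1023],
  .sub [21, 11, 13, 8] [.sub [4, 8, 5, 5, 3, 4, 8, 5, 5, 3, 5, 3, 4, 8, 5, 5, 3, 4, 8, 5, 5, 3, 4, 8, 5, 5, 3, 5, 3, 4, 8, 5, 5, 3, 4, 8, 5, 5, 3, 4, 8, 5] [.out 1334]],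
  .sub [3, 12, 13, 8] [.out 1996],
  .sub [4, 12, 13, 8] [.out 1103],
  .sub [7, 12, 13, 8] [.out 4743],
  .sub [8, 12, 13, 8] [.out 5255],
  .sub [10, 12, 13, 8] [.out 4515],
  .sub [11, 12, 13, 8] [.sub [5, 3, 4, 8, 5, 5, 3, 4, 8, 5, 5, 3, 5, 3, 4, 8, 5, 5, 3, 4, 8, 5, 5, 3] [.out 5606]],
  .sub [12, 12, 13, 8] [.out 4229],
  .sub [14, 12, 13, 8] [.out 982],
  .sub [20, 12, 13, 8] [.sub [5, 3, 4, 8, 5, 5, 3, 5, 3, 4, 8, 5, 5, 3, 4, 8, 5, 5, 3, 5, 3, 4, 8, 5] [.out 1361]],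
  .sub [2, 13, 13, 8] [.out 4748],
  .sub [6, 13, 13, 8] [.out 617],
  .sub [7, 13, 13, 8] [.out 5346],
  .sub [10, 13, 13, 8] [.out 4020],
  .sub [11, 13, 13, 8] [.out 5782],
  .sub [18, 13, 13, 8] [.out 5245],
  .sub [21, 13, 13, 8] [.out 1938],
  .sub [17, 16, 13, 8] [.sub [4, 8, 5, 5, 3, 4, 8, 5, 5, 3, 4, 8, 5, 5, 3, 5, 3, 4, 8, 5, 5, 3, 5, 3, 5, 3, 4, 8, 5, 5, 3, 5, 3, 4, 8, 5, 5, 3] [.out 1038]],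
  .sub [19, 16, 13, 8] [.out 2051],
  .sub [8, 17, 13, 8] [.out 2282],
  .sub [11, 17, 13, 8] [.out 4142],
  .sub [12, 17, 13, 8] [.out 5048],
  .sub [1, 18, 13, 8] [.out 2309],
  .sub [4, 18, 13, 8] [.out 4033],
  .sub [8, 18, 13, 8] [.out 5244],
  .sub [9, 18, 13, 8] [.out 5115],
  .sub [11, 18, 13, 8] [.out 2081],
  .sub [12, 18, 13, 8] [.sub [5, 3, 4, 8, 5, 5, 3, 4, 8, 5, 5, 3, 5, 3, 4, 8, 5, 5, 3, 4, 8, 5, 5, 3, 5, 3, 5, 3, 4, 8, 5, 5, 3] [.out 3844]],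
  .sub [14, 18, 13, 8] [.out 526],
  .sub [4, 20, 13, 8] [.out 471],
  .sub [6, 20, 13, 8] [.out 2508],
  .sub [8, 21, 13, 8] [.out 3631],
  .sub [9, 21, 13, 8] [.out 3514],
  .sub [11, 21, 13, 8] [.out 5018],
  .sub [12, 21, 13, 8] [.out 826],
  .sub [14, 21, 13, 8] [.out 4142],
  .sub [17, 21, 13, 8] [.out 1467],
  .sub [4, 6, 14, 8] [.out 136],
  .sub [8, 6, 14, 8] [.sub [5, 3, 4, 8, 5, 5, 3, 4, 8, 5, 5, 3, 4, 8, 5, 5, 3, 5, 3, 5, 3] [.out 5287]],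
  .sub [11, 6, 14, 8] [.out 2972],
  .sub [17, 6, 14, 8] [.out 2584],
  .sub [6, 10, 14, 8] [.out 5814],
  .sub [12, 10, 14, 8] [.out 5666],
  .sub [21, 10, 14, 8] [.out 648],
  .sub [1, 11, 14, 8] [.out 3085],
  .sub [2, 11, 14, 8] [.out 2286],
  .sub [5, 11, 14, 8] [.out 2950],
  .sub [12, 11, 14, 8] [.out 2885],
  .sub [19, 11, 14, 8] [.out 5344],
  .sub [21, 11, 14, 8] [.out 5650],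
  .sub [2, 12, 14, 8] [.out 5358],
  .sub [3, 12, 14, 8] [.out 520],
  .sub [4, 12, 14, 8] [.out 2129],
  .sub [5, 12, 14, 8] [.out 128],
  .sub [9, 12, 14, 8] [.out 3334],
  .sub [17, 12, 14, 8] [.out 1003],
  .sub [18, 12, 14, 8] [.out 4265],
  .sub [2, 13, 14, 8] [.out 1775],
  .sub [3, 13, 14, 8] [.out 3357],
  .sub [5, 13, 14, 8] [.out 5268],
  .sub [8, 13, 14, 8] [.out 822],
  .sub [9, 13, 14, 8] [.out 3220],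
  .sub [10, 13, 14, 8] [.out 5034],
  .sub [11, 13, 14, 8] [.out 3058],
  .sub [12, 13, 14, 8] [.out 4084],
  .sub [13, 13, 14, 8] [.out 988],
  .sub [4, 14, 14, 8] [.out 6035],
  .sub [6, 14, 14, 8] [.sub [5, 3, 5, 3, 4, 8, 5, 5, 3, 4, 8, 5, 5, 3, 5, 3, 4, 8, 5, 5, 3, 5, 3, 5, 3] [.out 5266]],
  .sub [8, 14, 14, 8] [.out 2259],
  .sub [11, 14, 14, 8] [.out 5490],
  .sub [13, 14, 14, 8] [.out 4709],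
  .sub [14, 14, 14, 8] [.out 4661],
  .sub [0, 17, 14, 8] [.out 2930],
  .sub [14, 17, 14, 8] [.out 1081],
  .sub [21, 17, 14, 8] [.sub [5, 3, 5, 3, 4, 8, 5, 5, 3, 5, 3, 4, 8, 5, 5, 3] [.out 4732]],
  .sub [1, 18, 14, 8] [.out 638],
  .sub [6, 18, 14, 8] [.out 3762],
  .sub [8, 18, 14, 8] [.out 564],
  .sub [10, 18, 14, 8] [.out 2424],
  .sub [4, 21, 14, 8] [.out 1616],
  .sub [8, 21, 14, 8] [.out 333],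
  .sub [11, 21, 14, 8] [.out 5312],
  .sub [17, 21, 14, 8] [.sub [4, 8, 5, 5, 3, 5, 3, 5, 3, 4, 8, 5, 5, 3, 4, 8, 5, 5, 3, 5, 3, 5, 3, 4, 8, 5, 5, 3] [.out 815]],
  .sub [18, 21, 14, 8] [.out 2737],
  .sub [17, 2, 16, 8] [.out 4130],
  .sub [21, 2, 16, 8] [.out 1863],
  .sub [1, 4, 16, 8] [.out 5377],
  .sub [4, 4, 16, 8] [.out 5116],
  .sub [7, 4, 16, 8] [.out 5078],
  .sub [8, 4, 16, 8] [.sub [4, 8, 5, 5, 3, 4, 8, 5, 5, 3, 5, 3, 4, 8, 5, 5, 3, 4, 8, 5, 5, 3, 4, 8, 5, 5, 3, 5, 3, 5, 3, 4, 8, 5, 5, 3, 5, 3, 5, 3] [.out 3928]],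
  .sub [11, 4, 16, 8] [.out 87],
  .sub [18, 4, 16, 8] [.out 3554],
  .sub [19, 4, 16, 8] [.out 1590],
  .sub [21, 4, 16, 8] [.out 1523],
  .sub [4, 5, 16, 8] [.out 1684],
  .sub [8, 5, 16, 8] [.out 2033],
  .sub [13, 5, 16, 8] [.out 5499],
  .sub [21, 5, 16, 8] [.out 2186],
  .sub [4, 7, 16, 8] [.out 3193],
  .sub [9, 7, 16, 8] [.out 2261],
  .sub [11, 7, 16, 8] [.out 5227],
  .sub [12, 7, 16, 8] [.out 4863],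
  .sub [17, 7, 16, 8] [.out 2649],
  .sub [17, 8, 16, 8] [.out 4489],
  .sub [19, 8, 16, 8] [.sub [5, 3, 5, 3, 4, 8, 5, 5, 3, 5, 3, 5, 3, 4, 8, 5, 5, 3, 4, 8, 5] [.out 736]],
  .sub [20, 8, 16, 8] [.out 5293],
  .sub [21, 8, 16, 8] [.out 836],
  .sub [0, 9, 16, 8] [.out 1559],
  .sub [6, 9, 16, 8] [.out 4601],
  .sub [21, 9, 16, 8] [.out 4210],
  .sub [2, 11, 16, 8] [.out 1737],
  .sub [13, 11, 16, 8] [.out 127],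
  .sub [17, 11, 16, 8] [.out 2285],
  .sub [18, 11, 16, 8] [.out 1804],
  .sub [21, 11, 16, 8] [.out 4021],
  .sub [4, 16, 16, 8] [.out 203],
  .sub [5, 16, 16, 8] [.sub [4, 8, 5, 5, 3, 5, 3, 4, 8, 5, 5, 3, 4, 8, 5, 5, 3, 5, 3, 4, 8, 5, 5, 3, 5, 3, 4, 8, 5, 5, 3, 4, 8, 5, 5, 3, 4, 8, 5, 5, 3, 5, 3, 4, 8, 5] [.out 4606]],
  .sub [8, 16, 16, 8] [.out 209],
  .sub [21, 17, 16, 8] [.out 1898],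
  .sub [4, 18, 16, 8] [.out 5147],
  .sub [11, 18, 16, 8] [.out 4779],
  .sub [14, 18, 16, 8] [.out 688],
  .sub [11, 19, 16, 8] [.out 4323],
  .sub [14, 19, 16, 8] [.out 4824],
  .sub [8, 20, 16, 8] [.out 1095],
  .sub [5, 21, 16, 8] [.sub [4, 8, 5, 5, 3, 4, 8, 5, 5, 3, 4, 8, 5, 5, 3, 5, 3, 4, 8, 5, 5, 3, 5, 3, 5, 3, 4, 8, 5, 5, 3, 4, 8, 5, 5, 3] [.out 2177]],
  .sub [7, 21, 16, 8] [.out 5870],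
  .sub [8, 21, 16, 8] [.sub [4, 8, 5, 5, 3, 5, 3, 5, 3, 4, 8, 5, 5, 3, 5, 3, 4, 8, 5, 5, 3, 4, 8, 5, 5, 3, 5, 3, 5, 3, 4, 8, 5, 5, 3, 4, 8, 5, 5, 3, 5, 3] [.out 736]],
  .sub [9, 21, 16, 8] [.out 2173],
  .sub [11, 21, 16, 8] [.out 4145],
  .sub [12, 21, 16, 8] [.out 4283],
  .sub [18, 21, 16, 8] [.out 4538],
  .sub [19, 21, 16, 8] [.out 4573],
  .sub [1, 0, 17, 8] [.out 1139],
  .sub [8, 0, 17, 8] [.out 836],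
  .sub [11, 0, 17, 8] [.out 1882],
  .sub [14, 0, 17, 8] [.out 535],
  .sub [9, 1, 17, 8] [.out 368]]

/-- Branches. -/
def kidsXPart22 : List Branch := [
  .sub [2, 6, 17, 8] [.out 4243],
  .sub [4, 6, 17, 8] [.out 3840],
  .sub [5, 6, 17, 8] [.out 4309],
  .sub [9, 6, 17, 8] [.out 346],
  .sub [11, 6, 17, 8] [.out 4381],
  .sub [16, 6, 17, 8] [.out 3168],
  .sub [17, 6, 17, 8] [.out 1636],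
  .sub [1, 8, 17, 8] [.out 4287],
  .sub [18, 8, 17, 8] [.out 2900],
  .sub [21, 8, 17, 8] [.out 6070],
  .sub [0, 10, 17, 8] [.out 2819],
  .sub [2, 10, 17, 8] [.sub [5, 3, 5, 3, 4, 8, 5, 5, 3, 5, 3, 5, 3, 4, 8, 5, 5, 3, 4, 8, 5, 5, 3, 4, 8, 5, 5, 3, 5, 3] [.out 2183]],
  .sub [4, 10, 17, 8] [.sub [5, 3, 5, 3, 4, 8, 5, 5, 3, 5, 3] [.out 283]],
  .sub [9, 10, 17, 8] [.out 1014],
  .sub [11, 10, 17, 8] [.out 2474],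
  .sub [13, 10, 17, 8] [.out 4331],
  .sub [14, 10, 17, 8] [.out 5536],
  .sub [17, 10, 17, 8] [.out 5063],
  .sub [4, 11, 17, 8] [.out 2271],
  .sub [11, 11, 17, 8] [.sub [4, 8, 5, 5, 3, 4, 8, 5, 5, 3, 4, 8, 5, 5, 3, 4, 8, 5, 5, 3, 5, 3, 4, 8, 5, 5, 3, 5, 3, 5, 3, 4, 8, 5, 5, 3, 4, 8, 5, 5, 3, 5, 3] [.out 5511]],
  .sub [17, 11, 17, 8] [.out 5207],
  .sub [3, 13, 17, 8] [.out 2799],
  .sub [9, 13, 17, 8] [.out 3590],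
  .sub [11, 13, 17, 8] [.out 4387],
  .sub [12, 13, 17, 8] [.out 3209],
  .sub [17, 13, 17, 8] [.out 638],
  .sub [8, 14, 17, 8] [.out 361],
  .sub [10, 14, 17, 8] [.out 3040],
  .sub [12, 14, 17, 8] [.out 5032],
  .sub [17, 14, 17, 8] [.out 5241],
  .sub [21, 14, 17, 8] [.out 2629],
  .sub [8, 16, 17, 8] [.out 1062],
  .sub [18, 16, 17, 8] [.out 5048],
  .sub [0, 4, 18, 8] [.out 5507],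
  .sub [6, 4, 18, 8] [.out 4808],
  .sub [7, 4, 18, 8] [.out 4295],
  .sub [10, 4, 18, 8] [.out 3565],
  .sub [12, 4, 18, 8] [.out 2617],
  .sub [16, 4, 18, 8] [.out 5070],
  .sub [19, 4, 18, 8] [.out 2840],
  .sub [20, 4, 18, 8] [.sub [4, 8, 5, 5, 3, 4, 8, 5, 5, 3, 4, 8, 5, 5, 3, 5, 3, 4, 8, 5, 5, 3, 4, 8, 5, 5, 3, 5, 3, 5, 3] [.out 6047]],
  .sub [3, 6, 18, 8] [.out 5266],
  .sub [4, 6, 18, 8] [.out 4287],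
  .sub [5, 6, 18, 8] [.out 2561],
  .sub [7, 6, 18, 8] [.out 5139],
  .sub [8, 6, 18, 8] [.sub [5, 3, 5, 3, 4, 8, 5, 5, 3, 5, 3, 5, 3, 4, 8, 5, 5, 3, 4, 8, 5] [.out 2483]],
  .sub [9, 6, 18, 8] [.out 192],
  .sub [12, 6, 18, 8] [.out 5625],
  .sub [13, 6, 18, 8] [.out 657],
  .sub [18, 6, 18, 8] [.out 2821],
  .sub [6, 10, 18, 8] [.out 1994],
  .sub [13, 10, 18, 8] [.out 2248],
  .sub [0, 11, 18, 8] [.out 2278],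
  .sub [2, 11, 18, 8] [.sub [4, 8, 5, 5, 3, 4, 8, 5, 5, 3, 5, 3, 4, 8, 5, 5, 3, 4, 8, 5, 5, 3, 5, 3, 4, 8, 5, 5, 3, 4, 8, 5, 5, 3, 5, 3] [.out 5722]],
  .sub [6, 11, 18, 8] [.sub [5, 3, 5, 3, 4, 8, 5, 5, 3, 4, 8, 5, 5, 3, 5, 3, 4, 8, 5, 5, 3, 4, 8, 5, 5, 3, 5, 3, 5, 3, 4, 8, 5, 5, 3, 5, 3, 5, 3] [.out 4872]],
  .sub [9, 11, 18, 8] [.sub [5, 3, 5, 3, 5, 3, 4, 8, 5, 5, 3, 5, 3, 4, 8, 5, 5, 3, 4, 8, 5, 5, 3, 5, 3, 4, 8, 5, 5, 3, 5, 3, 5, 3, 4, 8, 5, 5, 3, 4, 8, 5, 5, 3, 5, 3, 4, 8, 5] [.out 5299]],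
  .sub [10, 11, 18, 8] [.out 2419],
  .sub [13, 11, 18, 8] [.out 1463],
  .sub [16, 11, 18, 8] [.out 2886],
  .sub [17, 11, 18, 8] [.out 3200],
  .sub [18, 11, 18, 8] [.out 5426],
  .sub [20, 11, 18, 8] [.out 1937],
  .sub [4, 12, 18, 8] [.out 942],
  .sub [8, 12, 18, 8] [.out 1711],
  .sub [11, 12, 18, 8] [.out 2145],
  .sub [19, 13, 18, 8] [.sub [4, 8, 5, 5, 3, 4, 8, 5, 5, 3, 5, 3, 4, 8, 5, 5, 3, 4, 8, 5, 5, 3, 4, 8, 5, 5, 3, 5, 3, 4, 8, 5, 5, 3, 4, 8, 5, 5, 3, 4, 8, 5] [.out 2215]],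
  .sub [4, 14, 18, 8] [.out 568],
  .sub [8, 14, 18, 8] [.sub [5, 3, 4, 8, 5, 5, 3, 5, 3, 5, 3, 4, 8, 5, 5, 3, 4, 8, 5, 5, 3, 5, 3, 4, 8, 5] [.out 730]],
  .sub [11, 21, 18, 8] [.out 5509],
  .sub [8, 0, 19, 8] [.sub [5, 3, 4, 8, 5, 5, 3, 5, 3, 4, 8, 5, 5, 3, 4, 8, 5, 5, 3, 5, 3, 4, 8, 5, 5, 3, 5, 3, 4, 8, 5, 5, 3, 4, 8, 5, 5, 3, 4, 8, 5, 5, 3, 5, 3, 4, 8, 5] [.out 1806]],
  .sub [5, 4, 19, 8] [.out 961],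
  .sub [8, 4, 19, 8] [.out 219],
  .sub [11, 4, 19, 8] [.sub [5, 3, 4, 8, 5, 5, 3, 4, 8, 5, 5, 3, 5, 3, 5, 3, 4, 8, 5, 5, 3, 4, 8, 5, 5, 3, 4, 8, 5] [.out 4271]],
  .sub [4, 6, 19, 8] [.out 830],
  .sub [5, 6, 19, 8] [.out 5460],
  .sub [7, 6, 19, 8] [.out 4960],
  .sub [8, 6, 19, 8] [.out 5972],
  .sub [11, 6, 19, 8] [.sub [5, 3, 4, 8, 5, 5, 3, 4, 8, 5, 5, 3, 4, 8, 5, 5, 3, 5, 3, 4, 8, 5, 5, 3, 5, 3, 4, 8, 5, 5, 3, 4, 8, 5, 5, 3] [.out 4606]],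
  .sub [16, 6, 19, 8] [.out 3308],
  .sub [17, 6, 19, 8] [.out 4406],
  .sub [19, 6, 19, 8] [.out 5044],
  .sub [3, 10, 19, 8] [.out 2620],
  .sub [5, 10, 19, 8] [.out 5908],
  .sub [9, 10, 19, 8] [.out 1697],
  .sub [11, 10, 19, 8] [.out 410],
  .sub [17, 10, 19, 8] [.out 4478],
  .sub [18, 10, 19, 8] [.out 3304],
  .sub [5, 6, 20, 8] [.out 4257],
  .sub [8, 6, 20, 8] [.out 1216],
  .sub [11, 6, 20, 8] [.out 2783],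
  .sub [12, 6, 20, 8] [.out 5817],
  .sub [18, 6, 20, 8] [.out 777],
  .sub [21, 6, 20, 8] [.out 4851],
  .sub [5, 16, 20, 8] [.out 2030],
  .sub [11, 16, 20, 8] [.out 2886],
  .sub [12, 16, 20, 8] [.out 3114],
  .sub [12, 1, 21, 8] [.out 5606],
  .sub [16, 1, 21, 8] [.out 3699],
  .sub [17, 1, 21, 8] [.out 5296],
  .sub [3, 4, 21, 8] [.out 3875],
  .sub [17, 4, 21, 8] [.sub [4, 8, 5, 5, 3, 4, 8, 5, 5, 3, 5, 3, 4, 8, 5, 5, 3, 5, 3, 5, 3, 4, 8, 5, 5, 3, 4, 8, 5] [.bad [3, 3, 2, 0, 3, 3, 2, 0, 3, 2, 0, 8, 3, 1, 3, 0, 2, 1, 0, 3, 3, 2, 0, 3, 3, 2, 0, 3, 3, 2, 0, 3, 2, 0, 8, 3, 1, 3, 0, 2, 1, 0, 3, 3, 2, 0, 3, 2, 0, 8, 3, 1, 3, 0, 2, 1, 0, 5, 3, 4, 8, 5, 5, 3, 5, 3, 4, 8, 5, 5, 3, 5, 3, 5, 3, 4, 8, 5, 5, 3, 5, 3] 1]],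
  .sub [2, 6, 21, 8] [.out 382],
  .sub [3, 6, 21, 8] [.out 210],
  .sub [9, 6, 21, 8] [.out 5108],
  .sub [11, 6, 21, 8] [.out 4190],
  .sub [12, 6, 21, 8] [.out 4877],
  .sub [13, 6, 21, 8] [.out 5761],
  .sub [18, 6, 21, 8] [.out 6003],
  .sub [19, 6, 21, 8] [.out 1064],
  .sub [20, 6, 21, 8] [.out 1464],
  .sub [4, 7, 21, 8] [.sub [5, 3, 4, 8, 5, 5, 3, 5, 3, 5, 3, 4, 8, 5, 5, 3, 5, 3, 4, 8, 5, 5, 3] [.out 2612]],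
  .sub [1, 8, 21, 8] [.out 1870],
  .sub [13, 8, 21, 8] [.out 4681],
  .sub [11, 9, 21, 8] [.out 1416],
  .sub [5, 11, 21, 8] [.out 3603],
  .sub [12, 11, 21, 8] [.out 4585],
  .sub [2, 16, 21, 8] [.out 362],
  .sub [4, 16, 21, 8] [.out 2442],
  .sub [5, 16, 21, 8] [.out 1678],
  .sub [10, 16, 21, 8] [.out 2813],
  .sub [12, 16, 21, 8] [.out 6000],
  .sub [13, 16, 21, 8] [.out 5531],
  .sub [18, 16, 21, 8] [.out 3350],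
  .sub [19, 16, 21, 8] [.out 3304],
  .sub [20, 16, 21, 8] [.out 5810],
  .sub [4, 6, 0, 11] [.out 3802],
  .sub [17, 6, 0, 11] [.out 1021],
  .sub [11, 7, 0, 11] [.out 1617],
  .sub [4, 6, 1, 11] [.sub [5, 3, 5, 3, 5, 3, 4, 8, 5, 5, 3, 5, 3, 4, 8, 5, 5, 3, 4, 8, 5, 5, 3, 5, 3] [.out 1338]],
  .sub [5, 6, 1, 11] [.out 1896],
  .sub [7, 6, 1, 11] [.out 3852],
  .sub [8, 6, 1, 11] [.out 3875],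
  .sub [11, 6, 1, 11] [.out 4762],
  .sub [12, 6, 1, 11] [.out 1361],
  .sub [19, 6, 1, 11] [.out 2372],
  .sub [21, 6, 1, 11] [.out 1043],
  .sub [4, 9, 1, 11] [.out 4700],
  .sub [3, 13, 1, 11] [.out 2109],
  .sub [4, 13, 1, 11] [.out 2714],
  .sub [9, 13, 1, 11] [.out 2461],
  .sub [18, 13, 1, 11] [.out 794],
  .sub [4, 18, 1, 11] [.out 658],
  .sub [8, 18, 1, 11] [.out 5949],
  .sub [11, 18, 1, 11] [.out 3697],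
  .sub [8, 19, 1, 11] [.out 125],
  .sub [9, 21, 1, 11] [.out 4140],
  .sub [12, 21, 1, 11] [.out 2348],
  .sub [4, 3, 2, 11] [.sub [5, 3, 4, 8, 5, 5, 3, 4, 8, 5, 5, 3, 5, 3, 4, 8, 5, 5, 3, 4, 8, 5, 5, 3, 5, 3] [.out 5065]],
  .sub [2, 4, 2, 11] [.out 3620],
  .sub [3, 4, 2, 11] [.sub [4, 8, 5, 5, 3, 4, 8, 5, 5, 3, 5, 3, 4, 8, 5, 5, 3, 4, 8, 5, 5, 3, 5, 3, 5, 3, 4, 8, 5, 5, 3, 4, 8, 5] [.out 5570]],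
  .sub [5, 4, 2, 11] [.out 4594],
  .sub [12, 4, 2, 11] [.out 1531],
  .sub [17, 4, 2, 11] [.out 1024],
  .sub [18, 4, 2, 11] [.out 4396],
  .sub [19, 4, 2, 11] [.out 5695],
  .sub [20, 4, 2, 11] [.out 519],
  .sub [21, 4, 2, 11] [.out 299],
  .sub [2, 6, 2, 11] [.out 3488],
  .sub [21, 6, 2, 11] [.sub [5, 3, 5, 3, 4, 8, 5, 5, 3, 4, 8, 5, 5, 3, 5, 3, 4, 8, 5, 5, 3, 4, 8, 5, 5, 3, 5, 3, 4, 8, 5, 5, 3, 5, 3, 4, 8, 5] [.out 582]],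
  .sub [6, 8, 2, 11] [.out 707],
  .sub [13, 8, 2, 11] [.out 3131],
  .sub [4, 19, 2, 11] [.sub [4, 8, 5, 5, 3, 5, 3, 5, 3, 4, 8, 5, 5, 3, 4, 8, 5, 5, 3, 4, 8, 5, 5, 3] [.out 4271]],
  .sub [11, 19, 2, 11] [.out 1085],
  .sub [1, 21, 2, 11] [.out 6002],
  .sub [6, 21, 2, 11] [.out 598],
  .sub [14, 21, 2, 11] [.out 2843],
  .sub [16, 21, 2, 11] [.out 5784],
  .sub [4, 6, 3, 11] [.out 4119],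
  .sub [5, 6, 3, 11] [.out 2723],
  .sub [11, 10, 3, 11] [.out 1749],
  .sub [12, 10, 3, 11] [.sub [5, 3, 5, 3, 5, 3, 4, 8, 5, 5, 3, 5, 3, 4, 8, 5, 5, 3, 4, 8, 5, 5, 3, 5, 3, 4, 8, 5, 5, 3, 5, 3, 5, 3, 4, 8, 5, 5, 3, 4, 8, 5, 5, 3, 5, 3, 4, 8, 5] [.out 3409]],
  .sub [14, 18, 3, 11] [.out 1928],
  .sub [4, 21, 3, 11] [.out 159],
  .sub [8, 21, 3, 11] [.out 4377],
  .sub [11, 21, 3, 11] [.out 2813],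
  .sub [4, 2, 4, 11] [.out 3083],
  .sub [0, 4, 4, 11] [.out 2790],
  .sub [2, 4, 4, 11] [.out 4582],
  .sub [3, 4, 4, 11] [.out 2906],
  .sub [6, 4, 4, 11] [.out 4285],
  .sub [7, 4, 4, 11] [.out 2555],
  .sub [8, 4, 4, 11] [.out 3833],
  .sub [9, 4, 4, 11] [.sub [5, 3, 5, 3, 5, 3, 4, 8, 5, 5, 3, 4, 8, 5, 5, 3, 5, 3, 4, 8, 5, 5, 3, 5, 3] [.out 503]],
  .sub [10, 4, 4, 11] [.out 2347],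
  .sub [11, 4, 4, 11] [.out 3574],
  .sub [12, 4, 4, 11] [.out 5698],
  .sub [13, 4, 4, 11] [.out 2885],
  .sub [14, 4, 4, 11] [.out 1433],
  .sub [19, 4, 4, 11] [.out 796],
  .sub [11, 5, 4, 11] [.out 5566],
  .sub [6, 7, 4, 11] [.out 5432],
  .sub [6, 8, 4, 11] [.out 1680]]

/-- Branches. -/
def kidsXPart23 : List Branch := [
  .sub [7, 8, 4, 11] [.out 2333],
  .sub [16, 8, 4, 11] [.out 5935],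
  .sub [18, 8, 4, 11] [.out 1184],
  .sub [4, 9, 4, 11] [.out 2792],
  .sub [6, 9, 4, 11] [.out 4980],
  .sub [11, 9, 4, 11] [.sub [4, 8, 5, 5, 3, 5, 3, 4, 8, 5, 5, 3, 4, 8, 5, 5, 3, 5, 3, 5, 3, 4, 8, 5, 5, 3, 5, 3, 4, 8, 5, 5, 3, 4, 8, 5, 5, 3, 4, 8, 5] [.out 4271]],
  .sub [5, 10, 4, 11] [.out 4851],
  .sub [8, 10, 4, 11] [.out 5013],
  .sub [11, 10, 4, 11] [.out 5342],
  .sub [17, 10, 4, 11] [.out 2646],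
  .sub [10, 13, 4, 11] [.out 4933],
  .sub [0, 17, 4, 11] [.out 5415],
  .sub [1, 17, 4, 11] [.out 1668],
  .sub [4, 17, 4, 11] [.sub [5, 3, 5, 3, 5, 3, 4, 8, 5, 5, 3, 4, 8, 5, 5, 3, 5, 3, 5, 3, 4, 8, 5, 5, 3] [.out 5854]],
  .sub [10, 17, 4, 11] [.out 4703],
  .sub [11, 17, 4, 11] [.out 3375],
  .sub [4, 19, 4, 11] [.out 5867],
  .sub [11, 20, 4, 11] [.out 116],
  .sub [6, 21, 4, 11] [.out 5072],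
  .sub [8, 21, 4, 11] [.out 2334],
  .sub [1, 4, 5, 11] [.out 608],
  .sub [2, 4, 5, 11] [.out 1439],
  .sub [3, 4, 5, 11] [.out 4204],
  .sub [6, 4, 5, 11] [.out 839],
  .sub [8, 4, 5, 11] [.out 2192],
  .sub [10, 4, 5, 11] [.out 3998],
  .sub [12, 4, 5, 11] [.out 501],
  .sub [14, 4, 5, 11] [.sub [4, 8, 5, 5, 3, 5, 3, 4, 8, 5, 5, 3, 4, 8, 5, 5, 3, 5, 3, 5, 3, 4, 8, 5, 5, 3, 4, 8, 5] [.out 3551]],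
  .sub [17, 4, 5, 11] [.sub [5, 3, 5, 3, 4, 8, 5, 5, 3, 5, 3, 4, 8, 5, 5, 3, 4, 8, 5, 5, 3, 5, 3, 5, 3, 4, 8, 5, 5, 3, 4, 8, 5, 5, 3] [.out 1419]],
  .sub [18, 4, 5, 11] [.out 4922],
  .sub [19, 4, 5, 11] [.out 267],
  .sub [20, 4, 5, 11] [.out 4924],
  .sub [5, 6, 5, 11] [.out 1503],
  .sub [11, 6, 5, 11] [.sub [4, 8, 5, 5, 3, 4, 8, 5, 5, 3, 5, 3, 4, 8, 5, 5, 3] [.out 4798]],
  .sub [12, 6, 5, 11] [.out 3405],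
  .sub [0, 8, 5, 11] [.out 3700],
  .sub [16, 8, 5, 11] [.out 2938],
  .sub [5, 10, 5, 11] [.out 6052],
  .sub [8, 10, 5, 11] [.out 4945],
  .sub [12, 10, 5, 11] [.out 4489],
  .sub [0, 11, 5, 11] [.out 2741],
  .sub [1, 11, 5, 11] [.out 5306],
  .sub [2, 11, 5, 11] [.out 828],
  .sub [5, 11, 5, 11] [.sub [4, 8, 5, 5, 3, 5, 3, 4, 8, 5, 5, 3, 5, 3, 5, 3, 4, 8, 5, 5, 3, 4, 8, 5, 5, 3, 5, 3, 5, 3, 4, 8, 5, 5, 3, 5, 3, 4, 8, 5, 5, 3] [.out 4526]],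
  .sub [6, 11, 5, 11] [.out 2480],
  .sub [16, 11, 5, 11] [.out 5865],
  .sub [19, 11, 5, 11] [.out 2980],
  .sub [20, 11, 5, 11] [.out 4072],
  .sub [12, 12, 5, 11] [.out 1941],
  .sub [4, 13, 5, 11] [.out 4900],
  .sub [8, 13, 5, 11] [.out 5877],
  .sub [12, 14, 5, 11] [.sub [5, 3, 5, 3, 4, 8, 5, 5, 3, 4, 8, 5, 5, 3, 5, 3, 5, 3, 4, 8, 5, 5, 3, 4, 8, 5, 5, 3] [.out 5819]],
  .sub [14, 14, 5, 11] [.out 4995],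
  .sub [4, 18, 5, 11] [.out 5524],
  .sub [6, 18, 5, 11] [.out 1864],
  .sub [8, 18, 5, 11] [.out 3556],
  .sub [11, 18, 5, 11] [.out 5730],
  .sub [4, 2, 6, 11] [.sub [4, 8, 5, 5, 3, 4, 8, 5, 5, 3, 5, 3, 5, 3, 4, 8, 5, 5, 3, 4, 8, 5, 5, 3, 5, 3, 4, 8, 5] [.out 463]],
  .sub [11, 2, 6, 11] [.out 2118],
  .sub [0, 4, 6, 11] [.out 1524],
  .sub [1, 4, 6, 11] [.out 767],
  .sub [5, 4, 6, 11] [.out 3224],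
  .sub [6, 4, 6, 11] [.out 2115],
  .sub [13, 4, 6, 11] [.out 5164],
  .sub [14, 4, 6, 11] [.out 4241],
  .sub [10, 5, 6, 11] [.out 4155],
  .sub [13, 5, 6, 11] [.out 991],
  .sub [11, 7, 6, 11] [.sub [4, 8, 5, 5, 3, 4, 8, 5, 5, 3, 4, 8, 5, 5, 3, 5, 3, 4, 8, 5, 5, 3, 4, 8, 5, 5, 3, 5, 3, 4, 8, 5, 5, 3, 5, 3, 4, 8, 5] [.out 5321]],
  .sub [12, 7, 6, 11] [.out 4566],
  .sub [17, 7, 6, 11] [.out 5580],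
  .sub [9, 8, 6, 11] [.out 2271],
  .sub [13, 8, 6, 11] [.out 2562],
  .sub [1, 9, 6, 11] [.out 1756],
  .sub [19, 9, 6, 11] [.out 141],
  .sub [2, 11, 6, 11] [.out 4130],
  .sub [9, 11, 6, 11] [.out 3490],
  .sub [10, 11, 6, 11] [.out 5291],
  .sub [12, 11, 6, 11] [.out 5074],
  .sub [17, 11, 6, 11] [.out 1178],
  .sub [18, 11, 6, 11] [.out 5609],
  .sub [19, 11, 6, 11] [.out 1958],
  .sub [20, 11, 6, 11] [.out 1376],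
  .sub [0, 12, 6, 11] [.out 1379],
  .sub [8, 12, 6, 11] [.out 702],
  .sub [9, 12, 6, 11] [.out 4309],
  .sub [13, 12, 6, 11] [.out 4329],
  .sub [18, 12, 6, 11] [.out 293],
  .sub [19, 12, 6, 11] [.out 3084],
  .sub [10, 13, 6, 11] [.out 3538],
  .sub [16, 17, 6, 11] [.out 638],
  .sub [5, 18, 6, 11] [.out 5438],
  .sub [8, 18, 6, 11] [.out 3127],
  .sub [11, 18, 6, 11] [.out 4629],
  .sub [4, 19, 6, 11] [.out 2950],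
  .sub [5, 19, 6, 11] [.out 1755],
  .sub [8, 19, 6, 11] [.out 1523],
  .sub [11, 19, 6, 11] [.out 683],
  .sub [4, 20, 6, 11] [.out 1310],
  .sub [6, 20, 6, 11] [.out 5924],
  .sub [8, 20, 6, 11] [.out 2785],
  .sub [11, 20, 6, 11] [.sub [4, 8, 5, 5, 3, 4, 8, 5, 5, 3, 4, 8, 5, 5, 3, 4, 8, 5, 5, 3, 5, 3, 4, 8, 5, 5, 3] [.out 4327]],
  .sub [11, 21, 6, 11] [.out 530],
  .sub [2, 4, 7, 11] [.out 5368],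
  .sub [4, 4, 7, 11] [.out 2804],
  .sub [7, 4, 7, 11] [.out 5237],
  .sub [8, 4, 7, 11] [.out 3358],
  .sub [11, 4, 7, 11] [.out 2209],
  .sub [12, 4, 7, 11] [.out 4868],
  .sub [13, 4, 7, 11] [.out 3278],
  .sub [17, 4, 7, 11] [.out 5211],
  .sub [19, 4, 7, 11] [.sub [5, 3, 5, 3, 4, 8, 5, 5, 3, 4, 8, 5, 5, 3, 5, 3, 4, 8, 5, 5, 3, 4, 8, 5, 5, 3, 5, 3, 5, 3, 4, 8, 5, 5, 3] [.out 3925]],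
  .sub [5, 6, 7, 11] [.out 3973],
  .sub [19, 6, 7, 11] [.out 1927],
  .sub [5, 11, 7, 11] [.out 5926],
  .sub [11, 11, 7, 11] [.out 3791],
  .sub [21, 11, 7, 11] [.sub [5, 3, 4, 8, 5, 5, 3, 4, 8, 5, 5, 3, 5, 3, 4, 8, 5, 5, 3, 4, 8, 5, 5, 3] [.out 4137]],
  .sub [4, 12, 7, 11] [.out 1629],
  .sub [8, 12, 7, 11] [.out 719],
  .sub [4, 14, 7, 11] [.out 6139],
  .sub [8, 14, 7, 11] [.out 4135],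
  .sub [11, 14, 7, 11] [.out 4687],
  .sub [17, 14, 7, 11] [.out 2187],
  .sub [6, 17, 7, 11] [.out 5586],
  .sub [11, 17, 7, 11] [.out 3405],
  .sub [6, 18, 7, 11] [.out 916],
  .sub [19, 1, 9, 11] [.out 366],
  .sub [4, 4, 9, 11] [.out 2348],
  .sub [5, 4, 9, 11] [.out 4710],
  .sub [7, 4, 9, 11] [.out 2695],
  .sub [10, 4, 9, 11] [.out 4189],
  .sub [11, 4, 9, 11] [.out 2629],
  .sub [13, 4, 9, 11] [.out 2690],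
  .sub [18, 4, 9, 11] [.out 772],
  .sub [19, 4, 9, 11] [.out 4167],
  .sub [5, 16, 9, 11] [.out 492],
  .sub [8, 16, 9, 11] [.out 4317],
  .sub [8, 2, 10, 11] [.out 4700],
  .sub [12, 2, 10, 11] [.out 2122],
  .sub [1, 3, 10, 11] [.out 5529],
  .sub [4, 3, 10, 11] [.out 1416],
  .sub [11, 3, 10, 11] [.out 5998],
  .sub [21, 3, 10, 11] [.out 4721],
  .sub [17, 4, 10, 11] [.sub [4, 8, 5, 5, 3, 5, 3, 4, 8, 5, 5, 3, 5, 3, 5, 3, 4, 8, 5, 5, 3, 4, 8, 5, 5, 3, 5, 3, 4, 8, 5] [.out 4792]],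
  .sub [19, 4, 10, 11] [.out 3257],
  .sub [1, 5, 10, 11] [.out 4168],
  .sub [3, 5, 10, 11] [.out 425],
  .sub [8, 5, 10, 11] [.out 1165],
  .sub [10, 5, 10, 11] [.sub [4, 8, 5, 5, 3, 5, 3, 4, 8, 5, 5, 3, 4, 8, 5, 5, 3, 5, 3] [.out 4606]],
  .sub [11, 5, 10, 11] [.out 3337],
  .sub [12, 5, 10, 11] [.out 5473],
  .sub [13, 5, 10, 11] [.out 2855],
  .sub [21, 5, 10, 11] [.sub [5, 3, 4, 8, 5, 5, 3, 5, 3, 4, 8, 5, 5, 3, 5, 3] [.out 4766]],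
  .sub [3, 6, 10, 11] [.out 5998],
  .sub [5, 6, 10, 11] [.out 2208],
  .sub [9, 6, 10, 11] [.out 2058],
  .sub [11, 6, 10, 11] [.out 731],
  .sub [12, 6, 10, 11] [.sub [5, 3, 5, 3, 4, 8, 5, 5, 3, 4, 8, 5, 5, 3, 5, 3, 4, 8, 5, 5, 3, 4, 8, 5, 5, 3, 5, 3] [.out 1238]],
  .sub [8, 7, 10, 11] [.sub [5, 3, 4, 8, 5, 5, 3, 4, 8, 5, 5, 3, 5, 3, 4, 8, 5, 5, 3, 4, 8, 5, 5, 3, 5, 3] [.out 5065]],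
  .sub [12, 7, 10, 11] [.out 309],
  .sub [21, 7, 10, 11] [.out 5571],
  .sub [0, 8, 10, 11] [.out 3276],
  .sub [2, 8, 10, 11] [.out 1031],
  .sub [9, 8, 10, 11] [.out 1249],
  .sub [12, 8, 10, 11] [.out 2449],
  .sub [14, 8, 10, 11] [.out 2540],
  .sub [16, 8, 10, 11] [.out 3825],
  .sub [18, 8, 10, 11] [.out 2012],
  .sub [19, 8, 10, 11] [.sub [5, 3, 5, 3, 5, 3, 4, 8, 5, 5, 3, 5, 3, 4, 8, 5, 5, 3, 4, 8, 5, 5, 3, 5, 3, 4, 8, 5, 5, 3, 5, 3] [.out 1238]],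
  .sub [20, 8, 10, 11] [.out 4818],
  .sub [4, 9, 10, 11] [.out 1685],
  .sub [6, 9, 10, 11] [.sub [5, 3, 4, 8, 5, 5, 3, 5, 3, 4, 8, 5, 5, 3, 4, 8, 5, 5, 3, 5, 3, 4, 8, 5, 5, 3, 4, 8, 5, 5, 3, 5, 3, 4, 8, 5, 5, 3, 5, 3, 4, 8, 5] [.out 4811]],
  .sub [3, 10, 10, 11] [.out 6060],
  .sub [5, 10, 10, 11] [.out 5737],
  .sub [9, 10, 10, 11] [.out 2394],
  .sub [12, 10, 10, 11] [.sub [4, 8, 5, 5, 3, 4, 8, 5, 5, 3, 4, 8, 5, 5, 3, 4, 8, 5, 5, 3, 5, 3, 4, 8, 5, 5, 3, 5, 3, 5, 3, 4, 8, 5, 5, 3, 4, 8, 5] [.out 4875]],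
  .sub [12, 11, 10, 11] [.out 1367],
  .sub [16, 11, 10, 11] [.out 2635],
  .sub [19, 11, 10, 11] [.sub [5, 3, 5, 3, 5, 3, 4, 8, 5, 5, 3, 4, 8, 5] [.out 5562]],
  .sub [21, 11, 10, 11] [.out 596],
  .sub [8, 12, 10, 11] [.out 4197],
  .sub [10, 12, 10, 11] [.out 4801],
  .sub [8, 14, 10, 11] [.out 3603],
  .sub [5, 21, 10, 11] [.sub [4, 8, 5, 5, 3, 4, 8, 5, 5, 3, 5, 3, 4, 8, 5, 5, 3, 5, 3, 4, 8, 5] [.out 3482]],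
  .sub [7, 21, 10, 11] [.out 159],
  .sub [12, 21, 10, 11] [.out 2000],
  .sub [12, 2, 12, 11] [.sub [4, 8, 5, 5, 3, 4, 8, 5, 5, 3, 4, 8, 5, 5, 3, 5, 3, 4, 8, 5, 5, 3, 5, 3, 4, 8, 5, 5, 3, 4, 8, 5, 5, 3, 4, 8, 5] [.out 5996]],
  .sub [0, 4, 12, 11] [.out 5014],
  .sub [1, 4, 12, 11] [.out 3937],
  .sub [4, 4, 12, 11] [.out 1338],
  .sub [5, 4, 12, 11] [.out 5933],
  .sub [6, 4, 12, 11] [.out 1738],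
  .sub [7, 4, 12, 11] [.out 5205]]

/-- Branches. -/
def kidsXPart24 : List Branch := [
  .sub [11, 4, 12, 11] [.out 3539],
  .sub [16, 4, 12, 11] [.out 3580],
  .sub [17, 4, 12, 11] [.sub [5, 3, 5, 3, 4, 8, 5, 5, 3, 5, 3, 4, 8, 5, 5, 3, 4, 8, 5, 5, 3, 5, 3, 4, 8, 5, 5, 3, 5, 3] [.out 4942]],
  .sub [18, 4, 12, 11] [.out 1459],
  .sub [19, 4, 12, 11] [.sub [4, 8, 5, 5, 3, 5, 3, 5, 3, 4, 8, 5, 5, 3, 5, 3, 4, 8, 5, 5, 3, 4, 8, 5, 5, 3, 5, 3, 4, 8, 5, 5, 3, 4, 8, 5, 5, 3, 4, 8, 5] [.out 1214]],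
  .sub [4, 5, 12, 11] [.out 5141],
  .sub [6, 5, 12, 11] [.out 5338],
  .sub [11, 5, 12, 11] [.sub [5, 3, 5, 3, 4, 8, 5, 5, 3, 5, 3, 4, 8, 5, 5, 3, 4, 8, 5, 5, 3, 4, 8, 5, 5, 3, 5, 3, 5, 3, 4, 8, 5, 5, 3] [.out 1743]],
  .sub [14, 5, 12, 11] [.out 3999],
  .sub [4, 7, 12, 11] [.out 4812],
  .sub [12, 7, 12, 11] [.out 2458],
  .sub [0, 8, 12, 11] [.sub [5, 3, 5, 3, 5, 3, 4, 8, 5, 5, 3, 4, 8, 5, 5, 3, 5, 3, 4, 8, 5] [.out 2049]],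
  .sub [1, 8, 12, 11] [.out 2122],
  .sub [6, 8, 12, 11] [.sub [5, 3, 4, 8, 5, 5, 3, 4, 8, 5] [.out 3554]],
  .sub [14, 8, 12, 11] [.out 3933],
  .sub [17, 8, 12, 11] [.out 3291],
  .sub [18, 8, 12, 11] [.out 1156],
  .sub [21, 8, 12, 11] [.out 860],
  .sub [4, 9, 12, 11] [.out 161],
  .sub [16, 9, 12, 11] [.sub [4, 8, 5, 5, 3, 4, 8, 5, 5, 3, 5, 3, 4, 8, 5, 5, 3, 5, 3, 5, 3, 4, 8, 5, 5, 3, 4, 8, 5, 5, 3, 5, 3] [.out 4271]],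
  .sub [5, 10, 12, 11] [.out 808],
  .sub [0, 11, 12, 11] [.out 576],
  .sub [2, 11, 12, 11] [.out 5370],
  .sub [5, 11, 12, 11] [.out 2736],
  .sub [9, 11, 12, 11] [.out 2676],
  .sub [10, 11, 12, 11] [.out 683],
  .sub [13, 11, 12, 11] [.out 4955],
  .sub [16, 11, 12, 11] [.out 5405],
  .sub [17, 11, 12, 11] [.out 4119],
  .sub [18, 11, 12, 11] [.out 4601],
  .sub [19, 11, 12, 11] [.out 3760],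
  .sub [20, 11, 12, 11] [.out 3962],
  .sub [21, 11, 12, 11] [.out 1845],
  .sub [8, 12, 12, 11] [.out 608],
  .sub [11, 12, 12, 11] [.out 2641],
  .sub [18, 12, 12, 11] [.out 1863],
  .sub [21, 12, 12, 11] [.out 1053],
  .sub [8, 13, 12, 11] [.sub [5, 3, 4, 8, 5, 5, 3, 5, 3, 4, 8, 5, 5, 3, 5, 3] [.out 3597]],
  .sub [11, 13, 12, 11] [.out 5892],
  .sub [3, 18, 12, 11] [.out 5480],
  .sub [5, 18, 12, 11] [.out 4948],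
  .sub [6, 18, 12, 11] [.out 4345],
  .sub [11, 18, 12, 11] [.out 1401],
  .sub [14, 19, 12, 11] [.out 1137],
  .sub [5, 21, 12, 11] [.out 5498],
  .sub [4, 2, 13, 11] [.sub [5, 3, 5, 3, 4, 8, 5, 5, 3, 5, 3, 4, 8, 5, 5, 3, 4, 8, 5, 5, 3, 5, 3] [.out 4980]],
  .sub [8, 2, 13, 11] [.out 1097],
  .sub [11, 3, 13, 11] [.out 4109],
  .sub [2, 4, 13, 11] [.out 3940],
  .sub [3, 4, 13, 11] [.out 1122],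
  .sub [4, 4, 13, 11] [.out 3876],
  .sub [5, 4, 13, 11] [.out 4814],
  .sub [6, 4, 13, 11] [.out 4866],
  .sub [11, 4, 13, 11] [.out 651],
  .sub [17, 4, 13, 11] [.out 188],
  .sub [19, 4, 13, 11] [.sub [5, 3, 4, 8, 5, 5, 3, 5, 3, 5, 3, 4, 8, 5, 5, 3, 4, 8, 5, 5, 3, 5, 3, 4, 8, 5, 5, 3, 5, 3, 5, 3] [.out 5220]],
  .sub [21, 4, 13, 11] [.out 3087],
  .sub [0, 8, 13, 11] [.out 2697],
  .sub [3, 10, 13, 11] [.out 3810],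
  .sub [4, 10, 13, 11] [.out 3720],
  .sub [5, 10, 13, 11] [.out 1172],
  .sub [8, 10, 13, 11] [.out 2904],
  .sub [11, 10, 13, 11] [.out 227],
  .sub [17, 10, 13, 11] [.out 3703],
  .sub [6, 11, 13, 11] [.out 3832],
  .sub [9, 11, 13, 11] [.out 2985],
  .sub [10, 11, 13, 11] [.out 3495],
  .sub [13, 11, 13, 11] [.out 2328],
  .sub [16, 11, 13, 11] [.out 3600],
  .sub [21, 11, 13, 11] [.out 4129],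
  .sub [4, 12, 13, 11] [.out 4255],
  .sub [8, 12, 13, 11] [.out 3979],
  .sub [11, 12, 13, 11] [.out 1633],
  .sub [12, 12, 13, 11] [.out 3461],
  .sub [4, 13, 13, 11] [.out 180],
  .sub [8, 16, 16, 11] [.out 6089],
  .sub [11, 16, 16, 11] [.out 768],
  .sub [8, 0, 17, 11] [.sub [4, 8, 5, 5, 3, 5, 3, 5, 3, 4, 8, 5, 5, 3, 4, 8, 5, 5, 3, 4, 8, 5, 5, 3, 5, 3, 5, 3] [.out 1419]],
  .sub [17, 4, 17, 11] [.out 5727],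
  .sub [18, 4, 17, 11] [.out 3567],
  .sub [19, 4, 17, 11] [.sub [4, 8, 5, 5, 3, 4, 8, 5, 5, 3, 4, 8, 5, 5, 3, 5, 3, 5, 3, 4, 8, 5, 5, 3, 5, 3, 5, 3] [.out 319]],
  .sub [21, 4, 17, 11] [.out 3131],
  .sub [4, 5, 17, 11] [.out 2182],
  .sub [11, 5, 17, 11] [.out 4131],
  .sub [2, 8, 17, 11] [.out 5543],
  .sub [13, 8, 17, 11] [.out 1874],
  .sub [4, 10, 17, 11] [.sub [5, 3, 4, 8, 5, 5, 3, 4, 8, 5, 5, 3, 5, 3, 4, 8, 5, 5, 3, 4, 8, 5] [.out 3112]],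
  .sub [5, 10, 17, 11] [.out 2760],
  .sub [9, 10, 17, 11] [.out 2523],
  .sub [11, 10, 17, 11] [.out 336],
  .sub [12, 10, 17, 11] [.out 195],
  .sub [4, 14, 17, 11] [.out 1823],
  .sub [11, 14, 17, 11] [.out 157],
  .sub [3, 1, 18, 11] [.out 2177],
  .sub [5, 1, 18, 11] [.out 4801],
  .sub [3, 4, 18, 11] [.out 2982],
  .sub [19, 4, 18, 11] [.sub [5, 3, 5, 3, 5, 3, 4, 8, 5, 5, 3, 4, 8, 5, 5, 3, 5, 3, 4, 8, 5, 5, 3, 4, 8, 5, 5, 3, 4, 8, 5, 5, 3, 5, 3, 4, 8, 5, 5, 3, 4, 8, 5] [.out 3041]],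
  .sub [4, 5, 18, 11] [.out 2440],
  .sub [11, 5, 18, 11] [.out 1810],
  .sub [4, 6, 18, 11] [.out 2454],
  .sub [5, 6, 18, 11] [.out 1296],
  .sub [8, 6, 18, 11] [.out 4396],
  .sub [7, 8, 18, 11] [.sub [4, 8, 5, 5, 3, 4, 8, 5, 5, 3, 5, 3, 4, 8, 5, 5, 3, 4, 8, 5, 5, 3, 4, 8, 5, 5, 3, 5, 3] [.out 788]],
  .sub [10, 8, 18, 11] [.out 4260],
  .sub [19, 8, 18, 11] [.out 4684],
  .sub [20, 8, 18, 11] [.out 3450],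
  .sub [4, 10, 18, 11] [.out 3127],
  .sub [6, 10, 18, 11] [.out 709],
  .sub [4, 11, 18, 11] [.out 1355],
  .sub [7, 11, 18, 11] [.out 2525],
  .sub [8, 13, 18, 11] [.out 1324],
  .sub [11, 13, 18, 11] [.sub [4, 8, 5, 5, 3, 5, 3, 4, 8, 5, 5, 3, 5, 3, 5, 3, 4, 8, 5, 5, 3, 5, 3, 4, 8, 5, 5, 3, 4, 8, 5, 5, 3, 4, 8, 5] [.out 5606]],
  .sub [3, 14, 18, 11] [.out 4935],
  .sub [4, 14, 18, 11] [.out 2587],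
  .sub [5, 14, 18, 11] [.out 348],
  .sub [8, 14, 18, 11] [.out 3180],
  .sub [11, 14, 18, 11] [.out 3856],
  .sub [20, 14, 18, 11] [.out 3578],
  .sub [4, 21, 18, 11] [.out 4006],
  .sub [6, 21, 18, 11] [.out 4554],
  .sub [11, 21, 18, 11] [.out 5301],
  .sub [4, 0, 19, 11] [.out 1182],
  .sub [8, 0, 19, 11] [.sub [5, 3, 4, 8, 5, 5, 3, 5, 3, 4, 8, 5, 5, 3, 4, 8, 5, 5, 3, 5, 3, 4, 8, 5, 5, 3, 5, 3, 5, 3, 4, 8, 5, 5, 3, 4, 8, 5] [.out 4140]],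
  .sub [11, 0, 19, 11] [.out 1102],
  .sub [6, 4, 19, 11] [.out 4624],
  .sub [14, 4, 19, 11] [.out 3288],
  .sub [19, 4, 19, 11] [.out 5543],
  .sub [5, 6, 19, 11] [.out 3798],
  .sub [8, 6, 19, 11] [.out 1911],
  .sub [12, 6, 19, 11] [.out 5676],
  .sub [2, 11, 19, 11] [.out 1862],
  .sub [3, 11, 19, 11] [.sub [5, 3, 4, 8, 5, 5, 3, 4, 8, 5, 5, 3, 5, 3, 4, 8, 5, 5, 3, 4, 8, 5, 5, 3, 4, 8, 5, 5, 3, 5, 3, 4, 8, 5, 5, 3, 4, 8, 5] [.out 824]],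
  .sub [6, 11, 19, 11] [.sub [5, 3, 5, 3, 5, 3, 4, 8, 5, 5, 3, 5, 3, 4, 8, 5, 5, 3, 4, 8, 5, 5, 3, 5, 3, 5, 3, 4, 8, 5, 5, 3, 4, 8, 5, 5, 3, 5, 3] [.out 3782]],
  .sub [7, 11, 19, 11] [.out 5329],
  .sub [9, 11, 19, 11] [.out 3117],
  .sub [12, 11, 19, 11] [.out 3954],
  .sub [13, 11, 19, 11] [.out 5909],
  .sub [16, 11, 19, 11] [.sub [4, 8, 5, 5, 3, 4, 8, 5, 5, 3, 5, 3, 4, 8, 5, 5, 3, 5, 3, 5, 3, 4, 8, 5, 5, 3, 5, 3, 4, 8, 5, 5, 3, 4, 8, 5, 5, 3, 5, 3, 5, 3] [.out 2291]],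
  .sub [18, 11, 19, 11] [.out 391],
  .sub [4, 16, 19, 11] [.out 3803],
  .sub [8, 16, 19, 11] [.out 3661],
  .sub [4, 6, 20, 11] [.out 5021],
  .sub [12, 6, 20, 11] [.out 177],
  .sub [4, 16, 20, 11] [.out 263],
  .sub [5, 16, 20, 11] [.out 1542],
  .sub [11, 16, 20, 11] [.out 5924],
  .sub [12, 16, 20, 11] [.out 0],
  .sub [17, 16, 20, 11] [.out 673],
  .sub [5, 4, 21, 11] [.out 3493],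
  .sub [6, 4, 21, 11] [.out 5257],
  .sub [11, 4, 21, 11] [.out 806],
  .sub [12, 4, 21, 11] [.out 4416],
  .sub [14, 4, 21, 11] [.out 5359],
  .sub [21, 4, 21, 11] [.sub [4, 8, 5, 5, 3, 5, 3, 5, 3, 4, 8, 5, 5, 3, 4, 8, 5, 5, 3, 5, 3, 4, 8, 5, 5, 3, 4, 8, 5] [.out 4778]],
  .sub [10, 8, 21, 11] [.out 5145],
  .sub [13, 8, 21, 11] [.out 5996],
  .sub [14, 8, 21, 11] [.out 2411],
  .sub [8, 17, 21, 11] [.out 1081],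
  .sub [2, 4, 2, 12] [.out 201],
  .sub [11, 4, 2, 12] [.out 1628],
  .sub [12, 4, 2, 12] [.out 4923],
  .sub [6, 11, 2, 12] [.sub [5, 3, 5, 3, 4, 8, 5, 5, 3, 4, 8, 5, 5, 3, 5, 3, 5, 3, 4, 8, 5, 5, 3, 4, 8, 5, 5, 3, 4, 8, 5] [.out 2579]],
  .sub [13, 11, 2, 12] [.out 1212],
  .sub [11, 13, 2, 12] [.sub [5, 3, 4, 8, 5, 5, 3, 5, 3, 5, 3, 4, 8, 5, 5, 3, 5, 3, 4, 8, 5, 5, 3] [.out 94]],
  .sub [1, 0, 4, 12] [.out 4626],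
  .sub [3, 0, 4, 12] [.out 5447],
  .sub [5, 0, 4, 12] [.out 2847],
  .sub [7, 0, 4, 12] [.out 2522],
  .sub [9, 0, 4, 12] [.out 2300],
  .sub [12, 0, 4, 12] [.out 5927],
  .sub [16, 0, 4, 12] [.out 4837],
  .sub [17, 0, 4, 12] [.out 39],
  .sub [18, 0, 4, 12] [.out 2998],
  .sub [19, 0, 4, 12] [.out 461],
  .sub [21, 0, 4, 12] [.sub [5, 3, 5, 3, 5, 3, 4, 8, 5, 5, 3, 5, 3, 4, 8, 5, 5, 3, 4, 8, 5, 5, 3, 4, 8, 5, 5, 3, 5, 3, 4, 8, 5, 5, 3, 4, 8, 5] [.out 503]],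
  .sub [2, 1, 4, 12] [.out 3718],
  .sub [6, 1, 4, 12] [.out 4510],
  .sub [8, 1, 4, 12] [.out 813],
  .sub [10, 1, 4, 12] [.out 4802],
  .sub [11, 1, 4, 12] [.out 2618],
  .sub [12, 1, 4, 12] [.out 4577],
  .sub [13, 1, 4, 12] [.out 668],
  .sub [14, 1, 4, 12] [.out 327],
  .sub [18, 1, 4, 12] [.out 3511],
  .sub [20, 1, 4, 12] [.sub [4, 8, 5, 5, 3, 4, 8, 5, 5, 3, 5, 3, 5, 3, 4, 8, 5, 5, 3, 4, 8, 5, 5, 3, 5, 3, 4, 8, 5, 5, 3, 4, 8, 5, 5, 3] [.out 3522]],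
  .sub [21, 1, 4, 12] [.out 5865],
  .sub [3, 2, 4, 12] [.sub [5, 3, 5, 3, 5, 3, 4, 8, 5, 5, 3] [.out 4654]],
  .sub [5, 2, 4, 12] [.out 2997],
  .sub [8, 2, 4, 12] [.out 3715],
  .sub [9, 2, 4, 12] [.sub [5, 3, 5, 3, 4, 8, 5, 5, 3, 4, 8, 5, 5, 3, 4, 8, 5, 5, 3, 5, 3, 4, 8, 5, 5, 3, 4, 8, 5] [.out 3554]],
  .sub [11, 2, 4, 12] [.out 2117],
  .sub [12, 2, 4, 12] [.out 2901]]

/-- Branches. -/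
def kidsXPart25 : List Branch := [
  .sub [13, 2, 4, 12] [.out 5904],
  .sub [16, 2, 4, 12] [.out 5211],
  .sub [18, 2, 4, 12] [.out 3908],
  .sub [19, 2, 4, 12] [.out 211],
  .sub [20, 2, 4, 12] [.out 1828],
  .sub [1, 3, 4, 12] [.out 1805],
  .sub [7, 3, 4, 12] [.out 5719],
  .sub [10, 3, 4, 12] [.out 3223],
  .sub [13, 3, 4, 12] [.out 2132],
  .sub [16, 3, 4, 12] [.out 4106],
  .sub [19, 3, 4, 12] [.out 5033],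
  .sub [4, 4, 4, 12] [.out 1541],
  .sub [11, 4, 4, 12] [.sub [5, 3, 5, 3, 5, 3, 4, 8, 5, 5, 3, 4, 8, 5, 5, 3, 5, 3, 4, 8, 5, 5, 3, 5, 3, 5, 3, 4, 8, 5, 5, 3, 5, 3, 4, 8, 5, 5, 3] [.out 5819]],
  .sub [1, 5, 4, 12] [.out 1859],
  .sub [2, 5, 4, 12] [.out 58],
  .sub [3, 5, 4, 12] [.out 1910],
  .sub [6, 5, 4, 12] [.out 4013],
  .sub [7, 5, 4, 12] [.sub [4, 8, 5, 5, 3, 4, 8, 5, 5, 3, 5, 3, 4, 8, 5, 5, 3, 4, 8, 5, 5, 3, 5, 3, 4, 8, 5, 5, 3, 5, 3, 4, 8, 5, 5, 3, 4, 8, 5, 5, 3, 4, 8, 5, 5, 3, 5, 3, 4, 8, 5] [.out 4204]],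
  .sub [8, 5, 4, 12] [.out 5457],
  .sub [11, 5, 4, 12] [.out 798],
  .sub [13, 5, 4, 12] [.out 97],
  .sub [14, 5, 4, 12] [.out 4546],
  .sub [17, 5, 4, 12] [.out 5077],
  .sub [21, 5, 4, 12] [.out 4285],
  .sub [13, 6, 4, 12] [.sub [4, 8, 5, 5, 3, 4, 8, 5, 5, 3, 4, 8, 5, 5, 3, 4, 8, 5, 5, 3, 5, 3, 4, 8, 5, 5, 3, 5, 3] [.out 709]],
  .sub [17, 6, 4, 12] [.out 998],
  .sub [19, 6, 4, 12] [.out 1936],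
  .sub [3, 7, 4, 12] [.out 0],
  .sub [10, 7, 4, 12] [.out 1317],
  .sub [13, 7, 4, 12] [.out 5053],
  .sub [14, 7, 4, 12] [.out 1526],
  .sub [16, 7, 4, 12] [.out 2873],
  .sub [18, 7, 4, 12] [.out 5448],
  .sub [21, 7, 4, 12] [.out 5910],
  .sub [0, 8, 4, 12] [.out 1361],
  .sub [5, 8, 4, 12] [.out 6074],
  .sub [7, 8, 4, 12] [.out 4274],
  .sub [9, 8, 4, 12] [.out 1747],
  .sub [11, 8, 4, 12] [.sub [4, 8, 5, 5, 3, 5, 3, 4, 8, 5, 5, 3, 4, 8, 5, 5, 3, 4, 8, 5, 5, 3, 5, 3, 5, 3, 4, 8, 5, 5, 3] [.out 2741]],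
  .sub [14, 8, 4, 12] [.out 872],
  .sub [21, 8, 4, 12] [.out 6004],
  .sub [1, 9, 4, 12] [.out 3237],
  .sub [6, 9, 4, 12] [.sub [5, 3, 4, 8, 5, 5, 3, 4, 8, 5, 5, 3, 5, 3, 4, 8, 5, 5, 3, 5, 3, 5, 3, 4, 8, 5, 5, 3, 4, 8, 5, 5, 3, 5, 3] [.out 5471]],
  .sub [0, 10, 4, 12] [.out 6028],
  .sub [1, 10, 4, 12] [.out 1400],
  .sub [2, 10, 4, 12] [.out 3033],
  .sub [3, 10, 4, 12] [.out 2590],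
  .sub [7, 10, 4, 12] [.sub [5, 3, 4, 8, 5, 5, 3, 5, 3, 4, 8, 5, 5, 3, 4, 8, 5, 5, 3, 5, 3] [.out 448]],
  .sub [10, 10, 4, 12] [.out 3768],
  .sub [11, 10, 4, 12] [.out 2536],
  .sub [17, 10, 4, 12] [.out 4748],
  .sub [18, 10, 4, 12] [.out 1086],
  .sub [19, 10, 4, 12] [.out 1013],
  .sub [21, 10, 4, 12] [.out 5396],
  .sub [4, 11, 4, 12] [.out 1763],
  .sub [11, 11, 4, 12] [.out 842],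
  .sub [12, 11, 4, 12] [.out 2098],
  .sub [3, 12, 4, 12] [.out 3070],
  .sub [6, 12, 4, 12] [.out 4982],
  .sub [13, 12, 4, 12] [.out 5962],
  .sub [17, 12, 4, 12] [.out 3465],
  .sub [18, 12, 4, 12] [.out 1658],
  .sub [5, 13, 4, 12] [.out 594],
  .sub [7, 13, 4, 12] [.out 3192],
  .sub [11, 13, 4, 12] [.out 1421],
  .sub [16, 13, 4, 12] [.out 2200],
  .sub [19, 13, 4, 12] [.out 5277],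
  .sub [4, 14, 4, 12] [.sub [4, 8, 5, 5, 3, 5, 3, 5, 3, 4, 8, 5, 5, 3] [.out 1361]],
  .sub [6, 14, 4, 12] [.sub [4, 8, 5, 5, 3, 4, 8, 5, 5, 3, 5, 3, 5, 3, 4, 8, 5, 5, 3] [.out 2713]],
  .sub [10, 14, 4, 12] [.sub [4, 8, 5, 5, 3, 5, 3, 5, 3, 4, 8, 5, 5, 3, 4, 8, 5, 5, 3, 5, 3] [.out 4674]],
  .sub [12, 14, 4, 12] [.out 3347],
  .sub [13, 14, 4, 12] [.out 435],
  .sub [17, 14, 4, 12] [.out 2838],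
  .sub [19, 14, 4, 12] [.out 5129],
  .sub [10, 16, 4, 12] [.out 5085],
  .sub [17, 16, 4, 12] [.out 6082],
  .sub [6, 17, 4, 12] [.out 3853],
  .sub [14, 17, 4, 12] [.out 1764],
  .sub [1, 18, 4, 12] [.out 2661],
  .sub [5, 18, 4, 12] [.sub [5, 3, 4, 8, 5, 5, 3, 5, 3, 5, 3, 4, 8, 5, 5, 3, 4, 8, 5, 5, 3, 5, 3, 4, 8, 5, 5, 3, 4, 8, 5, 5, 3, 5, 3, 5, 3] [.bad [] 1]],
  .sub [6, 18, 4, 12] [.out 5357],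
  .sub [21, 18, 4, 12] [.out 5696],
  .sub [6, 19, 4, 12] [.sub [4, 8, 5, 5, 3, 4, 8, 5, 5, 3, 5, 3, 5, 3, 4, 8, 5, 5, 3, 4, 8, 5] [.out 4208]],
  .sub [8, 19, 4, 12] [.out 5744],
  .sub [11, 19, 4, 12] [.out 305],
  .sub [4, 20, 4, 12] [.out 646],
  .sub [8, 20, 4, 12] [.out 3733],
  .sub [3, 21, 4, 12] [.out 16],
  .sub [5, 21, 4, 12] [.out 1864],
  .sub [7, 21, 4, 12] [.out 3004],
  .sub [8, 21, 4, 12] [.out 4158],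
  .sub [9, 21, 4, 12] [.out 5087],
  .sub [11, 21, 4, 12] [.out 6045],
  .sub [16, 21, 4, 12] [.out 2873],
  .sub [21, 21, 4, 12] [.sub [4, 8, 5, 5, 3, 4, 8, 5, 5, 3, 5, 3, 4, 8, 5, 5, 3, 5, 3, 5, 3, 4, 8, 5, 5, 3, 4, 8, 5, 5, 3, 5, 3, 5, 3, 4, 8, 5, 5, 3, 4, 8, 5, 5, 3, 5, 3] [.out 3814]],
  .sub [4, 4, 5, 12] [.sub [4, 8, 5, 5, 3, 4, 8, 5, 5, 3, 5, 3, 4, 8, 5, 5, 3, 5, 3, 5, 3, 4, 8, 5, 5, 3, 4, 8, 5, 5, 3, 4, 8, 5] [.out 4504]],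
  .sub [9, 4, 5, 12] [.out 1174],
  .sub [11, 4, 5, 12] [.out 2416],
  .sub [12, 4, 5, 12] [.out 2733],
  .sub [17, 4, 5, 12] [.out 255],
  .sub [19, 4, 5, 12] [.out 4250],
  .sub [21, 4, 5, 12] [.out 3597],
  .sub [4, 6, 5, 12] [.out 2881],
  .sub [11, 6, 5, 12] [.out 4322],
  .sub [12, 6, 5, 12] [.out 2717],
  .sub [21, 6, 5, 12] [.out 2713],
  .sub [21, 11, 5, 12] [.out 4948],
  .sub [4, 13, 5, 12] [.out 669],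
  .sub [5, 13, 5, 12] [.out 2821],
  .sub [9, 13, 5, 12] [.out 3854],
  .sub [6, 17, 5, 12] [.out 193],
  .sub [11, 18, 5, 12] [.out 3839],
  .sub [6, 21, 5, 12] [.out 2303],
  .sub [14, 21, 5, 12] [.out 5335],
  .sub [1, 4, 7, 12] [.sub [4, 8, 5, 5, 3, 5, 3, 4, 8, 5, 5, 3, 4, 8, 5, 5, 3, 5, 3, 4, 8, 5] [.out 3928]],
  .sub [5, 4, 7, 12] [.out 2762],
  .sub [8, 4, 7, 12] [.out 6131],
  .sub [10, 4, 7, 12] [.out 1458],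
  .sub [11, 4, 7, 12] [.out 2007],
  .sub [12, 4, 7, 12] [.out 3118],
  .sub [4, 6, 7, 12] [.sub [5, 3, 4, 8, 5, 5, 3, 5, 3, 4, 8, 5, 5, 3, 5, 3, 5, 3, 4, 8, 5, 5, 3, 4, 8, 5, 5, 3] [.out 5723]],
  .sub [5, 6, 7, 12] [.out 5768],
  .sub [8, 6, 7, 12] [.out 5737],
  .sub [12, 6, 7, 12] [.out 5398],
  .sub [21, 8, 7, 12] [.out 4900],
  .sub [7, 0, 8, 12] [.out 1994],
  .sub [17, 0, 8, 12] [.out 2235],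
  .sub [18, 0, 8, 12] [.out 4818],
  .sub [19, 0, 8, 12] [.out 1970],
  .sub [20, 0, 8, 12] [.out 5010],
  .sub [9, 1, 8, 12] [.out 4341],
  .sub [17, 1, 8, 12] [.out 441],
  .sub [18, 1, 8, 12] [.out 2670],
  .sub [20, 1, 8, 12] [.out 2163],
  .sub [11, 2, 8, 12] [.out 2116],
  .sub [13, 2, 8, 12] [.out 2339],
  .sub [18, 2, 8, 12] [.out 5066],
  .sub [4, 5, 8, 12] [.out 5204],
  .sub [11, 5, 8, 12] [.out 3481],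
  .sub [2, 6, 8, 12] [.out 1588],
  .sub [9, 6, 8, 12] [.out 1270],
  .sub [13, 6, 8, 12] [.sub [5, 3, 4, 8, 5, 5, 3, 5, 3, 5, 3, 4, 8, 5, 5, 3, 5, 3, 4, 8, 5, 5, 3, 4, 8, 5, 5, 3, 5, 3, 5, 3, 4, 8, 5, 5, 3, 4, 8, 5, 5, 3] [.out 4050]],
  .sub [17, 6, 8, 12] [.out 2188],
  .sub [18, 6, 8, 12] [.out 4101],
  .sub [20, 6, 8, 12] [.out 2777],
  .sub [6, 7, 8, 12] [.out 5384],
  .sub [13, 7, 8, 12] [.out 5676],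
  .sub [14, 7, 8, 12] [.sub [5, 3, 4, 8, 5, 5, 3, 5, 3, 5, 3, 4, 8, 5, 5, 3, 5, 3, 4, 8, 5, 5, 3] [.out 1460]],
  .sub [17, 7, 8, 12] [.out 1125],
  .sub [8, 9, 8, 12] [.out 2069],
  .sub [11, 9, 8, 12] [.out 1050],
  .sub [0, 10, 8, 12] [.out 1897],
  .sub [2, 10, 8, 12] [.out 1064],
  .sub [3, 10, 8, 12] [.out 3956],
  .sub [5, 10, 8, 12] [.out 3683],
  .sub [18, 10, 8, 12] [.out 3651],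
  .sub [20, 10, 8, 12] [.out 2343],
  .sub [2, 13, 8, 12] [.out 2251],
  .sub [3, 13, 8, 12] [.out 2266],
  .sub [5, 13, 8, 12] [.out 1026],
  .sub [6, 13, 8, 12] [.out 4080],
  .sub [9, 13, 8, 12] [.out 1076],
  .sub [10, 13, 8, 12] [.out 1416],
  .sub [16, 13, 8, 12] [.out 3120],
  .sub [6, 14, 8, 12] [.out 3112],
  .sub [10, 14, 8, 12] [.out 3104],
  .sub [13, 14, 8, 12] [.out 189],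
  .sub [14, 14, 8, 12] [.sub [4, 8, 5, 5, 3, 4, 8, 5, 5, 3, 5, 3, 4, 8, 5, 5, 3, 4, 8, 5, 5, 3, 5, 3, 5, 3, 4, 8, 5, 5, 3, 4, 8, 5, 5, 3] [.out 5287]],
  .sub [21, 14, 8, 12] [.out 4758],
  .sub [8, 16, 8, 12] [.out 5532],
  .sub [11, 16, 8, 12] [.out 111],
  .sub [16, 16, 8, 12] [.out 2269],
  .sub [21, 16, 8, 12] [.out 5800],
  .sub [1, 17, 8, 12] [.out 5761],
  .sub [10, 17, 8, 12] [.out 16],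
  .sub [13, 17, 8, 12] [.out 1819],
  .sub [16, 17, 8, 12] [.out 1295],
  .sub [4, 18, 8, 12] [.out 1626],
  .sub [10, 18, 8, 12] [.out 2952],
  .sub [0, 19, 8, 12] [.out 3478],
  .sub [6, 19, 8, 12] [.out 5593],
  .sub [10, 19, 8, 12] [.out 1366],
  .sub [11, 19, 8, 12] [.out 5746],
  .sub [3, 21, 8, 12] [.out 1639],
  .sub [7, 21, 8, 12] [.out 4473],
  .sub [8, 21, 8, 12] [.out 5963],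
  .sub [9, 21, 8, 12] [.out 1804],
  .sub [19, 21, 8, 12] [.out 484],
  .sub [2, 4, 10, 12] [.out 3338],
  .sub [7, 4, 10, 12] [.sub [5, 3, 5, 3, 4, 8, 5, 5, 3, 5, 3, 4, 8, 5, 5, 3] [.out 3518]],
  .sub [13, 4, 10, 12] [.out 2521],
  .sub [14, 4, 10, 12] [.out 3972]]

/-- Branches. -/
def kidsXPart26 : List Branch := [
  .sub [17, 4, 10, 12] [.out 1878],
  .sub [18, 4, 10, 12] [.out 2127],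
  .sub [19, 4, 10, 12] [.out 2580],
  .sub [18, 8, 10, 12] [.out 730],
  .sub [16, 11, 10, 12] [.out 787],
  .sub [5, 12, 10, 12] [.out 2705],
  .sub [14, 12, 10, 12] [.out 5096],
  .sub [20, 12, 10, 12] [.out 5301],
  .sub [8, 13, 10, 12] [.out 3311],
  .sub [7, 0, 11, 12] [.out 838],
  .sub [9, 0, 11, 12] [.out 659],
  .sub [16, 0, 11, 12] [.sub [4, 8, 5, 5, 3, 5, 3, 5, 3, 4, 8, 5, 5, 3, 4, 8, 5, 5, 3, 5, 3, 4, 8, 5, 5, 3, 4, 8, 5, 5, 3, 5, 3, 5, 3] [.out 810]],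
  .sub [20, 0, 11, 12] [.out 3228],
  .sub [9, 1, 11, 12] [.out 4942],
  .sub [17, 1, 11, 12] [.out 4909],
  .sub [21, 1, 11, 12] [.out 5080],
  .sub [19, 2, 11, 12] [.out 5557],
  .sub [2, 6, 11, 12] [.out 5645],
  .sub [7, 6, 11, 12] [.out 3951],
  .sub [10, 6, 11, 12] [.out 3839],
  .sub [19, 6, 11, 12] [.out 1540],
  .sub [20, 6, 11, 12] [.sub [4, 8, 5, 5, 3, 4, 8, 5, 5, 3, 4, 8, 5, 5, 3, 5, 3, 5, 3, 4, 8, 5, 5, 3, 5, 3, 4, 8, 5, 5, 3, 4, 8, 5, 5, 3] [.done 4]],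
  .sub [4, 7, 11, 12] [.out 2483],
  .sub [6, 7, 11, 12] [.out 381],
  .sub [11, 7, 11, 12] [.out 5536],
  .sub [13, 7, 11, 12] [.sub [5, 3, 5, 3, 4, 8, 5, 5, 3, 5, 3, 4, 8, 5, 5, 3, 4, 8, 5, 5, 3, 5, 3, 4, 8, 5, 5, 3] [.out 5065]],
  .sub [14, 7, 11, 12] [.out 2443],
  .sub [4, 9, 11, 12] [.out 2449],
  .sub [2, 10, 11, 12] [.out 5063],
  .sub [3, 10, 11, 12] [.sub [4, 8, 5, 5, 3, 4, 8, 5, 5, 3, 4, 8, 5, 5, 3, 5, 3, 4, 8, 5, 5, 3, 5, 3, 4, 8, 5, 5, 3, 4, 8, 5, 5, 3, 4, 8, 5] [.done 3]],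
  .sub [4, 10, 11, 12] [.out 908],
  .sub [10, 10, 11, 12] [.out 1808],
  .sub [11, 10, 11, 12] [.sub [5, 3, 5, 3, 4, 8, 5, 5, 3, 4, 8, 5, 5, 3, 5, 3, 5, 3] [.out 4841]],
  .sub [12, 10, 11, 12] [.out 2610],
  .sub [13, 10, 11, 12] [.out 1312],
  .sub [6, 13, 11, 12] [.out 6009],
  .sub [8, 17, 11, 12] [.out 1442],
  .sub [10, 18, 11, 12] [.out 562],
  .sub [1, 19, 11, 12] [.out 6048],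
  .sub [21, 19, 11, 12] [.out 5543],
  .sub [4, 21, 11, 12] [.out 2677],
  .sub [16, 21, 11, 12] [.out 5320],
  .sub [4, 2, 12, 12] [.out 2581],
  .sub [6, 2, 12, 12] [.out 518],
  .sub [11, 2, 12, 12] [.out 5678],
  .sub [2, 4, 12, 12] [.out 4593],
  .sub [5, 4, 12, 12] [.out 3031],
  .sub [7, 4, 12, 12] [.sub [5, 3, 4, 8, 5, 5, 3, 5, 3, 4, 8, 5, 5, 3, 5, 3, 5, 3, 4, 8, 5, 5, 3, 4, 8, 5, 5, 3, 5, 3, 5, 3, 4, 8, 5, 5, 3, 5, 3, 4, 8, 5, 5, 3] [.out 655]],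
  .sub [10, 4, 12, 12] [.out 1320],
  .sub [12, 4, 12, 12] [.out 949],
  .sub [13, 4, 12, 12] [.out 3933],
  .sub [20, 4, 12, 12] [.out 1059],
  .sub [17, 5, 12, 12] [.out 6096],
  .sub [18, 5, 12, 12] [.out 1565],
  .sub [17, 9, 12, 12] [.out 5205],
  .sub [0, 10, 12, 12] [.out 2635],
  .sub [10, 10, 12, 12] [.out 4660],
  .sub [11, 10, 12, 12] [.out 4793],
  .sub [18, 10, 12, 12] [.out 3584],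
  .sub [2, 13, 12, 12] [.out 1609],
  .sub [5, 13, 12, 12] [.out 1561],
  .sub [13, 13, 12, 12] [.out 4023],
  .sub [16, 13, 12, 12] [.out 4339],
  .sub [18, 13, 12, 12] [.sub [5, 3, 4, 8, 5, 5, 3, 5, 3, 4, 8, 5, 5, 3, 4, 8, 5, 5, 3, 5, 3, 5, 3, 4, 8, 5, 5, 3] [.out 2267]],
  .sub [6, 17, 12, 12] [.out 5794],
  .sub [11, 17, 12, 12] [.out 653],
  .sub [21, 17, 12, 12] [.sub [4, 8, 5, 5, 3, 4, 8, 5, 5, 3, 4, 8, 5, 5, 3, 4, 8, 5, 5, 3, 5, 3, 4, 8, 5, 5, 3, 5, 3, 4, 8, 5] [.out 6039]],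
  .sub [11, 19, 12, 12] [.out 305],
  .sub [12, 19, 12, 12] [.out 3729],
  .sub [1, 21, 12, 12] [.out 2076],
  .sub [4, 21, 12, 12] [.out 4639],
  .sub [5, 21, 12, 12] [.out 348],
  .sub [10, 21, 12, 12] [.out 6048],
  .sub [11, 21, 12, 12] [.out 6115],
  .sub [19, 21, 12, 12] [.out 3293],
  .sub [21, 21, 12, 12] [.out 5272],
  .sub [0, 4, 13, 12] [.out 5034],
  .sub [5, 4, 13, 12] [.out 5834],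
  .sub [8, 4, 13, 12] [.out 924],
  .sub [10, 4, 13, 12] [.out 1395],
  .sub [13, 4, 13, 12] [.out 5030],
  .sub [17, 4, 13, 12] [.sub [4, 8, 5, 5, 3, 4, 8, 5, 5, 3, 5, 3, 4, 8, 5, 5, 3, 5, 3, 5, 3, 4, 8, 5, 5, 3, 4, 8, 5, 5, 3, 5, 3, 4, 8, 5] [.out 6084]],
  .sub [20, 4, 13, 12] [.out 2868],
  .sub [1, 5, 13, 12] [.out 3312],
  .sub [4, 5, 13, 12] [.out 864],
  .sub [6, 5, 13, 12] [.out 5541],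
  .sub [10, 5, 13, 12] [.sub [5, 3, 4, 8, 5, 5, 3, 5, 3, 4, 8, 5, 5, 3, 4, 8, 5, 5, 3, 5, 3, 4, 8, 5, 5, 3] [.out 3253]],
  .sub [17, 5, 13, 12] [.out 1821],
  .sub [18, 5, 13, 12] [.out 2163],
  .sub [1, 8, 13, 12] [.sub [5, 3, 4, 8, 5, 5, 3, 4, 8, 5, 5, 3, 5, 3, 5, 3, 4, 8, 5, 5, 3] [.out 3642]],
  .sub [16, 8, 13, 12] [.out 2946],
  .sub [4, 12, 13, 12] [.out 5522],
  .sub [14, 12, 13, 12] [.out 2580],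
  .sub [19, 12, 13, 12] [.out 4804],
  .sub [8, 17, 13, 12] [.sub [5, 3, 5, 3, 4, 8, 5, 5, 3, 5, 3, 4, 8, 5, 5, 3, 4, 8, 5, 5, 3, 5, 3, 5, 3, 4, 8, 5, 5, 3, 4, 8, 5, 5, 3] [.out 5744]],
  .sub [8, 18, 13, 12] [.out 3008],
  .sub [11, 18, 13, 12] [.sub [4, 8, 5, 5, 3, 5, 3, 4, 8, 5, 5, 3, 4, 8, 5, 5, 3, 4, 8, 5, 5, 3, 5, 3, 4, 8, 5, 5, 3, 5, 3, 4, 8, 5] [.out 6129]],
  .sub [12, 18, 13, 12] [.out 4834],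
  .sub [11, 19, 13, 12] [.out 5620],
  .sub [4, 21, 13, 12] [.out 3482],
  .sub [8, 21, 13, 12] [.out 1022],
  .sub [11, 21, 13, 12] [.out 641],
  .sub [12, 21, 13, 12] [.out 5696],
  .sub [9, 4, 17, 12] [.out 1270],
  .sub [10, 4, 17, 12] [.out 4419],
  .sub [11, 4, 17, 12] [.out 2937],
  .sub [13, 4, 17, 12] [.out 412],
  .sub [14, 4, 17, 12] [.out 2346],
  .sub [18, 4, 17, 12] [.out 4610],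
  .sub [19, 4, 17, 12] [.out 2881],
  .sub [20, 4, 17, 12] [.out 684],
  .sub [21, 4, 17, 12] [.out 2213],
  .sub [4, 5, 17, 12] [.out 3376],
  .sub [8, 5, 17, 12] [.out 4720],
  .sub [2, 8, 17, 12] [.out 5491],
  .sub [10, 8, 17, 12] [.out 4790],
  .sub [18, 8, 17, 12] [.out 1578],
  .sub [20, 8, 17, 12] [.out 2269],
  .sub [21, 8, 17, 12] [.out 4855],
  .sub [16, 11, 17, 12] [.out 3479],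
  .sub [18, 11, 17, 12] [.out 1896],
  .sub [21, 11, 17, 12] [.out 1884],
  .sub [4, 14, 17, 12] [.out 3799],
  .sub [5, 4, 18, 12] [.out 5768],
  .sub [11, 4, 18, 12] [.out 4931],
  .sub [12, 4, 18, 12] [.out 1359],
  .sub [8, 6, 18, 12] [.out 2890],
  .sub [11, 6, 18, 12] [.out 5216],
  .sub [16, 8, 18, 12] [.out 212],
  .sub [17, 8, 18, 12] [.sub [5, 3, 5, 3, 5, 3, 4, 8, 5, 5, 3, 5, 3, 4, 8, 5, 5, 3, 4, 8, 5, 5, 3, 4, 8, 5] [.out 5887]],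
  .sub [19, 8, 18, 12] [.sub [5, 3, 4, 8, 5, 5, 3, 5, 3, 4, 8, 5, 5, 3, 5, 3, 5, 3, 4, 8, 5, 5, 3, 5, 3, 4, 8, 5, 5, 3, 4, 8, 5, 5, 3] [.out 2894]],
  .sub [12, 11, 18, 12] [.out 1631],
  .sub [12, 4, 19, 12] [.out 109],
  .sub [2, 8, 19, 12] [.out 5917],
  .sub [17, 8, 19, 12] [.out 2205],
  .sub [12, 11, 19, 12] [.out 3090],
  .sub [21, 11, 19, 12] [.out 4683],
  .sub [17, 4, 20, 12] [.out 5657],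
  .sub [16, 8, 20, 12] [.out 1548],
  .sub [11, 21, 20, 12] [.out 3313],
  .sub [12, 21, 20, 12] [.out 2498],
  .sub [6, 3, 21, 12] [.sub [5, 3, 4, 8, 5, 5, 3, 4, 8, 5] [.out 3518]],
  .sub [0, 4, 21, 12] [.out 4897],
  .sub [1, 4, 21, 12] [.out 1748],
  .sub [2, 4, 21, 12] [.out 4815],
  .sub [9, 4, 21, 12] [.sub [5, 3, 4, 8, 5, 5, 3, 5, 3, 4, 8, 5, 5, 3, 4, 8, 5, 5, 3, 4, 8, 5] [.out 4823]],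
  .sub [20, 4, 21, 12] [.out 2780],
  .sub [10, 5, 21, 12] [.out 2366],
  .sub [0, 8, 21, 12] [.out 1489],
  .sub [10, 8, 21, 12] [.out 2119],
  .sub [19, 8, 21, 12] [.out 4776],
  .sub [0, 11, 21, 12] [.out 2991],
  .sub [6, 11, 21, 12] [.out 2710],
  .sub [7, 11, 21, 12] [.out 2355],
  .sub [10, 11, 21, 12] [.out 1002],
  .sub [21, 11, 21, 12] [.out 3941],
  .sub [6, 12, 21, 12] [.out 1486],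
  .sub [14, 12, 21, 12] [.out 398],
  .sub [18, 12, 21, 12] [.out 1033],
  .sub [6, 3, 4, 1, 3] [.out 3071],
  .sub [11, 4, 4, 1, 3] [.out 1227],
  .sub [13, 4, 4, 1, 3] [.out 5201],
  .sub [17, 4, 4, 1, 3] [.out 5630],
  .sub [20, 4, 4, 1, 3] [.out 161],
  .sub [8, 5, 4, 1, 3] [.out 4370],
  .sub [9, 5, 4, 1, 3] [.out 2624],
  .sub [2, 8, 4, 1, 3] [.out 1015],
  .sub [7, 8, 4, 1, 3] [.sub [5, 3, 4, 8, 5, 5, 3, 5, 3, 4, 8, 5, 5, 3, 5, 3, 4, 8, 5, 5, 3, 4, 8, 5, 5, 3, 4, 8, 5] [.out 212]],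
  .sub [9, 8, 4, 1, 3] [.out 2488],
  .sub [13, 8, 4, 1, 3] [.sub [4, 8, 5, 5, 3, 4, 8, 5, 5, 3, 5, 3, 5, 3, 4, 8, 5, 5, 3, 4, 8, 5, 5, 3, 4, 8, 5, 5, 3] [.bad [3, 2, 0, 8, 3, 1, 3, 0, 2, 1, 0, 3, 3, 2, 0, 3, 3, 2, 0, 3, 2, 0, 8, 3, 1, 3, 0, 2, 1, 0, 5, 3, 4, 8, 5, 5, 3, 4, 8, 5, 5, 3, 5, 3, 5, 3, 4, 8, 5] 1]],
  .sub [14, 8, 4, 1, 3] [.out 68],
  .sub [18, 8, 4, 1, 3] [.out 2273],
  .sub [19, 8, 4, 1, 3] [.sub [5, 3, 4, 8, 5, 5, 3, 5, 3, 4, 8, 5, 5, 3, 5, 3, 4, 8, 5, 5, 3, 4, 8, 5, 5, 3, 5, 3, 4, 8, 5, 5, 3] [.out 3705]],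
  .sub [20, 8, 4, 1, 3] [.out 6153],
  .sub [4, 9, 4, 1, 3] [.sub [4, 8, 5, 5, 3, 5, 3, 5, 3, 4, 8, 5, 5, 3, 4, 8, 5, 5, 3, 4, 8, 5, 5, 3, 5, 3, 4, 8, 5, 5, 3] [.out 4341]],
  .sub [8, 9, 4, 1, 3] [.out 2610],
  .sub [11, 9, 4, 1, 3] [.out 5063],
  .sub [13, 12, 4, 1, 3] [.out 5784],
  .sub [17, 12, 4, 1, 3] [.out 1403],
  .sub [18, 12, 4, 1, 3] [.out 5523],
  .sub [19, 21, 4, 1, 3] [.out 1262],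
  .sub [2, 4, 5, 1, 3] [.out 4153],
  .sub [3, 4, 5, 1, 3] [.out 925],
  .sub [9, 4, 5, 1, 3] [.out 4731],
  .sub [17, 4, 5, 1, 3] [.out 2753],
  .sub [18, 4, 5, 1, 3] [.out 2714],
  .sub [19, 4, 5, 1, 3] [.out 2113],
  .sub [8, 12, 5, 1, 3] [.out 2741],
  .sub [20, 12, 5, 1, 3] [.out 2642],
  .sub [21, 12, 5, 1, 3] [.out 3532],
  .sub [4, 13, 5, 1, 3] [.out 2934],
  .sub [10, 13, 5, 1, 3] [.out 5945]]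

/-- Branches. -/
def kidsXPart27 : List Branch := [
  .sub [11, 13, 5, 1, 3] [.sub [5, 3, 4, 8, 5, 5, 3, 5, 3, 5, 3, 4, 8, 5, 5, 3, 4, 8, 5, 5, 3, 5, 3] [.out 1933]],
  .sub [4, 18, 5, 1, 3] [.out 1549],
  .sub [8, 18, 5, 1, 3] [.out 2909],
  .sub [0, 4, 19, 1, 3] [.out 3933],
  .sub [6, 4, 19, 1, 3] [.out 5228],
  .sub [9, 4, 19, 1, 3] [.out 2707],
  .sub [12, 4, 19, 1, 3] [.out 4581],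
  .sub [17, 4, 19, 1, 3] [.out 3033],
  .sub [5, 11, 19, 1, 3] [.out 5060],
  .sub [9, 11, 19, 1, 3] [.sub [4, 8, 5, 5, 3, 4, 8, 5, 5, 3, 5, 3, 4, 8, 5, 5, 3, 4, 8, 5, 5, 3, 5, 3, 4, 8, 5, 5, 3, 5, 3, 4, 8, 5, 5, 3, 4, 8, 5, 5, 3, 4, 8, 5, 5, 3, 5, 3, 4, 8, 5] [.out 2584]],
  .sub [10, 11, 19, 1, 3] [.out 3579],
  .sub [18, 11, 19, 1, 3] [.out 1087],
  .sub [21, 11, 19, 1, 3] [.out 3031],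
  .sub [6, 3, 2, 6, 3] [.out 5146],
  .sub [0, 4, 2, 6, 3] [.sub [5, 3, 5, 3, 4, 8, 5, 5, 3, 4, 8, 5, 5, 3, 5, 3, 4, 8, 5, 5, 3, 4, 8, 5, 5, 3, 4, 8, 5] [.out 3947]],
  .sub [2, 4, 2, 6, 3] [.out 5143],
  .sub [5, 4, 2, 6, 3] [.out 2381],
  .sub [8, 4, 2, 6, 3] [.out 1270],
  .sub [10, 4, 2, 6, 3] [.out 1328],
  .sub [11, 4, 2, 6, 3] [.out 4290],
  .sub [14, 4, 2, 6, 3] [.sub [5, 3, 5, 3, 4, 8, 5, 5, 3, 5, 3, 5, 3, 4, 8, 5, 5, 3, 5, 3, 4, 8, 5, 5, 3] [.out 2028]],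
  .sub [17, 4, 2, 6, 3] [.out 1688],
  .sub [1, 8, 2, 6, 3] [.out 1733],
  .sub [2, 8, 2, 6, 3] [.out 885],
  .sub [7, 8, 2, 6, 3] [.out 829],
  .sub [10, 8, 2, 6, 3] [.out 1756],
  .sub [16, 8, 2, 6, 3] [.out 3872],
  .sub [17, 8, 2, 6, 3] [.out 2241],
  .sub [18, 8, 2, 6, 3] [.sub [4, 8, 5, 5, 3, 5, 3, 4, 8, 5, 5, 3, 4, 8, 5, 5, 3, 5, 3, 4, 8, 5, 5, 3, 5, 3, 5, 3] [.out 5711]],
  .sub [19, 8, 2, 6, 3] [.out 49],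
  .sub [10, 11, 2, 6, 3] [.out 5666],
  .sub [12, 11, 2, 6, 3] [.out 2441],
  .sub [4, 12, 2, 6, 3] [.out 3121],
  .sub [8, 12, 2, 6, 3] [.out 1626],
  .sub [11, 12, 2, 6, 3] [.out 122],
  .sub [19, 12, 2, 6, 3] [.sub [5, 3, 4, 8, 5, 5, 3, 4, 8, 5, 5, 3, 5, 3, 4, 8, 5, 5, 3, 4, 8, 5, 5, 3, 5, 3, 4, 8, 5, 5, 3, 5, 3, 4, 8, 5, 5, 3] [.out 5299]],
  .sub [21, 12, 2, 6, 3] [.out 3687],
  .sub [4, 19, 2, 6, 3] [.out 2496],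
  .sub [4, 6, 3, 6, 3] [.out 4377],
  .sub [12, 6, 3, 6, 3] [.out 3819],
  .sub [8, 10, 3, 6, 3] [.out 1760],
  .sub [4, 13, 3, 6, 3] [.out 3917],
  .sub [17, 14, 3, 6, 3] [.out 5414],
  .sub [21, 14, 3, 6, 3] [.out 96],
  .sub [2, 16, 3, 6, 3] [.sub [4, 8, 5, 5, 3, 4, 8, 5, 5, 3, 5, 3, 4, 8, 5, 5, 3, 4, 8, 5, 5, 3, 4, 8, 5, 5, 3, 5, 3, 4, 8, 5] [.out 989]],
  .sub [12, 16, 3, 6, 3] [.out 2827],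
  .sub [16, 0, 4, 6, 3] [.out 2394],
  .sub [19, 0, 4, 6, 3] [.out 4702],
  .sub [18, 1, 4, 6, 3] [.out 573],
  .sub [21, 1, 4, 6, 3] [.out 4126],
  .sub [3, 2, 4, 6, 3] [.out 2082],
  .sub [4, 2, 4, 6, 3] [.out 1772],
  .sub [5, 2, 4, 6, 3] [.out 827],
  .sub [11, 2, 4, 6, 3] [.out 34],
  .sub [12, 2, 4, 6, 3] [.out 4586],
  .sub [1, 3, 4, 6, 3] [.sub [4, 8, 5, 5, 3, 5, 3, 4, 8, 5, 5, 3, 4, 8, 5, 5, 3] [.out 5722]],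
  .sub [14, 3, 4, 6, 3] [.out 1607],
  .sub [17, 3, 4, 6, 3] [.out 4697],
  .sub [0, 4, 4, 6, 3] [.out 964],
  .sub [3, 4, 4, 6, 3] [.out 5090],
  .sub [6, 4, 4, 6, 3] [.out 4622],
  .sub [10, 4, 4, 6, 3] [.out 227],
  .sub [12, 4, 4, 6, 3] [.out 1016],
  .sub [16, 4, 4, 6, 3] [.out 1509],
  .sub [17, 4, 4, 6, 3] [.out 3085],
  .sub [2, 5, 4, 6, 3] [.out 4316],
  .sub [8, 5, 4, 6, 3] [.out 1732],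
  .sub [9, 5, 4, 6, 3] [.out 5048],
  .sub [10, 5, 4, 6, 3] [.sub [4, 8, 5, 5, 3, 5, 3, 5, 3, 4, 8, 5, 5, 3, 5, 3, 4, 8, 5, 5, 3, 4, 8, 5, 5, 3, 4, 8, 5, 5, 3, 5, 3, 4, 8, 5] [.out 3253]],
  .sub [12, 5, 4, 6, 3] [.out 5616],
  .sub [13, 5, 4, 6, 3] [.out 587],
  .sub [21, 5, 4, 6, 3] [.out 5990],
  .sub [2, 8, 4, 6, 3] [.out 5342],
  .sub [4, 8, 4, 6, 3] [.out 829],
  .sub [7, 8, 4, 6, 3] [.out 3701],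
  .sub [9, 8, 4, 6, 3] [.out 2372],
  .sub [16, 8, 4, 6, 3] [.out 2337],
  .sub [21, 8, 4, 6, 3] [.out 2823],
  .sub [0, 9, 4, 6, 3] [.out 2368],
  .sub [11, 9, 4, 6, 3] [.out 3519],
  .sub [19, 9, 4, 6, 3] [.sub [4, 8, 5, 5, 3, 5, 3, 5, 3, 4, 8, 5, 5, 3, 5, 3, 4, 8, 5, 5, 3, 4, 8, 5, 5, 3, 5, 3, 5, 3] [.out 3504]],
  .sub [0, 10, 4, 6, 3] [.out 4287],
  .sub [1, 10, 4, 6, 3] [.out 2455],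
  .sub [3, 10, 4, 6, 3] [.out 3702],
  .sub [4, 10, 4, 6, 3] [.out 4891],
  .sub [8, 10, 4, 6, 3] [.out 3902],
  .sub [0, 11, 4, 6, 3] [.out 4204],
  .sub [3, 11, 4, 6, 3] [.out 2078],
  .sub [5, 11, 4, 6, 3] [.out 1339],
  .sub [10, 11, 4, 6, 3] [.out 5712],
  .sub [12, 11, 4, 6, 3] [.out 2299],
  .sub [4, 12, 4, 6, 3] [.out 5060],
  .sub [8, 12, 4, 6, 3] [.sub [4, 8, 5, 5, 3, 5, 3, 4, 8, 5, 5, 3, 4, 8, 5, 5, 3, 5, 3, 5, 3, 4, 8, 5, 5, 3, 4, 8, 5, 5, 3, 5, 3, 4, 8, 5] [.out 5878]],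
  .sub [11, 12, 4, 6, 3] [.out 4410],
  .sub [21, 13, 4, 6, 3] [.out 3907],
  .sub [17, 16, 4, 6, 3] [.out 4451],
  .sub [8, 17, 4, 6, 3] [.out 174],
  .sub [14, 17, 4, 6, 3] [.out 5601],
  .sub [6, 20, 4, 6, 3] [.out 1768],
  .sub [21, 20, 4, 6, 3] [.out 3407],
  .sub [11, 21, 4, 6, 3] [.out 5054],
  .sub [14, 21, 4, 6, 3] [.sub [5, 3, 5, 3, 5, 3, 4, 8, 5, 5, 3, 4, 8, 5, 5, 3, 5, 3, 4, 8, 5, 5, 3, 5, 3, 5, 3, 4, 8, 5, 5, 3] [.out 2534]],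
  .sub [16, 21, 4, 6, 3] [.out 4692],
  .sub [0, 4, 5, 6, 3] [.out 1454],
  .sub [7, 4, 5, 6, 3] [.out 1092],
  .sub [10, 4, 5, 6, 3] [.sub [5, 3, 4, 8, 5, 5, 3, 4, 8, 5, 5, 3, 5, 3, 4, 8, 5, 5, 3, 4, 8, 5, 5, 3, 5, 3, 4, 8, 5, 5, 3] [.bad [3, 2, 0, 8, 3, 1, 3, 0, 2, 1, 0, 3, 3, 2, 0, 3, 3, 2, 0, 3, 3, 2, 0, 3, 2, 0, 8, 3, 1, 3, 0, 2, 1, 0, 3, 3, 2, 0, 3, 3, 2, 0, 3, 2, 0, 8, 3, 1, 3, 0, 2, 1, 0, 5, 3, 4, 8, 5, 5, 3, 5, 3, 4, 8, 5, 5, 3, 4, 8, 5, 5, 3, 4, 8, 5, 5, 3, 3, 3, 2, 0, 3, 3, 2, 0, 3, 2, 0, 8, 3, 1, 3, 0, 2, 1, 0, 3, 3, 2, 0, 3, 3, 2, 0, 3, 3, 2, 0, 3, 2, 0, 8, 3, 1, 3, 0, 2, 1, 0, 3, 3, 2, 0, 3, 2, 0, 8, 3, 1, 3, 0, 2, 1, 0, 5, 3, 4, 8, 5, 5, 3, 5, 3, 4, 8, 5, 5, 3, 5, 3, 5, 3, 4, 8, 5, 5, 3, 5, 3] 1]],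
  .sub [11, 6, 5, 6, 3] [.out 4110],
  .sub [1, 8, 5, 6, 3] [.out 4437],
  .sub [5, 8, 5, 6, 3] [.out 678],
  .sub [6, 8, 5, 6, 3] [.sub [4, 8, 5, 5, 3, 4, 8, 5, 5, 3, 5, 3, 5, 3] [.out 4690]],
  .sub [14, 8, 5, 6, 3] [.out 2701],
  .sub [16, 8, 5, 6, 3] [.out 6029],
  .sub [18, 8, 5, 6, 3] [.out 4732],
  .sub [0, 10, 5, 6, 3] [.out 4011],
  .sub [20, 10, 5, 6, 3] [.out 4629],
  .sub [1, 11, 5, 6, 3] [.out 5391],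
  .sub [4, 11, 5, 6, 3] [.sub [4, 8, 5, 5, 3, 5, 3, 4, 8, 5, 5, 3, 5, 3, 5, 3, 4, 8, 5, 5, 3, 4, 8, 5, 5, 3] [.out 4161]],
  .sub [9, 11, 5, 6, 3] [.out 1137],
  .sub [11, 11, 5, 6, 3] [.out 125],
  .sub [6, 12, 5, 6, 3] [.out 2014],
  .sub [12, 12, 5, 6, 3] [.out 5420],
  .sub [13, 13, 5, 6, 3] [.out 5717],
  .sub [4, 14, 5, 6, 3] [.out 1271],
  .sub [5, 14, 5, 6, 3] [.out 4379],
  .sub [8, 14, 5, 6, 3] [.out 1733],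
  .sub [10, 14, 5, 6, 3] [.out 644],
  .sub [11, 14, 5, 6, 3] [.out 1846],
  .sub [8, 19, 5, 6, 3] [.out 5223],
  .sub [2, 4, 7, 6, 3] [.sub [4, 8, 5, 5, 3, 5, 3, 4, 8, 5, 5, 3, 4, 8, 5, 5, 3, 5, 3, 4, 8, 5, 5, 3, 5, 3, 4, 8, 5, 5, 3] [.done 11]],
  .sub [3, 4, 7, 6, 3] [.out 4263],
  .sub [7, 4, 7, 6, 3] [.out 2159],
  .sub [10, 4, 7, 6, 3] [.out 5020],
  .sub [14, 4, 7, 6, 3] [.out 1446],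
  .sub [19, 4, 7, 6, 3] [.out 343],
  .sub [13, 8, 7, 6, 3] [.out 4862],
  .sub [18, 8, 7, 6, 3] [.out 3941],
  .sub [19, 8, 7, 6, 3] [.out 621],
  .sub [7, 11, 7, 6, 3] [.out 1143],
  .sub [10, 11, 7, 6, 3] [.out 1840],
  .sub [13, 11, 7, 6, 3] [.out 3561],
  .sub [19, 11, 7, 6, 3] [.out 5974],
  .sub [8, 12, 7, 6, 3] [.out 5650],
  .sub [11, 12, 7, 6, 3] [.out 4150],
  .sub [12, 12, 7, 6, 3] [.out 3067],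
  .sub [2, 1, 8, 6, 3] [.out 1011],
  .sub [20, 1, 8, 6, 3] [.out 201],
  .sub [4, 2, 8, 6, 3] [.sub [4, 8, 5, 5, 3, 5, 3, 4, 8, 5, 5, 3, 5, 3, 4, 8, 5, 5, 3, 4, 8, 5, 5, 3, 5, 3, 4, 8, 5, 5, 3, 5, 3, 5, 3, 4, 8, 5, 5, 3, 4, 8, 5, 5, 3, 5, 3, 4, 8, 5] [.out 4942]],
  .sub [6, 2, 8, 6, 3] [.out 4280],
  .sub [13, 2, 8, 6, 3] [.out 3272],
  .sub [18, 2, 8, 6, 3] [.out 3074],
  .sub [7, 6, 8, 6, 3] [.out 5756],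
  .sub [16, 6, 8, 6, 3] [.out 5027],
  .sub [17, 7, 8, 6, 3] [.out 4922],
  .sub [1, 10, 8, 6, 3] [.out 2792],
  .sub [3, 10, 8, 6, 3] [.out 599],
  .sub [7, 10, 8, 6, 3] [.out 1290],
  .sub [11, 10, 8, 6, 3] [.out 6081],
  .sub [12, 10, 8, 6, 3] [.out 4896],
  .sub [13, 10, 8, 6, 3] [.sub [4, 8, 5, 5, 3, 4, 8, 5, 5, 3, 5, 3, 4, 8, 5, 5, 3, 4, 8, 5, 5, 3, 4, 8, 5, 5, 3, 5, 3, 4, 8, 5] [.out 1651]],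
  .sub [17, 10, 8, 6, 3] [.out 5743],
  .sub [18, 10, 8, 6, 3] [.out 1020],
  .sub [3, 13, 8, 6, 3] [.out 1379],
  .sub [5, 13, 8, 6, 3] [.out 964],
  .sub [9, 13, 8, 6, 3] [.out 1931],
  .sub [10, 13, 8, 6, 3] [.out 5868],
  .sub [12, 13, 8, 6, 3] [.out 5478],
  .sub [19, 13, 8, 6, 3] [.out 2349],
  .sub [6, 14, 8, 6, 3] [.out 5465],
  .sub [8, 14, 8, 6, 3] [.out 993],
  .sub [9, 14, 8, 6, 3] [.out 5796],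
  .sub [11, 14, 8, 6, 3] [.out 704],
  .sub [13, 14, 8, 6, 3] [.out 1684],
  .sub [14, 14, 8, 6, 3] [.out 3792],
  .sub [11, 17, 8, 6, 3] [.out 3413],
  .sub [3, 18, 8, 6, 3] [.out 2088],
  .sub [10, 18, 8, 6, 3] [.out 5331],
  .sub [13, 18, 8, 6, 3] [.out 3400],
  .sub [3, 21, 8, 6, 3] [.out 5339],
  .sub [11, 21, 8, 6, 3] [.out 4256],
  .sub [10, 6, 9, 6, 3] [.out 4781],
  .sub [12, 6, 9, 6, 3] [.out 3050],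
  .sub [2, 11, 9, 6, 3] [.out 4818],
  .sub [7, 11, 9, 6, 3] [.out 1829],
  .sub [10, 11, 9, 6, 3] [.out 2315],
  .sub [13, 11, 9, 6, 3] [.out 63],
  .sub [16, 11, 9, 6, 3] [.out 674],
  .sub [17, 11, 9, 6, 3] [.out 3706],
  .sub [18, 11, 9, 6, 3] [.out 3635],
  .sub [5, 16, 9, 6, 3] [.out 1932],
  .sub [5, 2, 10, 6, 3] [.out 1729],
  .sub [16, 4, 10, 6, 3] [.out 3976],
  .sub [4, 5, 10, 6, 3] [.out 5509]]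

/-- Branches. -/
def kidsXPart28 : List Branch := [
  .sub [20, 5, 10, 6, 3] [.out 951],
  .sub [11, 8, 10, 6, 3] [.out 3993],
  .sub [1, 9, 10, 6, 3] [.out 175],
  .sub [1, 11, 10, 6, 3] [.out 4425],
  .sub [2, 11, 10, 6, 3] [.sub [5, 3, 4, 8, 5, 5, 3, 4, 8, 5, 5, 3, 5, 3, 4, 8, 5, 5, 3, 4, 8, 5, 5, 3, 4, 8, 5, 5, 3, 5, 3, 4, 8, 5, 5, 3, 4, 8, 5] [.out 2226]],
  .sub [9, 11, 10, 6, 3] [.out 4630],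
  .sub [13, 11, 10, 6, 3] [.out 5119],
  .sub [20, 11, 10, 6, 3] [.out 2206],
  .sub [3, 12, 10, 6, 3] [.out 2421],
  .sub [9, 12, 10, 6, 3] [.out 5556],
  .sub [12, 12, 10, 6, 3] [.out 4233],
  .sub [19, 12, 10, 6, 3] [.out 792],
  .sub [6, 5, 11, 6, 3] [.out 6080],
  .sub [11, 5, 11, 6, 3] [.out 5625],
  .sub [5, 6, 11, 6, 3] [.out 2816],
  .sub [16, 9, 11, 6, 3] [.out 2106],
  .sub [8, 10, 11, 6, 3] [.out 842],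
  .sub [19, 12, 11, 6, 3] [.out 4999],
  .sub [5, 17, 11, 6, 3] [.sub [5, 3, 4, 8, 5, 5, 3, 5, 3, 4, 8, 5, 5, 3, 4, 8, 5, 5, 3, 5, 3, 5, 3, 4, 8, 5, 5, 3, 4, 8, 5, 5, 3] [.done 10]],
  .sub [12, 17, 11, 6, 3] [.out 2180],
  .sub [4, 18, 11, 6, 3] [.out 5419],
  .sub [11, 18, 11, 6, 3] [.out 5596],
  .sub [12, 18, 11, 6, 3] [.out 3104],
  .sub [13, 18, 11, 6, 3] [.out 293],
  .sub [5, 21, 11, 6, 3] [.out 5703],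
  .sub [9, 21, 11, 6, 3] [.out 1226],
  .sub [11, 6, 12, 6, 3] [.out 1179],
  .sub [18, 8, 12, 6, 3] [.sub [5, 3, 5, 3, 4, 8, 5, 5, 3, 5, 3, 4, 8, 5, 5, 3, 4, 8, 5, 5, 3, 4, 8, 5, 5, 3, 5, 3, 5, 3, 4, 8, 5, 5, 3] [.bad [3, 2, 0, 8, 3, 1, 3, 0, 2, 1, 0, 3, 3, 2, 0, 3, 3, 2, 0, 3, 3, 2, 0, 3, 2, 0, 8, 3, 1, 3, 0, 2, 1, 0, 3, 3, 2, 0, 3, 3, 2, 0, 3, 2, 0, 8, 3, 1, 3, 0, 2, 1, 0, 5, 3, 4, 8, 5, 5, 3, 5, 3, 4, 8, 5, 5, 3, 4, 8, 5, 5, 3, 4, 8, 5, 5, 3, 3, 2, 0, 8, 3, 1, 3, 0, 2, 1, 0, 3, 3, 2, 0, 3, 3, 2, 0, 3, 2, 0, 8, 3, 1, 3, 0, 2, 1, 0, 5, 3, 4, 8, 5, 5, 3, 4, 8, 5, 5, 3, 5, 3, 5, 3, 4, 8, 5] 1]],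
  .sub [17, 13, 12, 6, 3] [.out 3283],
  .sub [5, 17, 12, 6, 3] [.sub [5, 3, 4, 8, 5, 5, 3, 4, 8, 5, 5, 3, 5, 3, 4, 8, 5, 5, 3, 4, 8, 5, 5, 3, 5, 3, 4, 8, 5, 5, 3] [.out 3522]],
  .sub [14, 17, 12, 6, 3] [.out 3685],
  .sub [4, 21, 12, 6, 3] [.out 318],
  .sub [10, 21, 12, 6, 3] [.out 2450],
  .sub [8, 4, 13, 6, 3] [.out 2281],
  .sub [14, 4, 13, 6, 3] [.out 2700],
  .sub [16, 4, 13, 6, 3] [.out 3596],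
  .sub [4, 5, 13, 6, 3] [.out 4359],
  .sub [2, 8, 13, 6, 3] [.sub [5, 3, 4, 8, 5, 5, 3, 4, 8, 5, 5, 3, 5, 3, 5, 3, 4, 8, 5, 5, 3, 4, 8, 5, 5, 3, 5, 3] [.out 4875]],
  .sub [9, 8, 13, 6, 3] [.out 5933],
  .sub [13, 8, 13, 6, 3] [.out 2038],
  .sub [18, 8, 13, 6, 3] [.out 5316],
  .sub [13, 11, 13, 6, 3] [.out 1795],
  .sub [18, 11, 13, 6, 3] [.out 182],
  .sub [21, 12, 13, 6, 3] [.sub [5, 3, 5, 3, 4, 8, 5, 5, 3, 5, 3, 4, 8, 5, 5, 3, 4, 8, 5, 5, 3, 4, 8, 5, 5, 3, 5, 3] [.out 5334]],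
  .sub [11, 8, 16, 6, 3] [.sub [4, 8, 5, 5, 3, 5, 3, 4, 8, 5, 5, 3, 5, 3, 4, 8, 5, 5, 3, 4, 8, 5, 5, 3, 5, 3, 4, 8, 5, 5, 3, 5, 3, 5, 3, 4, 8, 5, 5, 3, 4, 8, 5, 5, 3, 5, 3, 4, 8, 5] [.out 2584]],
  .sub [14, 8, 16, 6, 3] [.out 5321],
  .sub [4, 11, 16, 6, 3] [.sub [5, 3, 5, 3, 5, 3, 4, 8, 5, 5, 3, 4, 8, 5, 5, 3, 5, 3, 4, 8, 5, 5, 3, 4, 8, 5, 5, 3, 4, 8, 5] [.out 2612]],
  .sub [21, 11, 16, 6, 3] [.out 2622],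
  .sub [0, 4, 17, 6, 3] [.out 1609],
  .sub [6, 4, 17, 6, 3] [.out 5334],
  .sub [9, 4, 17, 6, 3] [.out 2676],
  .sub [13, 4, 17, 6, 3] [.out 2894],
  .sub [14, 4, 17, 6, 3] [.out 5161],
  .sub [16, 4, 17, 6, 3] [.sub [5, 3, 5, 3, 4, 8, 5, 5, 3, 5, 3, 4, 8, 5, 5, 3, 4, 8, 5] [.out 427]],
  .sub [2, 8, 17, 6, 3] [.out 2518],
  .sub [17, 8, 17, 6, 3] [.out 4026],
  .sub [3, 12, 17, 6, 3] [.out 998],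
  .sub [4, 12, 17, 6, 3] [.sub [4, 8, 5, 5, 3, 5, 3, 4, 8, 5, 5, 3, 5, 3, 4, 8, 5, 5, 3, 4, 8, 5, 5, 3, 4, 8, 5, 5, 3, 5, 3, 4, 8, 5] [.out 422]],
  .sub [8, 12, 17, 6, 3] [.out 92],
  .sub [1, 4, 18, 6, 3] [.out 4784],
  .sub [2, 4, 18, 6, 3] [.out 235],
  .sub [5, 4, 18, 6, 3] [.sub [5, 3, 4, 8, 5, 5, 3, 5, 3, 4, 8, 5, 5, 3, 4, 8, 5, 5, 3, 5, 3, 5, 3, 4, 8, 5, 5, 3, 4, 8, 5, 5, 3, 5, 3, 4, 8, 5, 5, 3, 5, 3, 5, 3] [.out 1081]],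
  .sub [8, 4, 18, 6, 3] [.sub [4, 8, 5, 5, 3, 5, 3, 4, 8, 5, 5, 3, 4, 8, 5, 5, 3, 5, 3, 4, 8, 5, 5, 3] [.out 5457]],
  .sub [9, 4, 18, 6, 3] [.out 5852],
  .sub [16, 4, 18, 6, 3] [.sub [4, 8, 5, 5, 3, 5, 3, 4, 8, 5, 5, 3, 4, 8, 5, 5, 3, 5, 3, 4, 8, 5, 5, 3, 4, 8, 5, 5, 3, 5, 3, 4, 8, 5, 5, 3, 5, 3, 4, 8, 5, 5, 3] [.out 5837]],
  .sub [20, 4, 18, 6, 3] [.out 1446],
  .sub [4, 5, 18, 6, 3] [.out 4884],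
  .sub [8, 5, 18, 6, 3] [.out 6067],
  .sub [11, 5, 18, 6, 3] [.out 1216],
  .sub [12, 5, 18, 6, 3] [.out 5994],
  .sub [2, 8, 18, 6, 3] [.out 5200],
  .sub [20, 11, 18, 6, 3] [.out 3998],
  .sub [21, 11, 18, 6, 3] [.out 3574],
  .sub [21, 12, 18, 6, 3] [.sub [5, 3, 5, 3, 5, 3, 4, 8, 5, 5, 3, 4, 8, 5, 5, 3, 5, 3, 4, 8, 5, 5, 3, 4, 8, 5, 5, 3, 4, 8, 5, 5, 3, 5, 3, 4, 8, 5, 5, 3, 4, 8, 5] [.out 5043]],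
  .sub [5, 4, 19, 6, 3] [.out 1634],
  .sub [14, 4, 19, 6, 3] [.out 1823],
  .sub [19, 4, 19, 6, 3] [.sub [4, 8, 5, 5, 3, 5, 3, 4, 8, 5, 5, 3, 4, 8, 5, 5, 3, 5, 3, 5, 3, 4, 8, 5, 5, 3, 4, 8, 5, 5, 3] [.out 4823]],
  .sub [4, 8, 19, 6, 3] [.sub [5, 3, 4, 8, 5, 5, 3, 4, 8, 5, 5, 3, 4, 8, 5, 5, 3, 5, 3, 4, 8, 5, 5, 3, 4, 8, 5, 5, 3, 5, 3] [.out 2180]],
  .sub [17, 8, 19, 6, 3] [.out 3942],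
  .sub [1, 11, 19, 6, 3] [.out 4291],
  .sub [6, 11, 19, 6, 3] [.out 1411],
  .sub [16, 11, 19, 6, 3] [.out 6119],
  .sub [13, 12, 19, 6, 3] [.out 5345],
  .sub [14, 12, 19, 6, 3] [.sub [4, 8, 5, 5, 3, 5, 3, 5, 3, 4, 8, 5, 5, 3, 4, 8, 5, 5, 3, 5, 3, 5, 3, 4, 8, 5, 5, 3, 5, 3, 4, 8, 5, 5, 3] [.out 6039]],
  .sub [2, 4, 20, 6, 3] [.out 775],
  .sub [7, 4, 20, 6, 3] [.sub [4, 8, 5, 5, 3, 5, 3, 4, 8, 5, 5, 3, 4, 8, 5, 5, 3, 5, 3, 5, 3, 4, 8, 5, 5, 3] [.bad [3, 3, 2, 0, 3, 3, 2, 0, 3, 2, 0, 8, 3, 1, 3, 0, 2, 1, 0, 3, 3, 2, 0, 3, 3, 2, 0, 3, 3, 2, 0, 3, 2, 0, 8, 3, 1, 3, 0, 2, 1, 0, 3, 3, 2, 0, 3, 2, 0, 8, 3, 1, 3, 0, 2, 1, 0, 5, 3, 4, 8, 5, 5, 3, 5, 3, 4, 8, 5, 5, 3, 5, 3, 5, 3, 4, 8, 5, 5, 3, 5, 3, 3, 3, 2, 0, 3, 3, 2, 0, 3, 2, 0, 8, 3, 1, 3, 0, 2, 1, 0, 3, 3, 2, 0, 3, 3,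 2, 0, 3, 3, 2, 0, 3, 2, 0, 8, 3, 1, 3, 0, 2, 1, 0, 3, 3, 2, 0, 3, 2, 0, 8, 3, 1, 3, 0, 2, 1, 0, 5, 3, 4, 8, 5, 5, 3, 5, 3, 4, 8, 5, 5, 3, 5, 3, 5, 3, 4, 8, 5, 5, 3, 5, 3, 3, 2, 0, 8, 3, 1, 3, 0, 2, 1, 0, 3, 3, 2, 0, 3, 3, 2, 0, 3, 2, 0, 8, 3, 1, 3, 0, 2, 1, 0, 5, 3, 4, 8, 5, 5, 3, 4, 8, 5, 5, 3, 5, 3, 5, 3, 4, 8, 5] 1]],
  .sub [11, 4, 20, 6, 3] [.out 761],
  .sub [19, 11, 20, 6, 3] [.sub [4, 8, 5, 5, 3, 4, 8, 5, 5, 3, 4, 8, 5, 5, 3, 4, 8, 5, 5, 3, 5, 3, 4, 8, 5, 5, 3, 5, 3, 5, 3, 4, 8, 5, 5, 3, 4, 8, 5, 5, 3, 5, 3] [.out 67]],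
  .sub [21, 11, 20, 6, 3] [.out 2397],
  .sub [8, 4, 5, 11, 3] [.out 5108],
  .sub [19, 4, 5, 11, 3] [.out 166],
  .sub [5, 6, 5, 11, 3] [.out 4191],
  .sub [8, 6, 5, 11, 3] [.out 3932],
  .sub [12, 6, 5, 11, 3] [.out 188],
  .sub [16, 6, 5, 11, 3] [.out 4865],
  .sub [2, 11, 5, 11, 3] [.out 1877],
  .sub [6, 11, 5, 11, 3] [.out 3943],
  .sub [9, 11, 5, 11, 3] [.out 5799],
  .sub [19, 11, 5, 11, 3] [.out 2118],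
  .sub [11, 13, 5, 11, 3] [.out 153],
  .sub [6, 14, 5, 11, 3] [.out 2594],
  .sub [10, 14, 5, 11, 3] [.out 2904],
  .sub [13, 14, 5, 11, 3] [.out 534],
  .sub [11, 6, 9, 11, 3] [.out 798],
  .sub [6, 5, 10, 11, 3] [.sub [5, 3, 5, 3, 5, 3, 4, 8, 5, 5, 3, 4, 8, 5, 5, 3, 4, 8, 5, 5, 3] [.out 6062]],
  .sub [4, 12, 10, 11, 3] [.out 1084],
  .sub [21, 12, 10, 11, 3] [.out 4521],
  .sub [8, 6, 11, 11, 3] [.out 3866],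
  .sub [9, 6, 11, 11, 3] [.out 3907],
  .sub [13, 17, 11, 11, 3] [.out 921],
  .sub [8, 2, 12, 11, 3] [.sub [4, 8, 5, 5, 3, 4, 8, 5, 5, 3, 4, 8, 5, 5, 3, 4, 8, 5, 5, 3, 5, 3, 4, 8, 5, 5, 3, 4, 8, 5, 5, 3, 5, 3] [.out 3518]],
  .sub [12, 2, 12, 11, 3] [.out 2876],
  .sub [3, 4, 12, 11, 3] [.out 1385],
  .sub [5, 4, 12, 11, 3] [.out 4048],
  .sub [6, 4, 12, 11, 3] [.out 6031],
  .sub [8, 4, 12, 11, 3] [.out 1610],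
  .sub [16, 4, 12, 11, 3] [.out 936],
  .sub [19, 4, 12, 11, 3] [.out 5168],
  .sub [21, 4, 12, 11, 3] [.sub [5, 3, 5, 3, 4, 8, 5, 5, 3, 5, 3, 4, 8, 5, 5, 3, 4, 8, 5, 5, 3, 4, 8, 5, 5, 3, 5, 3] [.out 1229]],
  .sub [21, 7, 12, 11, 3] [.out 4724],
  .sub [1, 9, 12, 11, 3] [.sub [5, 3, 4, 8, 5, 5, 3, 4, 8, 5, 5, 3, 5, 3, 4, 8, 5, 5, 3, 5, 3, 5, 3, 4, 8, 5, 5, 3, 4, 8, 5] [.out 2386]],
  .sub [16, 9, 12, 11, 3] [.out 413],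
  .sub [8, 10, 12, 11, 3] [.out 2029],
  .sub [18, 10, 12, 11, 3] [.out 5202],
  .sub [7, 11, 12, 11, 3] [.out 2668],
  .sub [9, 11, 12, 11, 3] [.out 5413],
  .sub [13, 11, 12, 11, 3] [.out 1986],
  .sub [21, 11, 12, 11, 3] [.out 1684],
  .sub [0, 12, 12, 11, 3] [.out 5775],
  .sub [2, 12, 12, 11, 3] [.out 1520],
  .sub [5, 12, 12, 11, 3] [.out 1999],
  .sub [17, 12, 12, 11, 3] [.out 1473],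
  .sub [18, 12, 12, 11, 3] [.out 3177],
  .sub [3, 13, 12, 11, 3] [.out 2110],
  .sub [8, 13, 12, 11, 3] [.sub [5, 3, 4, 8, 5, 5, 3, 4, 8, 5, 5, 3, 5, 3, 4, 8, 5, 5, 3, 5, 3, 5, 3, 4, 8, 5, 5, 3, 4, 8, 5] [.out 2386]],
  .sub [17, 13, 12, 11, 3] [.out 5394],
  .sub [0, 17, 12, 11, 3] [.out 2504],
  .sub [5, 18, 12, 11, 3] [.out 5278],
  .sub [21, 20, 12, 11, 3] [.out 6053],
  .sub [7, 21, 12, 11, 3] [.out 3429],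
  .sub [10, 21, 12, 11, 3] [.out 4842],
  .sub [19, 21, 12, 11, 3] [.out 4888],
  .sub [2, 4, 17, 11, 3] [.out 38],
  .sub [4, 4, 17, 11, 3] [.out 4463],
  .sub [5, 4, 17, 11, 3] [.out 2304],
  .sub [7, 4, 17, 11, 3] [.out 3411],
  .sub [8, 4, 17, 11, 3] [.sub [5, 3, 4, 8, 5, 5, 3, 4, 8, 5, 5, 3, 5, 3, 4, 8, 5, 5, 3, 5, 3, 5, 3, 4, 8, 5, 5, 3, 4, 8, 5, 5, 3, 4, 8, 5] [.out 3001]],
  .sub [11, 4, 17, 11, 3] [.out 2438],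
  .sub [12, 4, 17, 11, 3] [.sub [5, 3, 4, 8, 5, 5, 3, 5, 3, 4, 8, 5, 5, 3, 5, 3, 5, 3, 4, 8, 5, 5, 3, 5, 3, 5, 3] [.out 3782]],
  .sub [12, 12, 17, 11, 3] [.out 1384],
  .sub [17, 12, 17, 11, 3] [.out 6001],
  .sub [21, 4, 18, 11, 3] [.out 2636],
  .sub [21, 8, 18, 11, 3] [.out 4414],
  .sub [17, 11, 18, 11, 3] [.out 5329],
  .sub [18, 11, 18, 11, 3] [.out 1884],
  .sub [4, 13, 18, 11, 3] [.out 6068],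
  .sub [7, 4, 1, 0, 4] [.out 2595],
  .sub [21, 4, 1, 0, 4] [.out 412],
  .sub [10, 12, 1, 0, 4] [.sub [5, 3, 4, 8, 5, 5, 3, 4, 8, 5, 5, 3, 4, 8, 5, 5, 3, 5, 3, 4, 8, 5, 5, 3, 4, 8, 5] [.out 2217]],
  .sub [11, 21, 1, 0, 4] [.out 2587],
  .sub [11, 4, 2, 0, 4] [.out 3815],
  .sub [16, 4, 2, 0, 4] [.out 3852],
  .sub [18, 4, 2, 0, 4] [.out 1816],
  .sub [20, 4, 2, 0, 4] [.sub [4, 8, 5, 5, 3, 4, 8, 5, 5, 3, 5, 3, 4, 8, 5, 5, 3, 4, 8, 5, 5, 3, 5, 3, 4, 8, 5, 5, 3, 5, 3] [.out 483]],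
  .sub [21, 5, 2, 0, 4] [.out 313],
  .sub [13, 8, 2, 0, 4] [.out 1469],
  .sub [14, 8, 2, 0, 4] [.sub [5, 3, 5, 3, 4, 8, 5, 5, 3, 5, 3, 4, 8, 5, 5, 3, 4, 8, 5, 5, 3, 4, 8, 5, 5, 3, 5, 3, 4, 8, 5, 5, 3, 5, 3] [.out 3112]],
  .sub [20, 8, 2, 0, 4] [.out 5274],
  .sub [16, 9, 2, 0, 4] [.sub [5, 3, 4, 8, 5, 5, 3, 5, 3, 4, 8, 5, 5, 3, 4, 8, 5, 5, 3, 5, 3] [.out 1173]],
  .sub [12, 18, 2, 0, 4] [.out 1337],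
  .sub [8, 19, 2, 0, 4] [.out 3467],
  .sub [11, 19, 2, 0, 4] [.out 787],
  .sub [4, 21, 2, 0, 4] [.out 5682],
  .sub [8, 21, 2, 0, 4] [.out 4583],
  .sub [12, 21, 2, 0, 4] [.out 4267],
  .sub [16, 6, 3, 0, 4] [.out 4075],
  .sub [6, 7, 3, 0, 4] [.out 422],
  .sub [21, 16, 3, 0, 4] [.sub [5, 3, 4, 8, 5, 5, 3, 5, 3, 4, 8, 5, 5, 3, 4, 8, 5, 5, 3, 4, 8, 5, 5, 3, 5, 3, 4, 8, 5, 5, 3, 4, 8, 5] [.out 32]],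
  .sub [4, 17, 3, 0, 4] [.out 1119],
  .sub [10, 18, 3, 0, 4] [.out 5168],
  .sub [14, 18, 3, 0, 4] [.out 794],
  .sub [21, 19, 3, 0, 4] [.out 5090],
  .sub [1, 21, 3, 0, 4] [.out 2988],
  .sub [6, 21, 3, 0, 4] [.out 1116],
  .sub [16, 21, 3, 0, 4] [.out 1609],
  .sub [21, 21, 3, 0, 4] [.sub [4, 8, 5, 5, 3, 5, 3, 4, 8, 5, 5, 3, 4, 8, 5, 5, 3, 5, 3, 5, 3, 4, 8, 5, 5, 3, 4, 8, 5, 5, 3, 5, 3] [.out 975]],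
  .sub [12, 2, 4, 0, 4] [.out 4516],
  .sub [16, 2, 4, 0, 4] [.out 1235],
  .sub [20, 2, 4, 0, 4] [.sub [4, 8, 5, 5, 3, 5, 3, 4, 8, 5, 5, 3, 4, 8, 5, 5, 3] [.out 3705]],
  .sub [21, 2, 4, 0, 4] [.sub [5, 3, 4, 8, 5, 5, 3, 5, 3, 4, 8, 5, 5, 3, 5, 3, 4, 8, 5, 5, 3, 4, 8, 5, 5, 3, 5, 3, 5, 3] [.out 3504]],
  .sub [7, 3, 4, 0, 4] [.out 3526],
  .sub [21, 3, 4, 0, 4] [.sub [5, 3, 5, 3, 5, 3, 4, 8, 5, 5, 3, 4, 8, 5, 5, 3, 5, 3, 4, 8, 5, 5, 3, 5, 3, 5, 3, 4, 8, 5, 5, 3, 5, 3, 4, 8, 5, 5, 3] [.out 4606]]]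

/-- Branches. -/
def kidsXPart29 : List Branch := [
  .sub [9, 4, 4, 0, 4] [.out 185],
  .sub [12, 4, 4, 0, 4] [.out 1831],
  .sub [14, 4, 4, 0, 4] [.out 456],
  .sub [4, 5, 4, 0, 4] [.out 2833],
  .sub [19, 5, 4, 0, 4] [.out 6009],
  .sub [4, 7, 4, 0, 4] [.out 1650],
  .sub [9, 7, 4, 0, 4] [.out 4388],
  .sub [10, 7, 4, 0, 4] [.out 6045],
  .sub [11, 7, 4, 0, 4] [.out 4386],
  .sub [14, 7, 4, 0, 4] [.out 3138],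
  .sub [17, 8, 4, 0, 4] [.out 3907],
  .sub [20, 8, 4, 0, 4] [.out 3431],
  .sub [11, 9, 4, 0, 4] [.out 2825],
  .sub [3, 10, 4, 0, 4] [.out 4290],
  .sub [6, 10, 4, 0, 4] [.out 5272],
  .sub [8, 10, 4, 0, 4] [.out 5900],
  .sub [17, 10, 4, 0, 4] [.out 5879],
  .sub [21, 10, 4, 0, 4] [.out 2815],
  .sub [19, 12, 4, 0, 4] [.out 310],
  .sub [2, 13, 4, 0, 4] [.out 4784],
  .sub [5, 13, 4, 0, 4] [.out 686],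
  .sub [14, 14, 4, 0, 4] [.out 1772],
  .sub [6, 17, 4, 0, 4] [.out 2812],
  .sub [14, 18, 4, 0, 4] [.out 5824],
  .sub [6, 19, 4, 0, 4] [.out 1706],
  .sub [8, 21, 4, 0, 4] [.out 2045],
  .sub [17, 21, 4, 0, 4] [.out 2800],
  .sub [0, 4, 5, 0, 4] [.out 4224],
  .sub [10, 4, 5, 0, 4] [.sub [4, 8, 5, 5, 3, 5, 3, 4, 8, 5, 5, 3, 4, 8, 5, 5, 3, 5, 3, 4, 8, 5, 5, 3, 5, 3, 5, 3, 4, 8, 5, 5, 3, 4, 8, 5, 5, 3, 5, 3, 4, 8, 5] [.out 3682]],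
  .sub [4, 6, 5, 0, 4] [.out 250],
  .sub [21, 7, 5, 0, 4] [.out 1343],
  .sub [10, 10, 5, 0, 4] [.out 5949],
  .sub [12, 10, 5, 0, 4] [.out 1290],
  .sub [13, 10, 5, 0, 4] [.out 703],
  .sub [2, 13, 5, 0, 4] [.out 5070],
  .sub [3, 13, 5, 0, 4] [.out 4756],
  .sub [10, 13, 5, 0, 4] [.out 2847],
  .sub [11, 13, 5, 0, 4] [.sub [5, 3, 4, 8, 5, 5, 3, 4, 8, 5, 5, 3, 5, 3, 4, 8, 5, 5, 3, 5, 3, 4, 8, 5, 5, 3] [.out 3482]],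
  .sub [13, 13, 5, 0, 4] [.out 4048],
  .sub [21, 13, 5, 0, 4] [.out 5890],
  .sub [18, 14, 5, 0, 4] [.out 5006],
  .sub [12, 18, 5, 0, 4] [.out 5772],
  .sub [14, 18, 5, 0, 4] [.out 1445],
  .sub [21, 18, 5, 0, 4] [.out 2709],
  .sub [21, 21, 5, 0, 4] [.out 4129],
  .sub [21, 3, 7, 0, 4] [.out 3790],
  .sub [0, 4, 7, 0, 4] [.out 2652],
  .sub [1, 4, 7, 0, 4] [.out 3416],
  .sub [11, 4, 7, 0, 4] [.out 5128],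
  .sub [18, 4, 7, 0, 4] [.out 5436],
  .sub [19, 4, 7, 0, 4] [.out 2033],
  .sub [20, 4, 7, 0, 4] [.out 3982],
  .sub [11, 9, 7, 0, 4] [.out 6097],
  .sub [12, 10, 7, 0, 4] [.out 5806],
  .sub [21, 12, 7, 0, 4] [.out 2255],
  .sub [11, 13, 7, 0, 4] [.out 4382],
  .sub [8, 14, 7, 0, 4] [.out 545],
  .sub [8, 17, 7, 0, 4] [.out 3584],
  .sub [11, 17, 7, 0, 4] [.sub [4, 8, 5, 5, 3, 4, 8, 5, 5, 3, 5, 3, 5, 3, 4, 8, 5, 5, 3, 4, 8, 5, 5, 3, 5, 3, 5, 3, 4, 8, 5, 5, 3, 5, 3, 4, 8, 5, 5, 3, 4, 8, 5, 5, 3, 4, 8, 5] [.out 3928]],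
  .sub [21, 2, 8, 0, 4] [.out 3569],
  .sub [10, 5, 8, 0, 4] [.out 297],
  .sub [18, 5, 8, 0, 4] [.out 6149],
  .sub [12, 6, 8, 0, 4] [.out 4460],
  .sub [10, 7, 8, 0, 4] [.out 4842],
  .sub [16, 16, 8, 0, 4] [.out 1480],
  .sub [21, 16, 8, 0, 4] [.sub [5, 3, 4, 8, 5, 5, 3, 5, 3, 4, 8, 5, 5, 3, 4, 8, 5, 5, 3, 5, 3, 4, 8, 5, 5, 3, 5, 3, 5, 3, 4, 8, 5, 5, 3, 4, 8, 5] [.out 1212]],
  .sub [11, 17, 8, 0, 4] [.out 2092],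
  .sub [12, 17, 8, 0, 4] [.sub [5, 3, 5, 3, 4, 8, 5, 5, 3, 5, 3, 4, 8, 5, 5, 3, 4, 8, 5, 5, 3] [.out 4947]],
  .sub [5, 21, 8, 0, 4] [.out 3661],
  .sub [9, 21, 8, 0, 4] [.out 5784],
  .sub [17, 1, 9, 0, 4] [.sub [4, 8, 5, 5, 3, 4, 8, 5, 5, 3, 4, 8, 5, 5, 3, 5, 3, 4, 8, 5, 5, 3] [.out 5377]],
  .sub [19, 1, 9, 0, 4] [.out 1874],
  .sub [21, 1, 9, 0, 4] [.out 1281],
  .sub [8, 16, 9, 0, 4] [.out 4575],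
  .sub [11, 16, 9, 0, 4] [.out 3519],
  .sub [21, 16, 9, 0, 4] [.sub [5, 3, 5, 3, 4, 8, 5, 5, 3, 4, 8, 5, 5, 3, 4, 8, 5, 5, 3, 5, 3, 4, 8, 5, 5, 3, 4, 8, 5, 5, 3, 5, 3, 4, 8, 5, 5, 3] [.out 709]],
  .sub [8, 19, 9, 0, 4] [.out 463],
  .sub [11, 19, 9, 0, 4] [.out 1913],
  .sub [17, 0, 11, 0, 4] [.out 3071],
  .sub [21, 0, 11, 0, 4] [.sub [5, 3, 5, 3, 5, 3, 4, 8, 5, 5, 3, 4, 8, 5, 5, 3, 5, 3, 5, 3, 4, 8, 5, 5, 3, 5, 3, 4, 8, 5, 5, 3, 4, 8, 5, 5, 3, 4, 8, 5] [.out 3814]],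
  .sub [11, 2, 11, 0, 4] [.sub [5, 3, 4, 8, 5, 5, 3, 4, 8, 5, 5, 3, 5, 3, 4, 8, 5, 5, 3, 4, 8, 5, 5, 3, 4, 8, 5, 5, 3, 5, 3, 4, 8, 5] [.out 3848]],
  .sub [21, 6, 11, 0, 4] [.out 4107],
  .sub [17, 9, 11, 0, 4] [.out 5829],
  .sub [4, 10, 11, 0, 4] [.out 5837],
  .sub [5, 10, 11, 0, 4] [.out 3446],
  .sub [18, 12, 11, 0, 4] [.out 5545],
  .sub [6, 17, 11, 0, 4] [.out 5294],
  .sub [10, 17, 11, 0, 4] [.out 3923],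
  .sub [21, 17, 11, 0, 4] [.out 2760],
  .sub [10, 18, 11, 0, 4] [.out 1544],
  .sub [6, 19, 11, 0, 4] [.out 3803],
  .sub [6, 20, 11, 0, 4] [.out 4247],
  .sub [1, 21, 11, 0, 4] [.out 5079],
  .sub [5, 21, 11, 0, 4] [.sub [5, 3, 4, 8, 5, 5, 3, 5, 3, 5, 3, 4, 8, 5, 5, 3, 5, 3, 5, 3] [.out 1460]],
  .sub [17, 21, 11, 0, 4] [.out 1449],
  .sub [18, 21, 11, 0, 4] [.out 1077],
  .sub [19, 21, 11, 0, 4] [.out 297],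
  .sub [8, 0, 12, 0, 4] [.out 3840],
  .sub [21, 0, 12, 0, 4] [.out 2223],
  .sub [6, 3, 12, 0, 4] [.out 3905],
  .sub [14, 3, 12, 0, 4] [.sub [4, 8, 5, 5, 3, 5, 3, 4, 8, 5, 5, 3, 5, 3, 4, 8, 5, 5, 3, 4, 8, 5, 5, 3, 5, 3, 4, 8, 5, 5, 3, 4, 8, 5, 5, 3, 5, 3, 5, 3] [.out 1845]],
  .sub [18, 3, 12, 0, 4] [.out 5867],
  .sub [19, 3, 12, 0, 4] [.out 2072],
  .sub [4, 4, 12, 0, 4] [.out 1470],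
  .sub [5, 4, 12, 0, 4] [.out 3780],
  .sub [10, 4, 12, 0, 4] [.sub [5, 3, 5, 3, 4, 8, 5, 5, 3, 4, 8, 5, 5, 3, 4, 8, 5, 5, 3, 5, 3, 4, 8, 5, 5, 3, 5, 3, 4, 8, 5, 5, 3, 4, 8, 5, 5, 3] [.out 1651]],
  .sub [13, 4, 12, 0, 4] [.out 3239],
  .sub [20, 4, 12, 0, 4] [.out 2445],
  .sub [13, 5, 12, 0, 4] [.out 5736],
  .sub [4, 7, 12, 0, 4] [.out 2053],
  .sub [8, 7, 12, 0, 4] [.out 766],
  .sub [9, 7, 12, 0, 4] [.sub [4, 8, 5, 5, 3, 5, 3, 4, 8, 5, 5, 3, 4, 8, 5, 5, 3, 5, 3, 4, 8, 5, 5, 3, 4, 8, 5, 5, 3, 5, 3, 5, 3, 4, 8, 5, 5, 3, 4, 8, 5, 5, 3] [.out 5266]],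
  .sub [11, 7, 12, 0, 4] [.out 2397],
  .sub [18, 7, 12, 0, 4] [.out 3294],
  .sub [21, 7, 12, 0, 4] [.out 4175],
  .sub [21, 9, 12, 0, 4] [.out 3593],
  .sub [0, 11, 12, 0, 4] [.out 4941],
  .sub [12, 11, 12, 0, 4] [.out 3580],
  .sub [8, 12, 12, 0, 4] [.out 1687],
  .sub [10, 12, 12, 0, 4] [.out 1315],
  .sub [12, 12, 12, 0, 4] [.out 713],
  .sub [14, 12, 12, 0, 4] [.sub [5, 3, 4, 8, 5, 5, 3, 4, 8, 5, 5, 3, 4, 8, 5, 5, 3, 5, 3, 5, 3, 4, 8, 5, 5, 3, 4, 8, 5, 5, 3] [.out 655]],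
  .sub [11, 13, 12, 0, 4] [.out 1952],
  .sub [6, 14, 12, 0, 4] [.out 3978],
  .sub [13, 17, 12, 0, 4] [.out 1107],
  .sub [21, 17, 12, 0, 4] [.out 4269],
  .sub [9, 18, 12, 0, 4] [.out 1474],
  .sub [10, 18, 12, 0, 4] [.out 1800],
  .sub [13, 18, 12, 0, 4] [.out 400],
  .sub [5, 19, 12, 0, 4] [.out 3167],
  .sub [8, 19, 12, 0, 4] [.out 2642],
  .sub [12, 19, 12, 0, 4] [.sub [5, 3, 4, 8, 5, 5, 3, 4, 8, 5, 5, 3, 5, 3, 4, 8, 5, 5, 3, 5, 3, 4, 8, 5, 5, 3, 4, 8, 5, 5, 3, 4, 8, 5, 5, 3, 5, 3, 4, 8, 5] [.out 1038]],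
  .sub [8, 20, 12, 0, 4] [.out 830],
  .sub [16, 20, 12, 0, 4] [.out 3860],
  .sub [3, 21, 12, 0, 4] [.out 1725],
  .sub [9, 21, 12, 0, 4] [.out 1723],
  .sub [18, 21, 12, 0, 4] [.out 1298],
  .sub [10, 5, 16, 0, 4] [.out 2372],
  .sub [20, 5, 16, 0, 4] [.out 2309],
  .sub [21, 5, 16, 0, 4] [.out 2015],
  .sub [16, 8, 16, 0, 4] [.out 1087],
  .sub [3, 11, 16, 0, 4] [.out 2139],
  .sub [10, 17, 16, 0, 4] [.out 260],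
  .sub [12, 17, 16, 0, 4] [.sub [5, 3, 4, 8, 5, 5, 3, 5, 3, 4, 8, 5, 5, 3, 4, 8, 5, 5, 3, 4, 8, 5, 5, 3, 5, 3, 4, 8, 5, 5, 3] [.out 1845]],
  .sub [4, 18, 16, 0, 4] [.sub [5, 3, 5, 3, 4, 8, 5, 5, 3, 4, 8, 5, 5, 3, 4, 8, 5, 5, 3, 5, 3, 5, 3, 4, 8, 5, 5, 3, 4, 8, 5] [.out 3522]],
  .sub [5, 19, 16, 0, 4] [.sub [4, 8, 5, 5, 3, 5, 3, 5, 3, 4, 8, 5, 5, 3, 4, 8, 5, 5, 3, 4, 8, 5, 5, 3, 5, 3, 4, 8, 5, 5, 3] [.bad [3, 3, 2, 0, 3, 3, 2, 0, 3, 2, 0, 8, 3, 1, 3, 0, 2, 1, 0, 3, 3, 2, 0, 3, 3, 2, 0, 3, 3, 2, 0, 3, 2, 0, 8, 3, 1, 3, 0, 2, 1, 0, 3, 3, 2, 0, 3, 2, 0, 8, 3, 1, 3, 0, 2, 1, 0, 5, 3, 4, 8, 5, 5, 3, 5, 3, 4, 8, 5, 5, 3, 5, 3, 5, 3, 4, 8, 5, 5, 3, 5, 3] 1]],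
  .sub [8, 19, 16, 0, 4] [.out 1408],
  .sub [8, 21, 16, 0, 4] [.out 1393],
  .sub [17, 4, 17, 0, 4] [.out 1685],
  .sub [21, 4, 17, 0, 4] [.out 5516],
  .sub [8, 6, 17, 0, 4] [.out 2542],
  .sub [11, 6, 17, 0, 4] [.out 4690],
  .sub [3, 13, 17, 0, 4] [.out 48],
  .sub [3, 16, 17, 0, 4] [.out 1062],
  .sub [4, 21, 17, 0, 4] [.out 3521],
  .sub [8, 21, 17, 0, 4] [.out 6009],
  .sub [11, 21, 17, 0, 4] [.out 3343],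
  .sub [4, 3, 18, 0, 4] [.out 5620],
  .sub [21, 3, 18, 0, 4] [.out 4866],
  .sub [5, 4, 18, 0, 4] [.out 6073],
  .sub [12, 4, 18, 0, 4] [.out 6017],
  .sub [13, 4, 18, 0, 4] [.out 4792],
  .sub [16, 4, 18, 0, 4] [.out 5366],
  .sub [21, 5, 18, 0, 4] [.out 838],
  .sub [3, 6, 18, 0, 4] [.sub [5, 3, 4, 8, 5, 5, 3, 4, 8, 5, 5, 3, 5, 3, 4, 8, 5, 5, 3, 4, 8, 5] [.out 975]],
  .sub [4, 6, 18, 0, 4] [.out 5221],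
  .sub [8, 6, 18, 0, 4] [.out 5247],
  .sub [11, 6, 18, 0, 4] [.sub [5, 3, 4, 8, 5, 5, 3, 5, 3, 4, 8, 5, 5, 3, 4, 8, 5, 5, 3, 5, 3, 4, 8, 5, 5, 3, 4, 8, 5, 5, 3, 5, 3, 5, 3, 4, 8, 5, 5, 3, 4, 8, 5, 5, 3] [.out 730]],
  .sub [10, 8, 18, 0, 4] [.out 5050],
  .sub [9, 11, 18, 0, 4] [.out 4098],
  .sub [11, 11, 18, 0, 4] [.out 1073],
  .sub [21, 11, 18, 0, 4] [.out 2544],
  .sub [5, 12, 18, 0, 4] [.out 3143],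
  .sub [10, 12, 18, 0, 4] [.out 5830],
  .sub [11, 12, 18, 0, 4] [.out 2521],
  .sub [12, 13, 18, 0, 4] [.out 3970],
  .sub [8, 0, 19, 0, 4] [.out 1142],
  .sub [2, 4, 19, 0, 4] [.out 993],
  .sub [5, 4, 19, 0, 4] [.out 4906],
  .sub [19, 4, 19, 0, 4] [.out 4972],
  .sub [21, 4, 19, 0, 4] [.out 3010],
  .sub [4, 5, 19, 0, 4] [.out 723],
  .sub [21, 5, 19, 0, 4] [.sub [4, 8, 5, 5, 3, 4, 8, 5, 5, 3, 5, 3, 4, 8, 5, 5, 3, 4, 8, 5, 5, 3, 4, 8, 5, 5, 3, 5, 3, 4, 8, 5, 5, 3, 4, 8, 5, 5, 3, 4, 8, 5] [.out 736]],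
  .sub [3, 6, 19, 0, 4] [.out 6097],
  .sub [4, 6, 19, 0, 4] [.out 3760],
  .sub [12, 6, 19, 0, 4] [.out 1541],
  .sub [4, 8, 19, 0, 4] [.out 4934],
  .sub [2, 11, 19, 0, 4] [.out 2421],
  .sub [11, 11, 19, 0, 4] [.out 1483],
  .sub [18, 11, 19, 0, 4] [.out 2490],
  .sub [11, 16, 19, 0, 4] [.out 623],
  .sub [4, 21, 19, 0, 4] [.out 3578]]

/-- Branches. -/
def kidsXPart30 : List Branch := [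
  .sub [7, 21, 19, 0, 4] [.out 3078],
  .sub [8, 21, 19, 0, 4] [.out 5252],
  .sub [11, 21, 19, 0, 4] [.out 3679],
  .sub [12, 21, 19, 0, 4] [.out 180],
  .sub [0, 4, 21, 0, 4] [.out 2641],
  .sub [13, 4, 21, 0, 4] [.out 4059],
  .sub [14, 4, 21, 0, 4] [.out 1521],
  .sub [11, 5, 21, 0, 4] [.out 3527],
  .sub [12, 5, 21, 0, 4] [.out 246],
  .sub [21, 5, 21, 0, 4] [.out 840],
  .sub [2, 6, 21, 0, 4] [.out 36],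
  .sub [18, 8, 21, 0, 4] [.out 2601],
  .sub [20, 8, 21, 0, 4] [.out 2851],
  .sub [7, 11, 21, 0, 4] [.out 5777],
  .sub [13, 11, 21, 0, 4] [.sub [5, 3, 4, 8, 5, 5, 3, 5, 3, 4, 8, 5, 5, 3] [.out 1333]],
  .sub [20, 11, 21, 0, 4] [.out 3501],
  .sub [8, 12, 21, 0, 4] [.out 5017],
  .sub [4, 17, 21, 0, 4] [.out 2899],
  .sub [8, 17, 21, 0, 4] [.out 1115],
  .sub [12, 17, 21, 0, 4] [.out 1745],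
  .sub [12, 21, 21, 0, 4] [.out 3511],
  .sub [11, 6, 2, 1, 4] [.out 720],
  .sub [2, 11, 2, 1, 4] [.sub [5, 3, 4, 8, 5, 5, 3, 4, 8, 5, 5, 3, 4, 8, 5, 5, 3, 5, 3, 4, 8, 5, 5, 3, 5, 3, 5, 3, 4, 8, 5, 5, 3, 4, 8, 5, 5, 3, 5, 3] [.out 5266]],
  .sub [5, 11, 2, 1, 4] [.out 658],
  .sub [9, 11, 2, 1, 4] [.out 269],
  .sub [12, 11, 2, 1, 4] [.out 3507],
  .sub [13, 11, 2, 1, 4] [.out 3085],
  .sub [18, 11, 2, 1, 4] [.out 1187],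
  .sub [20, 11, 2, 1, 4] [.out 2976],
  .sub [13, 3, 4, 1, 4] [.out 2750],
  .sub [0, 4, 4, 1, 4] [.sub [4, 8, 5, 5, 3, 5, 3, 4, 8, 5, 5, 3, 4, 8, 5, 5, 3, 5, 3, 4, 8, 5, 5, 3, 4, 8, 5, 5, 3, 5, 3, 5, 3] [.out 2049]],
  .sub [2, 4, 4, 1, 4] [.sub [4, 8, 5, 5, 3, 4, 8, 5, 5, 3, 5, 3, 5, 3, 4, 8, 5, 5, 3, 5, 3, 4, 8, 5, 5, 3, 4, 8, 5, 5, 3, 4, 8, 5, 5, 3, 5, 3] [.out 1173]],
  .sub [7, 4, 4, 1, 4] [.out 2162],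
  .sub [19, 4, 4, 1, 4] [.out 4235],
  .sub [21, 4, 4, 1, 4] [.out 1766],
  .sub [17, 5, 4, 1, 4] [.out 4389],
  .sub [5, 8, 4, 1, 4] [.out 4942],
  .sub [16, 9, 4, 1, 4] [.out 5616],
  .sub [16, 20, 4, 1, 4] [.sub [5, 3, 4, 8, 5, 5, 3, 5, 3, 4, 8, 5, 5, 3, 4, 8, 5, 5, 3, 5, 3, 4, 8, 5, 5, 3, 5, 3, 5, 3, 4, 8, 5, 5, 3, 4, 8, 5] [.out 826]],
  .sub [6, 3, 6, 1, 4] [.out 482],
  .sub [0, 4, 6, 1, 4] [.out 97],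
  .sub [20, 4, 6, 1, 4] [.out 6127],
  .sub [2, 5, 6, 1, 4] [.out 6035],
  .sub [20, 5, 6, 1, 4] [.out 2899],
  .sub [4, 7, 6, 1, 4] [.out 4501],
  .sub [16, 8, 6, 1, 4] [.out 6078],
  .sub [16, 9, 6, 1, 4] [.out 826],
  .sub [9, 11, 6, 1, 4] [.sub [5, 3, 5, 3, 5, 3, 4, 8, 5, 5, 3, 4, 8, 5, 5, 3, 5, 3, 5, 3, 4, 8, 5, 5, 3, 4, 8, 5, 5, 3] [.out 5043]],
  .sub [10, 11, 6, 1, 4] [.out 2084],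
  .sub [13, 11, 6, 1, 4] [.sub [4, 8, 5, 5, 3, 4, 8, 5, 5, 3, 5, 3, 5, 3, 4, 8, 5, 5, 3, 5, 3, 4, 8, 5, 5, 3, 4, 8, 5, 5, 3, 4, 8, 5] [.out 810]],
  .sub [20, 11, 6, 1, 4] [.out 3394],
  .sub [6, 12, 6, 1, 4] [.out 985],
  .sub [8, 13, 6, 1, 4] [.out 3235],
  .sub [1, 4, 10, 1, 4] [.out 4794],
  .sub [6, 4, 10, 1, 4] [.out 1400],
  .sub [7, 4, 10, 1, 4] [.out 860],
  .sub [10, 4, 10, 1, 4] [.out 861],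
  .sub [11, 4, 10, 1, 4] [.out 429],
  .sub [13, 4, 10, 1, 4] [.out 6080],
  .sub [18, 4, 10, 1, 4] [.sub [5, 3, 4, 8, 5, 5, 3, 4, 8, 5, 5, 3, 4, 8, 5, 5, 3, 5, 3, 5, 3, 4, 8, 5, 5, 3, 5, 3, 5, 3] [.out 3537]],
  .sub [19, 4, 10, 1, 4] [.sub [5, 3, 5, 3, 4, 8, 5, 5, 3, 5, 3, 4, 8, 5, 5, 3, 4, 8, 5, 5, 3, 5, 3, 5, 3, 4, 8, 5, 5, 3, 5, 3] [.out 1743]],
  .sub [0, 8, 10, 1, 4] [.out 4757],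
  .sub [1, 8, 10, 1, 4] [.out 943],
  .sub [2, 8, 10, 1, 4] [.out 5702],
  .sub [14, 8, 10, 1, 4] [.out 3991],
  .sub [21, 8, 10, 1, 4] [.out 5811],
  .sub [12, 10, 10, 1, 4] [.sub [5, 3, 5, 3, 4, 8, 5, 5, 3, 5, 3, 5, 3, 4, 8, 5, 5, 3, 5, 3] [.out 2471]],
  .sub [1, 11, 10, 1, 4] [.out 2506],
  .sub [10, 11, 10, 1, 4] [.out 3462],
  .sub [12, 11, 10, 1, 4] [.out 4488],
  .sub [13, 11, 10, 1, 4] [.out 2712],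
  .sub [17, 11, 10, 1, 4] [.out 5847],
  .sub [18, 11, 10, 1, 4] [.out 2052],
  .sub [21, 11, 10, 1, 4] [.out 5404],
  .sub [4, 13, 10, 1, 4] [.out 2521],
  .sub [8, 13, 10, 1, 4] [.out 2771],
  .sub [6, 5, 11, 1, 4] [.out 2512],
  .sub [5, 6, 11, 1, 4] [.out 1125],
  .sub [16, 9, 11, 1, 4] [.out 3563],
  .sub [5, 10, 11, 1, 4] [.out 2930],
  .sub [2, 12, 11, 1, 4] [.out 671],
  .sub [4, 12, 11, 1, 4] [.out 5520],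
  .sub [7, 12, 11, 1, 4] [.out 4817],
  .sub [11, 12, 11, 1, 4] [.out 4563],
  .sub [13, 12, 11, 1, 4] [.out 39],
  .sub [18, 12, 11, 1, 4] [.out 4781],
  .sub [19, 12, 11, 1, 4] [.out 3780],
  .sub [20, 12, 11, 1, 4] [.out 1125],
  .sub [7, 13, 11, 1, 4] [.out 1493],
  .sub [9, 13, 11, 1, 4] [.out 5808],
  .sub [12, 13, 11, 1, 4] [.out 706],
  .sub [17, 13, 11, 1, 4] [.out 3306],
  .sub [4, 18, 11, 1, 4] [.out 3719],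
  .sub [8, 18, 11, 1, 4] [.out 5087],
  .sub [10, 18, 11, 1, 4] [.out 5841],
  .sub [14, 18, 11, 1, 4] [.out 5952],
  .sub [16, 20, 11, 1, 4] [.out 3566],
  .sub [8, 4, 12, 1, 4] [.out 5298],
  .sub [9, 5, 12, 1, 4] [.sub [5, 3, 4, 8, 5, 5, 3, 5, 3, 4, 8, 5, 5, 3, 5, 3, 5, 3, 4, 8, 5, 5, 3, 5, 3, 5, 3] [.out 4980]],
  .sub [19, 5, 12, 1, 4] [.out 60],
  .sub [21, 11, 12, 1, 4] [.out 2782],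
  .sub [5, 4, 13, 1, 4] [.out 2898],
  .sub [21, 4, 13, 1, 4] [.out 4599],
  .sub [4, 6, 13, 1, 4] [.out 5676],
  .sub [8, 6, 13, 1, 4] [.sub [5, 3, 5, 3, 4, 8, 5, 5, 3, 4, 8, 5, 5, 3, 5, 3, 4, 8, 5, 5, 3, 5, 3, 5, 3, 4, 8, 5, 5, 3, 4, 8, 5, 5, 3, 5, 3, 4, 8, 5] [.out 4504]],
  .sub [6, 8, 13, 1, 4] [.out 3478],
  .sub [21, 8, 13, 1, 4] [.sub [4, 8, 5, 5, 3, 4, 8, 5, 5, 3, 4, 8, 5, 5, 3, 5, 3, 5, 3, 4, 8, 5, 5, 3, 5, 3, 4, 8, 5, 5, 3, 4, 8, 5, 5, 3] [.done 6]],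
  .sub [0, 11, 13, 1, 4] [.out 729],
  .sub [13, 11, 13, 1, 4] [.out 5217],
  .sub [12, 12, 13, 1, 4] [.sub [5, 3, 4, 8, 5] [.out 541]],
  .sub [11, 19, 13, 1, 4] [.out 1227],
  .sub [4, 20, 13, 1, 4] [.out 1038],
  .sub [11, 20, 13, 1, 4] [.sub [4, 8, 5, 5, 3, 5, 3, 4, 8, 5, 5, 3, 5, 3, 5, 3, 4, 8, 5] [.out 5794]],
  .sub [3, 4, 14, 1, 4] [.out 607],
  .sub [5, 4, 14, 1, 4] [.out 5065],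
  .sub [21, 4, 14, 1, 4] [.out 6060],
  .sub [5, 11, 14, 1, 4] [.sub [5, 3, 5, 3, 4, 8, 5, 5, 3, 5, 3, 4, 8, 5, 5, 3, 4, 8, 5, 5, 3, 5, 3, 4, 8, 5, 5, 3, 4, 8, 5, 5, 3] [.out 2691]],
  .sub [7, 11, 14, 1, 4] [.out 3565],
  .sub [19, 11, 14, 1, 4] [.out 596],
  .sub [12, 21, 14, 1, 4] [.out 3837],
  .sub [14, 21, 14, 1, 4] [.out 4578],
  .sub [10, 4, 17, 1, 4] [.out 5168],
  .sub [16, 11, 17, 1, 4] [.out 5103],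
  .sub [4, 4, 20, 1, 4] [.out 3108],
  .sub [11, 4, 20, 1, 4] [.out 3431],
  .sub [17, 4, 20, 1, 4] [.out 2868],
  .sub [4, 6, 20, 1, 4] [.sub [5, 3, 5, 3, 4, 8, 5, 5, 3, 5, 3, 5, 3, 4, 8, 5, 5, 3, 4, 8, 5, 5, 3, 4, 8, 5, 5, 3, 5, 3] [.out 3375]],
  .sub [11, 6, 20, 1, 4] [.out 4982],
  .sub [12, 6, 20, 1, 4] [.sub [5, 3, 4, 8, 5, 5, 3, 4, 8, 5, 5, 3, 5, 3, 4, 8, 5, 5, 3] [.out 1229]],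
  .sub [11, 11, 21, 1, 4] [.sub [4, 8, 5, 5, 3, 5, 3, 4, 8, 5, 5, 3, 4, 8, 5, 5, 3, 5, 3, 5, 3, 4, 8, 5, 5, 3, 4, 8, 5] [.out 5439]],
  .sub [5, 4, 3, 2, 4] [.out 3943],
  .sub [19, 4, 3, 2, 4] [.out 5992],
  .sub [3, 6, 3, 2, 4] [.out 5249],
  .sub [9, 6, 3, 2, 4] [.out 6011],
  .sub [18, 6, 3, 2, 4] [.sub [4, 8, 5, 5, 3, 5, 3, 5, 3, 4, 8, 5, 5, 3, 5, 3, 4, 8, 5, 5, 3, 4, 8, 5, 5, 3, 5, 3, 5, 3, 4, 8, 5, 5, 3, 4, 8, 5, 5, 3, 5, 3] [.out 471]],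
  .sub [19, 6, 3, 2, 4] [.out 3448],
  .sub [21, 6, 3, 2, 4] [.out 2762],
  .sub [7, 11, 3, 2, 4] [.sub [4, 8, 5, 5, 3, 5, 3, 4, 8, 5, 5, 3, 5, 3, 5, 3, 4, 8, 5, 5, 3, 4, 8, 5, 5, 3, 5, 3, 5, 3, 4, 8, 5, 5, 3, 4, 8, 5] [.out 4517]],
  .sub [19, 11, 3, 2, 4] [.out 5018],
  .sub [18, 16, 3, 2, 4] [.out 232],
  .sub [6, 17, 3, 2, 4] [.out 1401],
  .sub [8, 17, 3, 2, 4] [.out 1616],
  .sub [5, 0, 4, 2, 4] [.out 1159],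
  .sub [4, 1, 4, 2, 4] [.out 5028],
  .sub [17, 1, 4, 2, 4] [.out 671],
  .sub [4, 2, 4, 2, 4] [.sub [5, 3, 5, 3, 4, 8, 5, 5, 3, 4, 8, 5, 5, 3, 4, 8, 5, 5, 3, 5, 3, 5, 3, 4, 8, 5, 5, 3] [.out 3814]],
  .sub [8, 2, 4, 2, 4] [.out 4439],
  .sub [7, 3, 4, 2, 4] [.out 1571],
  .sub [19, 3, 4, 2, 4] [.out 2637],
  .sub [7, 5, 4, 2, 4] [.out 5731],
  .sub [9, 5, 4, 2, 4] [.out 768],
  .sub [12, 5, 4, 2, 4] [.sub [5, 3, 4, 8, 5, 5, 3, 4, 8, 5, 5, 3, 5, 3, 5, 3, 4, 8, 5, 5, 3, 5, 3, 4, 8, 5, 5, 3, 4, 8, 5, 5, 3] [.out 3341]],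
  .sub [4, 7, 4, 2, 4] [.out 1226],
  .sub [6, 8, 4, 2, 4] [.out 3394],
  .sub [7, 8, 4, 2, 4] [.out 4014],
  .sub [11, 8, 4, 2, 4] [.out 1452],
  .sub [0, 9, 4, 2, 4] [.out 4977],
  .sub [19, 9, 4, 2, 4] [.out 3783],
  .sub [8, 10, 4, 2, 4] [.out 4703],
  .sub [14, 10, 4, 2, 4] [.out 4042],
  .sub [0, 12, 4, 2, 4] [.out 5870],
  .sub [11, 12, 4, 2, 4] [.out 4558],
  .sub [21, 12, 4, 2, 4] [.out 174],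
  .sub [5, 13, 4, 2, 4] [.out 5497],
  .sub [18, 14, 4, 2, 4] [.out 1072],
  .sub [4, 16, 4, 2, 4] [.out 621],
  .sub [8, 16, 4, 2, 4] [.out 3244],
  .sub [5, 17, 4, 2, 4] [.out 3466],
  .sub [5, 18, 4, 2, 4] [.out 1341],
  .sub [11, 20, 4, 2, 4] [.out 5238],
  .sub [12, 6, 5, 2, 4] [.out 745],
  .sub [9, 12, 5, 2, 4] [.out 3100],
  .sub [19, 12, 5, 2, 4] [.out 1993],
  .sub [1, 17, 5, 2, 4] [.out 3072],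
  .sub [8, 21, 5, 2, 4] [.sub [5, 3, 5, 3, 4, 8, 5, 5, 3, 4, 8, 5, 5, 3, 4, 8, 5, 5, 3, 5, 3, 4, 8, 5, 5, 3] [.out 2579]],
  .sub [14, 21, 5, 2, 4] [.out 5726],
  .sub [19, 21, 5, 2, 4] [.out 2520],
  .sub [8, 2, 6, 2, 4] [.out 3629],
  .sub [1, 3, 6, 2, 4] [.out 3947],
  .sub [16, 3, 6, 2, 4] [.out 4783],
  .sub [11, 5, 6, 2, 4] [.out 5870],
  .sub [3, 8, 6, 2, 4] [.out 2861],
  .sub [17, 8, 6, 2, 4] [.out 1682],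
  .sub [19, 8, 6, 2, 4] [.out 1170],
  .sub [6, 9, 6, 2, 4] [.out 5727],
  .sub [12, 11, 6, 2, 4] [.out 4665],
  .sub [21, 11, 6, 2, 4] [.out 1574],
  .sub [0, 12, 6, 2, 4] [.out 665],
  .sub [11, 16, 6, 2, 4] [.out 5261],
  .sub [5, 19, 6, 2, 4] [.out 4350],
  .sub [16, 4, 7, 2, 4] [.out 1532],
  .sub [12, 11, 7, 2, 4] [.out 2275]]

/-- Branches. -/
def kidsXPart31 : List Branch := [
  .sub [13, 11, 7, 2, 4] [.out 1001],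
  .sub [16, 11, 7, 2, 4] [.sub [5, 3, 4, 8, 5, 5, 3, 5, 3, 5, 3, 4, 8, 5, 5, 3, 4, 8, 5, 5, 3, 5, 3, 5, 3, 4, 8, 5, 5, 3, 4, 8, 5] [.out 3814]],
  .sub [8, 12, 7, 2, 4] [.out 1677],
  .sub [9, 12, 7, 2, 4] [.out 1729],
  .sub [18, 12, 7, 2, 4] [.out 6071],
  .sub [8, 21, 7, 2, 4] [.out 3840],
  .sub [17, 6, 8, 2, 4] [.sub [5, 3, 4, 8, 5, 5, 3, 5, 3, 5, 3, 4, 8, 5, 5, 3, 4, 8, 5, 5, 3, 5, 3] [.out 3306]],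
  .sub [11, 7, 8, 2, 4] [.out 3666],
  .sub [8, 9, 8, 2, 4] [.out 4700],
  .sub [4, 10, 8, 2, 4] [.out 4450],
  .sub [9, 12, 8, 2, 4] [.out 5891],
  .sub [17, 12, 8, 2, 4] [.out 1362],
  .sub [6, 21, 8, 2, 4] [.out 1429],
  .sub [16, 16, 9, 2, 4] [.out 3136],
  .sub [18, 16, 9, 2, 4] [.out 3647],
  .sub [11, 17, 9, 2, 4] [.out 6144],
  .sub [4, 21, 9, 2, 4] [.sub [5, 3, 4, 8, 5, 5, 3, 5, 3, 4, 8, 5, 5, 3, 5, 3, 5, 3, 4, 8, 5, 5, 3, 5, 3, 4, 8, 5, 5, 3] [.out 2386]],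
  .sub [16, 21, 9, 2, 4] [.out 5716],
  .sub [6, 3, 11, 2, 4] [.out 2807],
  .sub [2, 4, 11, 2, 4] [.out 3456],
  .sub [5, 4, 11, 2, 4] [.out 3030],
  .sub [18, 4, 11, 2, 4] [.sub [4, 8, 5, 5, 3, 4, 8, 5, 5, 3, 5, 3, 5, 3, 4, 8, 5, 5, 3, 5, 3, 4, 8, 5, 5, 3, 4, 8, 5, 5, 3, 5, 3, 5, 3] [.out 1333]],
  .sub [17, 6, 11, 2, 4] [.out 3081],
  .sub [16, 9, 11, 2, 4] [.out 1859],
  .sub [7, 11, 11, 2, 4] [.out 1645],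
  .sub [10, 11, 11, 2, 4] [.out 4762],
  .sub [13, 11, 11, 2, 4] [.out 5400],
  .sub [7, 12, 11, 2, 4] [.out 1865],
  .sub [17, 12, 11, 2, 4] [.out 4458],
  .sub [11, 13, 11, 2, 4] [.out 5777],
  .sub [11, 19, 11, 2, 4] [.sub [4, 8, 5, 5, 3, 5, 3, 4, 8, 5, 5, 3, 4, 8, 5, 5, 3, 5, 3, 5, 3, 4, 8, 5, 5, 3, 5, 3, 5, 3] [.out 3832]],
  .sub [6, 2, 12, 2, 4] [.out 3626],
  .sub [11, 2, 12, 2, 4] [.sub [4, 8, 5, 5, 3, 5, 3, 4, 8, 5, 5, 3, 5, 3, 5, 3, 4, 8, 5] [.out 344]],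
  .sub [1, 3, 12, 2, 4] [.out 4487],
  .sub [4, 5, 12, 2, 4] [.sub [5, 3, 5, 3, 4, 8, 5, 5, 3, 5, 3, 4, 8, 5, 5, 3, 4, 8, 5, 5, 3, 5, 3, 4, 8, 5, 5, 3, 4, 8, 5, 5, 3] [.out 5671]],
  .sub [19, 5, 12, 2, 4] [.out 5071],
  .sub [21, 6, 12, 2, 4] [.out 5687],
  .sub [0, 9, 12, 2, 4] [.out 3111],
  .sub [8, 9, 12, 2, 4] [.out 4540],
  .sub [4, 10, 12, 2, 4] [.out 4469],
  .sub [5, 10, 12, 2, 4] [.out 5742],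
  .sub [0, 11, 12, 2, 4] [.sub [5, 3, 4, 8, 5, 5, 3, 5, 3, 4, 8, 5, 5, 3, 4, 8, 5, 5, 3, 5, 3, 5, 3, 4, 8, 5, 5, 3] [.out 5978]],
  .sub [2, 11, 12, 2, 4] [.out 4855],
  .sub [6, 12, 12, 2, 4] [.out 4532],
  .sub [8, 12, 12, 2, 4] [.out 2521],
  .sub [21, 13, 12, 2, 4] [.sub [5, 3, 4, 8, 5, 5, 3, 4, 8, 5, 5, 3, 4, 8, 5, 5, 3] [.out 713]],
  .sub [1, 17, 12, 2, 4] [.out 4883],
  .sub [4, 17, 12, 2, 4] [.out 5303],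
  .sub [4, 18, 12, 2, 4] [.out 2799],
  .sub [11, 20, 12, 2, 4] [.out 5792],
  .sub [8, 21, 12, 2, 4] [.out 1887],
  .sub [19, 21, 12, 2, 4] [.out 2951],
  .sub [7, 8, 13, 2, 4] [.out 366],
  .sub [21, 8, 13, 2, 4] [.out 945],
  .sub [5, 21, 13, 2, 4] [.sub [5, 3, 4, 8, 5, 5, 3, 5, 3, 5, 3, 4, 8, 5, 5, 3, 4, 8, 5] [.done 12]],
  .sub [11, 21, 13, 2, 4] [.out 821],
  .sub [11, 2, 16, 2, 4] [.out 4852],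
  .sub [21, 3, 16, 2, 4] [.out 5015],
  .sub [21, 4, 16, 2, 4] [.out 6002],
  .sub [5, 8, 16, 2, 4] [.out 5678],
  .sub [21, 9, 16, 2, 4] [.out 6013],
  .sub [7, 11, 16, 2, 4] [.out 563],
  .sub [6, 12, 16, 2, 4] [.out 1697],
  .sub [10, 12, 16, 2, 4] [.out 4805],
  .sub [13, 12, 16, 2, 4] [.out 206],
  .sub [5, 19, 16, 2, 4] [.sub [] [.out 4742]],
  .sub [9, 21, 16, 2, 4] [.out 312],
  .sub [12, 21, 16, 2, 4] [.out 798],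
  .sub [12, 1, 17, 2, 4] [.out 569],
  .sub [1, 4, 17, 2, 4] [.out 1681],
  .sub [2, 4, 17, 2, 4] [.out 3354],
  .sub [11, 4, 17, 2, 4] [.out 1100],
  .sub [4, 6, 17, 2, 4] [.out 5542],
  .sub [8, 6, 17, 2, 4] [.out 1412],
  .sub [17, 8, 17, 2, 4] [.out 5520],
  .sub [18, 8, 17, 2, 4] [.out 2564],
  .sub [19, 8, 17, 2, 4] [.sub [5, 3, 5, 3, 4, 8, 5, 5, 3, 4, 8, 5, 5, 3, 4, 8, 5, 5, 3, 5, 3, 5, 3, 4, 8, 5, 5, 3, 4, 8, 5] [.out 3202]],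
  .sub [6, 12, 17, 2, 4] [.out 671],
  .sub [5, 4, 18, 2, 4] [.out 5939],
  .sub [7, 4, 18, 2, 4] [.out 4080],
  .sub [16, 4, 18, 2, 4] [.sub [4, 8, 5, 5, 3, 5, 3, 5, 3, 4, 8, 5, 5, 3, 4, 8, 5, 5, 3, 4, 8, 5, 5, 3, 5, 3, 4, 8, 5, 5, 3, 5, 3, 4, 8, 5] [.out 3202]],
  .sub [17, 4, 18, 2, 4] [.out 1047],
  .sub [20, 4, 18, 2, 4] [.out 2098],
  .sub [6, 5, 18, 2, 4] [.out 6028],
  .sub [20, 8, 18, 2, 4] [.sub [4, 8, 5, 5, 3, 4, 8, 5, 5, 3, 4, 8, 5, 5, 3, 4, 8, 5, 5, 3, 5, 3, 4, 8, 5, 5, 3, 4, 8, 5, 5, 3, 5, 3, 5, 3] [.out 3112]],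
  .sub [6, 11, 18, 2, 4] [.sub [4, 8, 5, 5, 3, 5, 3, 4, 8, 5, 5, 3, 4, 8, 5, 5, 3, 4, 8, 5, 5, 3, 5, 3, 5, 3, 4, 8, 5, 5, 3] [.out 4881]],
  .sub [11, 12, 18, 2, 4] [.out 275],
  .sub [6, 5, 19, 2, 4] [.out 3205],
  .sub [9, 5, 19, 2, 4] [.sub [5, 3, 4, 8, 5, 5, 3, 5, 3, 4, 8, 5, 5, 3, 5, 3, 5, 3, 4, 8, 5, 5, 3, 4, 8, 5, 5, 3, 5, 3, 5, 3, 4, 8, 5, 5, 3, 5, 3, 4, 8, 5, 5, 3] [.out 5723]],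
  .sub [17, 8, 19, 2, 4] [.out 1692],
  .sub [5, 11, 19, 2, 4] [.out 956],
  .sub [4, 11, 20, 2, 4] [.out 2758],
  .sub [9, 1, 21, 2, 4] [.out 743],
  .sub [13, 4, 21, 2, 4] [.out 329],
  .sub [1, 5, 21, 2, 4] [.out 2418],
  .sub [9, 5, 21, 2, 4] [.sub [4, 8, 5, 5, 3, 4, 8, 5, 5, 3, 5, 3, 4, 8, 5, 5, 3, 4, 8, 5, 5, 3, 5, 3, 5, 3] [.out 3537]],
  .sub [12, 6, 21, 2, 4] [.out 280],
  .sub [4, 16, 21, 2, 4] [.out 5307],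
  .sub [12, 21, 21, 2, 4] [.out 5370],
  .sub [8, 10, 1, 3, 4] [.sub [5, 3, 4, 8, 5, 5, 3, 4, 8, 5, 5, 3, 5, 3, 5, 3, 4, 8, 5, 5, 3, 4, 8, 5, 5, 3, 5, 3, 4, 8, 5, 5, 3, 5, 3, 5, 3, 4, 8, 5, 5, 3] [.out 3844]],
  .sub [11, 10, 1, 3, 4] [.out 2526],
  .sub [12, 10, 1, 3, 4] [.out 3296],
  .sub [5, 12, 1, 3, 4] [.out 707],
  .sub [19, 12, 1, 3, 4] [.out 3412],
  .sub [13, 17, 1, 3, 4] [.out 3356],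
  .sub [21, 19, 1, 3, 4] [.out 4706],
  .sub [18, 21, 1, 3, 4] [.out 2840],
  .sub [6, 2, 6, 3, 4] [.out 559],
  .sub [6, 8, 6, 3, 4] [.out 239],
  .sub [2, 10, 6, 3, 4] [.out 391],
  .sub [17, 6, 7, 3, 4] [.sub [4, 8, 5, 5, 3, 4, 8, 5, 5, 3, 4, 8, 5, 5, 3, 5, 3, 4, 8, 5] [.out 4019]],
  .sub [19, 6, 7, 3, 4] [.out 2118],
  .sub [20, 6, 7, 3, 4] [.sub [4, 8, 5, 5, 3, 4, 8, 5, 5, 3, 5, 3, 4, 8, 5, 5, 3, 5, 3, 5, 3, 4, 8, 5, 5, 3, 4, 8, 5] [.out 4526]],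
  .sub [17, 6, 10, 3, 4] [.out 5256],
  .sub [13, 8, 10, 3, 4] [.out 4679],
  .sub [20, 8, 10, 3, 4] [.out 4802],
  .sub [4, 21, 10, 3, 4] [.out 2847],
  .sub [8, 9, 13, 3, 4] [.out 4275],
  .sub [18, 10, 13, 3, 4] [.out 2824],
  .sub [10, 12, 13, 3, 4] [.out 1159],
  .sub [21, 12, 13, 3, 4] [.out 2734],
  .sub [19, 13, 13, 3, 4] [.out 6006],
  .sub [1, 21, 13, 3, 4] [.out 926],
  .sub [14, 21, 13, 3, 4] [.out 3602],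
  .sub [21, 8, 14, 3, 4] [.out 5851],
  .sub [21, 10, 14, 3, 4] [.out 4282],
  .sub [21, 13, 14, 3, 4] [.out 3902],
  .sub [6, 14, 14, 3, 4] [.out 2950],
  .sub [10, 14, 14, 3, 4] [.out 5413],
  .sub [12, 7, 16, 3, 4] [.out 3606],
  .sub [13, 7, 16, 3, 4] [.out 5764],
  .sub [0, 17, 16, 3, 4] [.out 3498],
  .sub [13, 18, 16, 3, 4] [.out 317],
  .sub [14, 18, 16, 3, 4] [.out 4628],
  .sub [1, 21, 16, 3, 4] [.out 939],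
  .sub [16, 21, 16, 3, 4] [.out 4711],
  .sub [17, 10, 17, 3, 4] [.out 1615],
  .sub [19, 10, 17, 3, 4] [.out 4461],
  .sub [5, 11, 17, 3, 4] [.out 2012],
  .sub [13, 13, 17, 3, 4] [.out 2952],
  .sub [13, 14, 17, 3, 4] [.out 5515],
  .sub [11, 4, 18, 3, 4] [.out 3308],
  .sub [20, 4, 18, 3, 4] [.out 1743],
  .sub [10, 10, 18, 3, 4] [.out 2815],
  .sub [13, 10, 18, 3, 4] [.out 2252],
  .sub [14, 10, 18, 3, 4] [.out 1060],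
  .sub [4, 14, 18, 3, 4] [.sub [5, 3, 4, 8, 5, 5, 3, 4, 8, 5, 5, 3, 4, 8, 5, 5, 3, 5, 3, 4, 8, 5, 5, 3, 5, 3, 5, 3, 4, 8, 5, 5, 3, 4, 8, 5, 5, 3, 5, 3, 4, 8, 5] [.out 2558]],
  .sub [10, 14, 18, 3, 4] [.out 2257],
  .sub [16, 21, 18, 3, 4] [.out 228],
  .sub [2, 6, 19, 3, 4] [.sub [4, 8, 5, 5, 3, 5, 3, 4, 8, 5, 5, 3, 5, 3, 5, 3, 4, 8, 5, 5, 3, 4, 8, 5, 5, 3, 5, 3, 4, 8, 5] [.out 1173]],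
  .sub [16, 8, 19, 3, 4] [.out 646],
  .sub [17, 1, 21, 3, 4] [.out 3928],
  .sub [5, 4, 21, 3, 4] [.out 4270],
  .sub [11, 4, 21, 3, 4] [.out 568],
  .sub [19, 4, 21, 3, 4] [.out 1152],
  .sub [21, 6, 21, 3, 4] [.out 4532],
  .sub [6, 11, 21, 3, 4] [.out 1546],
  .sub [4, 12, 1, 4, 4] [.out 5133],
  .sub [6, 21, 1, 4, 4] [.out 2786],
  .sub [14, 21, 1, 4, 4] [.out 389],
  .sub [9, 6, 2, 4, 4] [.out 3374],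
  .sub [18, 6, 2, 4, 4] [.out 2419],
  .sub [19, 6, 2, 4, 4] [.out 573],
  .sub [12, 17, 2, 4, 4] [.out 1228],
  .sub [4, 18, 2, 4, 4] [.out 1009],
  .sub [18, 10, 3, 4, 4] [.out 1888],
  .sub [9, 2, 4, 4, 4] [.out 2822],
  .sub [12, 2, 4, 4, 4] [.out 3361],
  .sub [19, 2, 4, 4, 4] [.out 5552],
  .sub [20, 2, 4, 4, 4] [.out 906],
  .sub [1, 3, 4, 4, 4] [.out 1473],
  .sub [10, 3, 4, 4, 4] [.out 1504],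
  .sub [14, 3, 4, 4, 4] [.out 1202],
  .sub [18, 3, 4, 4, 4] [.out 4067],
  .sub [19, 3, 4, 4, 4] [.sub [4, 8, 5, 5, 3, 4, 8, 5, 5, 3, 5, 3, 5, 3, 4, 8, 5, 5, 3, 4, 8, 5, 5, 3, 4, 8, 5, 5, 3, 5, 3, 4, 8, 5] [.out 2218]],
  .sub [21, 3, 4, 4, 4] [.out 5459],
  .sub [7, 5, 4, 4, 4] [.out 2256],
  .sub [9, 5, 4, 4, 4] [.sub [5, 3, 4, 8, 5, 5, 3, 5, 3, 5, 3, 4, 8, 5, 5, 3, 4, 8, 5, 5, 3, 5, 3, 4, 8, 5] [.out 238]],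
  .sub [20, 5, 4, 4, 4] [.out 5051],
  .sub [3, 7, 4, 4, 4] [.out 3332],
  .sub [8, 7, 4, 4, 4] [.out 3409],
  .sub [17, 7, 4, 4, 4] [.out 4408],
  .sub [3, 8, 4, 4, 4] [.sub [5, 3, 4, 8, 5, 5, 3, 5, 3, 4, 8, 5, 5, 3, 5, 3, 4, 8, 5] [.out 4875]],
  .sub [5, 8, 4, 4, 4] [.out 4892],
  .sub [9, 8, 4, 4, 4] [.out 5597],
  .sub [11, 8, 4, 4, 4] [.out 1452],
  .sub [16, 9, 4, 4, 4] [.out 3251],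
  .sub [20, 12, 4, 4, 4] [.out 3506],
  .sub [2, 13, 4, 4, 4] [.out 808],
  .sub [18, 13, 4, 4, 4] [.out 348],
  .sub [12, 17, 4, 4, 4] [.sub [4, 8, 5, 5, 3, 4, 8, 5, 5, 3, 5, 3, 5, 3, 4, 8, 5, 5, 3, 4, 8, 5, 5, 3, 5, 3, 4, 8, 5] [.out 1682]],
  .sub [13, 17, 4, 4, 4] [.out 4764]]

/-- Branches. -/
def kidsXPart32 : List Branch := [
  .sub [4, 19, 4, 4, 4] [.out 4873],
  .sub [10, 19, 4, 4, 4] [.out 548],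
  .sub [12, 19, 4, 4, 4] [.out 1525],
  .sub [17, 21, 4, 4, 4] [.out 1291],
  .sub [5, 4, 5, 4, 4] [.out 1757],
  .sub [11, 4, 5, 4, 4] [.out 2826],
  .sub [17, 4, 5, 4, 4] [.sub [5, 3, 5, 3, 4, 8, 5, 5, 3, 5, 3, 4, 8, 5, 5, 3, 4, 8, 5, 5, 3, 5, 3, 4, 8, 5, 5, 3, 4, 8, 5, 5, 3, 4, 8, 5] [.out 6073]],
  .sub [18, 10, 5, 4, 4] [.out 715],
  .sub [5, 11, 5, 4, 4] [.out 1239],
  .sub [4, 14, 5, 4, 4] [.sub [4, 8, 5, 5, 3, 5, 3, 5, 3, 4, 8, 5, 5, 3, 4, 8, 5, 5, 3, 5, 3, 5, 3, 4, 8, 5, 5, 3, 5, 3, 4, 8, 5, 5, 3, 4, 8, 5, 5, 3] [.out 4327]],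
  .sub [5, 2, 6, 4, 4] [.out 3460],
  .sub [21, 2, 6, 4, 4] [.out 2393],
  .sub [10, 4, 6, 4, 4] [.out 4798],
  .sub [18, 12, 6, 4, 4] [.out 4179],
  .sub [1, 21, 6, 4, 4] [.out 1336],
  .sub [1, 21, 7, 4, 4] [.out 5225],
  .sub [18, 0, 8, 4, 4] [.out 4535],
  .sub [7, 1, 8, 4, 4] [.sub [4, 8, 5, 5, 3, 4, 8, 5, 5, 3, 5, 3, 4, 8, 5, 5, 3, 4, 8, 5, 5, 3, 4, 8, 5, 5, 3, 5, 3, 4, 8, 5, 5, 3, 4, 8, 5, 5, 3, 4, 8, 5] [.out 3482]],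
  .sub [7, 16, 8, 4, 4] [.out 2076],
  .sub [20, 16, 8, 4, 4] [.out 3758],
  .sub [8, 21, 8, 4, 4] [.out 1443],
  .sub [19, 6, 9, 4, 4] [.out 126],
  .sub [19, 11, 9, 4, 4] [.out 4837],
  .sub [4, 16, 9, 4, 4] [.out 813],
  .sub [5, 16, 9, 4, 4] [.out 5833],
  .sub [4, 19, 9, 4, 4] [.out 4775],
  .sub [4, 2, 10, 4, 4] [.sub [4, 8, 5, 5, 3, 5, 3, 4, 8, 5, 5, 3, 5, 3, 4, 8, 5, 5, 3, 4, 8, 5, 5, 3, 5, 3, 4, 8, 5, 5, 3] [.out 3834]],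
  .sub [10, 8, 10, 4, 4] [.out 5333],
  .sub [3, 10, 10, 4, 4] [.out 1870],
  .sub [4, 10, 10, 4, 4] [.out 3499],
  .sub [8, 10, 10, 4, 4] [.out 6138],
  .sub [11, 10, 10, 4, 4] [.out 5045],
  .sub [17, 6, 11, 4, 4] [.out 1081],
  .sub [13, 10, 11, 4, 4] [.out 5364],
  .sub [10, 12, 11, 4, 4] [.out 2931],
  .sub [11, 12, 11, 4, 4] [.out 5733],
  .sub [4, 17, 11, 4, 4] [.out 2605],
  .sub [17, 13, 12, 4, 4] [.sub [5, 3, 4, 8, 5, 5, 3, 5, 3, 4, 8, 5, 5, 3, 5, 3, 4, 8, 5] [.out 2387]],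
  .sub [18, 13, 12, 4, 4] [.out 3415],
  .sub [6, 18, 12, 4, 4] [.out 5680],
  .sub [21, 3, 13, 4, 4] [.out 4721],
  .sub [6, 8, 13, 4, 4] [.out 575],
  .sub [5, 10, 13, 4, 4] [.out 4883],
  .sub [11, 17, 13, 4, 4] [.out 4931],
  .sub [13, 18, 13, 4, 4] [.out 4394],
  .sub [21, 18, 13, 4, 4] [.out 3325],
  .sub [4, 18, 14, 4, 4] [.out 455],
  .sub [8, 21, 14, 4, 4] [.out 2003],
  .sub [6, 5, 16, 4, 4] [.out 4793],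
  .sub [14, 8, 16, 4, 4] [.out 4747],
  .sub [13, 17, 16, 4, 4] [.out 5891],
  .sub [7, 4, 17, 4, 4] [.out 3477],
  .sub [8, 4, 18, 4, 4] [.out 804],
  .sub [9, 12, 18, 4, 4] [.out 3448],
  .sub [7, 4, 19, 4, 4] [.out 3289],
  .sub [4, 11, 20, 4, 4] [.out 2933],
  .sub [4, 16, 20, 4, 4] [.out 2002],
  .sub [0, 4, 1, 5, 4] [.out 389],
  .sub [19, 10, 1, 5, 4] [.out 1877],
  .sub [7, 4, 2, 5, 4] [.out 2246],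
  .sub [18, 4, 2, 5, 4] [.out 1971],
  .sub [17, 11, 2, 5, 4] [.out 1155],
  .sub [18, 11, 2, 5, 4] [.out 2784],
  .sub [20, 11, 2, 5, 4] [.out 4612],
  .sub [12, 6, 3, 5, 4] [.out 97],
  .sub [21, 18, 3, 5, 4] [.out 2036],
  .sub [20, 4, 4, 5, 4] [.out 1447],
  .sub [19, 10, 4, 5, 4] [.out 6088],
  .sub [12, 11, 4, 5, 4] [.out 5249],
  .sub [11, 12, 4, 5, 4] [.sub [4, 8, 5, 5, 3, 4, 8, 5, 5, 3, 5, 3, 5, 3, 4, 8, 5, 5, 3, 5, 3, 4, 8, 5, 5, 3, 4, 8, 5, 5, 3, 4, 8, 5, 5, 3, 5, 3] [.out 358]],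
  .sub [17, 16, 4, 5, 4] [.out 5416],
  .sub [19, 16, 4, 5, 4] [.out 3474],
  .sub [8, 19, 4, 5, 4] [.out 3703],
  .sub [7, 5, 6, 5, 4] [.out 2328],
  .sub [21, 7, 6, 5, 4] [.out 6143],
  .sub [16, 9, 6, 5, 4] [.out 4943],
  .sub [18, 11, 6, 5, 4] [.out 5459],
  .sub [16, 17, 6, 5, 4] [.out 346],
  .sub [3, 18, 6, 5, 4] [.out 777],
  .sub [21, 6, 7, 5, 4] [.out 4562],
  .sub [10, 8, 7, 5, 4] [.out 294],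
  .sub [13, 8, 7, 5, 4] [.out 5731],
  .sub [14, 8, 7, 5, 4] [.out 5899],
  .sub [4, 11, 7, 5, 4] [.out 2609],
  .sub [4, 13, 7, 5, 4] [.out 842],
  .sub [4, 21, 7, 5, 4] [.out 1923],
  .sub [19, 2, 8, 5, 4] [.out 3854],
  .sub [8, 20, 8, 5, 4] [.out 5009],
  .sub [4, 21, 8, 5, 4] [.sub [4, 8, 5, 5, 3, 4, 8, 5, 5, 3, 5, 3, 5, 3, 4, 8, 5, 5, 3, 4, 8, 5, 5, 3, 5, 3, 4, 8, 5] [.out 3372]],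
  .sub [4, 11, 9, 5, 4] [.sub [5, 3, 4, 8, 5, 5, 3, 5, 3, 4, 8, 5, 5, 3, 4, 8, 5, 5, 3, 5, 3, 4, 8, 5, 5, 3, 4, 8, 5, 5, 3] [.out 2915]],
  .sub [11, 11, 9, 5, 4] [.sub [5, 3, 5, 3, 5, 3, 4, 8, 5, 5, 3, 4, 8, 5, 5, 3, 5, 3, 4, 8, 5, 5, 3, 4, 8, 5, 5, 3, 5, 3, 5, 3] [.out 319]],
  .sub [4, 16, 9, 5, 4] [.out 3367],
  .sub [9, 16, 9, 5, 4] [.out 3617],
  .sub [12, 16, 9, 5, 4] [.out 4938],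
  .sub [20, 16, 9, 5, 4] [.sub [5, 3, 5, 3, 4, 8, 5, 5, 3, 4, 8, 5, 5, 3, 4, 8, 5, 5, 3] [.out 1845]],
  .sub [6, 19, 9, 5, 4] [.out 3282],
  .sub [10, 3, 10, 5, 4] [.out 5531],
  .sub [14, 5, 10, 5, 4] [.sub [4, 8, 5, 5, 3, 5, 3, 4, 8, 5, 5, 3, 4, 8, 5, 5, 3, 5, 3, 4, 8, 5, 5, 3, 4, 8, 5, 5, 3, 4, 8, 5] [.out 3642]],
  .sub [7, 13, 10, 5, 4] [.out 2000],
  .sub [16, 20, 10, 5, 4] [.out 2242],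
  .sub [21, 5, 11, 5, 4] [.out 4808],
  .sub [6, 11, 11, 5, 4] [.out 5360],
  .sub [20, 12, 11, 5, 4] [.out 5555],
  .sub [12, 18, 11, 5, 4] [.out 5146],
  .sub [18, 2, 12, 5, 4] [.out 5239],
  .sub [21, 6, 12, 5, 4] [.out 4149],
  .sub [4, 12, 12, 5, 4] [.out 5655],
  .sub [16, 17, 12, 5, 4] [.sub [4, 8, 5, 5, 3, 4, 8, 5, 5, 3, 5, 3, 5, 3, 4, 8, 5, 5, 3, 5, 3, 5, 3] [.out 5744]],
  .sub [5, 6, 13, 5, 4] [.out 3325],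
  .sub [12, 11, 13, 5, 4] [.out 4386],
  .sub [3, 12, 13, 5, 4] [.out 1869],
  .sub [17, 16, 13, 5, 4] [.out 3623],
  .sub [12, 19, 13, 5, 4] [.sub [5, 3, 5, 3, 4, 8, 5, 5, 3, 4, 8, 5, 5, 3, 4, 8, 5, 5, 3, 5, 3, 5, 3, 4, 8, 5, 5, 3, 4, 8, 5, 5, 3] [.out 5198]],
  .sub [21, 10, 14, 5, 4] [.sub [5, 3, 5, 3, 4, 8, 5, 5, 3, 4, 8, 5, 5, 3, 4, 8, 5, 5, 3, 5, 3, 4, 8, 5, 5, 3, 5, 3, 4, 8, 5, 5, 3, 4, 8, 5, 5, 3, 4, 8, 5] [.out 5606]],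
  .sub [18, 13, 14, 5, 4] [.sub [5, 3, 4, 8, 5, 5, 3, 4, 8, 5, 5, 3, 4, 8, 5, 5, 3, 5, 3, 4, 8, 5, 5, 3, 5, 3, 5, 3, 4, 8, 5, 5, 3, 4, 8, 5, 5, 3, 5, 3, 4, 8, 5] [.out 3947]],
  .sub [6, 0, 17, 5, 4] [.out 2015],
  .sub [21, 1, 18, 5, 4] [.out 2699],
  .sub [4, 4, 18, 5, 4] [.sub [5, 3, 5, 3, 4, 8, 5, 5, 3, 4, 8, 5, 5, 3, 4, 8, 5, 5, 3, 5, 3, 4, 8, 5, 5, 3, 5, 3, 4, 8, 5] [.out 2579]],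
  .sub [2, 6, 18, 5, 4] [.out 2180],
  .sub [3, 6, 18, 5, 4] [.out 816],
  .sub [5, 6, 18, 5, 4] [.out 2227],
  .sub [8, 21, 20, 5, 4] [.sub [5, 3, 5, 3, 4, 8, 5, 5, 3, 5, 3, 4, 8, 5, 5, 3, 4, 8, 5, 5, 3, 5, 3, 4, 8, 5, 5, 3, 4, 8, 5, 5, 3, 5, 3, 5, 3] [.out 2509]],
  .sub [4, 17, 21, 5, 4] [.out 3658],
  .sub [8, 17, 21, 5, 4] [.out 5202],
  .sub [21, 19, 21, 5, 4] [.out 1581],
  .sub [6, 21, 21, 5, 4] [.out 3551],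
  .sub [8, 4, 4, 6, 4] [.out 561],
  .sub [21, 11, 16, 6, 4] [.out 4883],
  .sub [5, 6, 18, 6, 4] [.sub [4, 8, 5, 5, 3, 4, 8, 5, 5, 3, 5, 3, 4, 8, 5, 5, 3, 4, 8, 5, 5, 3, 4, 8, 5, 5, 3, 5, 3, 5, 3, 4, 8, 5, 5, 3, 5, 3, 5, 3] [.out 5265]],
  .sub [12, 4, 3, 7, 4] [.out 25],
  .sub [8, 17, 4, 7, 4] [.out 685],
  .sub [21, 11, 6, 7, 4] [.out 2485],
  .sub [13, 7, 8, 7, 4] [.out 2492],
  .sub [21, 16, 8, 7, 4] [.sub [4, 8, 5, 5, 3, 4, 8, 5, 5, 3, 5, 3, 4, 8, 5, 5, 3, 4, 8, 5, 5, 3, 5, 3, 5, 3] [.out 3001]],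
  .sub [11, 17, 8, 7, 4] [.out 3588],
  .sub [9, 11, 11, 7, 4] [.out 4440],
  .sub [7, 4, 12, 7, 4] [.sub [4, 8, 5, 5, 3, 4, 8, 5, 5, 3, 5, 3, 4, 8, 5, 5, 3, 5, 3, 5, 3, 4, 8, 5, 5, 3, 4, 8, 5, 5, 3, 4, 8, 5] [.out 4524]],
  .sub [11, 4, 12, 7, 4] [.out 4440],
  .sub [13, 4, 12, 7, 4] [.out 1225],
  .sub [3, 13, 12, 7, 4] [.out 5163],
  .sub [14, 4, 13, 7, 4] [.out 5959],
  .sub [13, 4, 18, 7, 4] [.out 4956],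
  .sub [4, 17, 21, 7, 4] [.out 1108],
  .sub [1, 21, 0, 8, 4] [.out 2421],
  .sub [14, 21, 0, 8, 4] [.out 2471],
  .sub [17, 4, 1, 8, 4] [.out 4341],
  .sub [20, 4, 1, 8, 4] [.out 4254],
  .sub [14, 21, 2, 8, 4] [.out 1536],
  .sub [5, 18, 6, 8, 4] [.out 1726],
  .sub [13, 18, 6, 8, 4] [.out 3437],
  .sub [0, 4, 12, 8, 4] [.out 3334],
  .sub [21, 10, 12, 8, 4] [.sub [5, 3, 4, 8, 5, 5, 3, 4, 8, 5, 5, 3, 5, 3, 4, 8, 5, 5, 3, 5, 3, 5, 3, 4, 8, 5] [.out 3518]],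
  .sub [18, 12, 12, 8, 4] [.out 5139],
  .sub [20, 8, 14, 8, 4] [.sub [4, 8, 5, 5, 3, 4, 8, 5, 5, 3, 5, 3, 5, 3, 4, 8, 5, 5, 3, 5, 3, 4, 8, 5, 5, 3, 4, 8, 5, 5, 3] [.out 5299]],
  .sub [7, 11, 14, 8, 4] [.out 4450],
  .sub [13, 11, 14, 8, 4] [.out 2944],
  .sub [16, 6, 17, 8, 4] [.out 5324],
  .sub [5, 10, 17, 8, 4] [.sub [5, 3, 4, 8, 5, 5, 3, 4, 8, 5, 5, 3, 4, 8, 5, 5, 3, 5, 3, 4, 8, 5, 5, 3, 5, 3, 5, 3, 4, 8, 5, 5, 3, 4, 8, 5, 5, 3] [.out 3844]],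
  .sub [18, 10, 17, 8, 4] [.out 5252],
  .sub [19, 16, 17, 8, 4] [.out 413],
  .sub [19, 13, 18, 8, 4] [.sub [5, 3, 4, 8, 5, 5, 3, 5, 3, 4, 8, 5, 5, 3, 5, 3, 5, 3, 4, 8, 5, 5, 3, 5, 3, 4, 8, 5, 5, 3, 4, 8, 5, 5, 3] [.out 4464]],
  .sub [13, 14, 18, 8, 4] [.out 1269],
  .sub [4, 10, 19, 8, 4] [.out 5620],
  .sub [19, 8, 4, 9, 4] [.out 5596],
  .sub [11, 12, 4, 9, 4] [.out 3649],
  .sub [19, 1, 8, 9, 4] [.out 530],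
  .sub [1, 11, 11, 9, 4] [.out 936],
  .sub [9, 11, 11, 9, 4] [.out 5110],
  .sub [5, 1, 17, 9, 4] [.out 4578],
  .sub [19, 12, 1, 10, 4] [.out 6030],
  .sub [4, 11, 2, 10, 4] [.out 996],
  .sub [9, 4, 5, 10, 4] [.out 5698],
  .sub [8, 9, 10, 10, 4] [.out 3522],
  .sub [6, 7, 11, 10, 4] [.out 1882],
  .sub [21, 2, 12, 10, 4] [.out 1241],
  .sub [6, 4, 13, 10, 4] [.out 4884],
  .sub [6, 5, 4, 11, 4] [.out 3816],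
  .sub [21, 4, 9, 11, 4] [.out 608],
  .sub [21, 21, 12, 11, 4] [.out 1372],
  .sub [2, 4, 17, 11, 4] [.out 1157],
  .sub [3, 6, 18, 11, 4] [.sub [5, 3, 5, 3, 4, 8, 5, 5, 3, 5, 3, 4, 8, 5, 5, 3, 4, 8, 5, 5, 3, 4, 8, 5, 5, 3, 5, 3] [.out 367]],
  .sub [5, 11, 21, 11, 4] [.out 1934],
  .sub [12, 12, 21, 11, 4] [.out 5066],
  .sub [11, 21, 21, 11, 4] [.out 2748],
  .sub [16, 19, 5, 12, 4] [.sub [5, 3, 5, 3, 4, 8, 5, 5, 3, 5, 3, 5, 3, 4, 8, 5, 5, 3, 5, 3, 4, 8, 5, 5, 3, 4, 8, 5, 5, 3] [.out 5377]],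
  .sub [11, 13, 8, 12, 4] [.out 2625],
  .sub [3, 4, 10, 12, 4] [.out 2518],
  .sub [5, 12, 10, 12, 4] [.out 5072],
  .sub [4, 10, 17, 12, 4] [.out 5536],
  .sub [11, 21, 17, 12, 4] [.out 3427],
  .sub [4, 6, 19, 12, 4] [.out 1047],
  .sub [19, 1, 3, 13, 4] [.out 1051]]

/-- Branches. -/
def kidsXPart33 : List Branch := [
  .sub [4, 8, 4, 13, 4] [.out 881],
  .sub [5, 11, 4, 14, 4] [.out 2263],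
  .sub [12, 7, 11, 14, 4] [.out 3143],
  .sub [18, 8, 18, 14, 4] [.out 5518],
  .sub [17, 12, 21, 14, 4] [.out 3364],
  .sub [10, 5, 1, 17, 4] [.out 4351],
  .sub [17, 8, 21, 17, 4] [.out 5764],
  .sub [19, 4, 1, 19, 4] [.out 3940],
  .sub [21, 10, 5, 21, 4] [.out 2515],
  .sub [10, 8, 17, 12, 5] [.out 1672],
  .sub [14, 4, 18, 6, 8] [.out 1713],
  .sub [6, 8, 18, 6, 8] [.out 1522]]

/-- Branches. -/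
def kidsXAll34 : List Branch :=
  ([kidsXPart1, kidsXPart2, kidsXPart3, kidsXPart4, kidsXPart5, kidsXPart6, kidsXPart7, kidsXPart8, kidsXPart9, kidsXPart10, kidsXPart11, kidsXPart12, kidsXPart13, kidsXPart14, kidsXPart15, kidsXPart16, kidsXPart17, kidsXPart18, kidsXPart19, kidsXPart20, kidsXPart21, kidsXPart22, kidsXPart23, kidsXPart24, kidsXPart25, kidsXPart26, kidsXPart27, kidsXPart28, kidsXPart29, kidsXPart30, kidsXPart31, kidsXPart32, kidsXPart33] : List (List Branch)).flatten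

/-- All branches. -/
def kidsX : List Branch := kidsXAll34

/-- How each base point is restricted. -/
def modesX : List Mode := [.free, .det 0 1, .det 0 2]

/-- The fixed points. -/
def fixX : List ℕ := [3891, 5272]

end CfsgLib.Spor.JThreeOut
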