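import Cfsg.Agent.Lib.Spor.JThreeOut.Data
import Cfsg.Agent.Lib.Spor.JThreeOut.ChainX
import Cfsg.Agent.Lib.Spor.JThreeOut.KidsX
import Cfsg.Agent.Lib.Spor.J3.ActJ.Data

/-!
A centralizer search.
-/

set_option autoImplicit false
set_option maxRecDepth 100000
set_option maxHeartbeats 0

namespace CfsgLib.Spor.JThreeOut

open CfsgLib.Spor.TC CfsgLib.Spor.ActCert

theorem modesX_ok : modesOK CfsgLib.Spor.J3.ActJ.act dat.xw fixX levX modesX = true := by decide +kernel

theorem searchX_ok : searchOK CfsgLib.Spor.J3.ActJ.act dat.xw fixX dat.xpows levX modesX [] [] [] kidsX = true := by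
  decide +kernel

end CfsgLib.Spor.JThreeOut
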