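import Cfsg.Agent.Lib.Spor.ActCert.Search

/-!
Branches of a search.
-/

set_option autoImplicit false
set_option maxRecDepth 100000
set_option maxHeartbeats 0

namespace CfsgLib.Spor.JThreeOut

open CfsgLib.Spor.TC CfsgLib.Spor.ActCert

/-- Branches. -/
def kidsZPart35 : List Branch := [
  .bad [] 0,
  .bad [2, 1, 2, 0, 2, 1, 2, 1, 2, 1, 0, 17, 0, 2, 1, 2, 0, 2, 1, 2, 1, 2, 1, 0, 17, 0, 2, 1, 2, 0, 2, 1, 2, 1, 2, 1, 0, 17, 0, 2, 1, 2, 0, 2, 1, 2, 1, 2, 1, 0, 17, 0, 2, 1, 2, 0, 2, 1, 2, 1, 2, 1, 0, 17, 0, 6, 14, 14, 8, 21, 1, 8, 6, 14, 14, 8, 21, 1, 8, 0, 17, 13, 10, 0, 17, 13, 10] 0,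
  .bad [2, 1, 2, 0, 2, 1, 2, 1, 2, 1, 0, 17, 0, 2, 1, 2, 0, 2, 1, 2, 1, 2, 1, 0, 17, 0, 2, 1, 2, 0, 2, 1, 2, 1, 2, 1, 0, 17, 0, 2, 1, 2, 0, 2, 1, 2, 1, 2, 1, 0, 17, 0, 2, 1, 2, 0, 2, 1, 2, 1, 2, 1, 0, 17, 0, 6, 14, 14, 8, 21, 1, 8, 6, 14, 14, 8, 21, 1, 8, 0, 17, 13, 10, 0, 17, 13, 10, 2, 1, 2, 0, 2, 1, 2, 1, 2, 1, 0, 17, 0, 2, 1, 2, 0, 2, 1, 2, 1, 2, 1, 0, 17, 0, 2, 1, 2, 0, 2, 1, 2, 1, 2, 1, 0, 17, 0, 2, 1, 2, 0, 2, 1, 2, 1, 2, 1, 0, 17, 0, 2, 1, 2, 0, 2, 1, 2, 1, 2, 1, 0, 17, 0, 6, 14, 14, 8, 21, 1, 8, 6, 14, 14, 8, 21, 1, 8, 0, 17, 13, 10, 0, 17, 13, 10] 0,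
  .bad [2, 1, 2, 0, 2, 1, 2, 1, 2, 1, 0, 17, 0, 2, 1, 2, 0, 2, 1, 2, 1, 2, 1, 0, 17, 0, 2, 1, 2, 0, 2, 1, 2, 1, 2, 1, 0, 17, 0, 2, 1, 2, 0, 2, 1, 2, 1, 2, 1, 0, 17, 0, 2, 1, 2, 0, 2, 1, 2, 1, 2, 1, 0, 17, 0, 6, 14, 14, 8, 21, 1, 8, 6, 14, 14, 8, 21, 1, 8, 0, 17, 13, 10, 0, 17, 13, 10, 2, 1, 2, 0, 2, 1, 2, 1, 2, 1, 0, 17, 0, 2, 1, 2, 0, 2, 1, 2, 1, 2, 1, 0, 17, 0, 2, 1, 2, 0, 2, 1, 2, 1, 2, 1, 0, 17, 0, 2, 1, 2, 0, 2, 1, 2, 1, 2, 1, 0, 17, 0, 2, 1, 2, 0, 2, 1, 2, 1, 2, 1, 0, 17, 0, 6, 14, 14, 8, 21, 1, 8, 6, 14, 14, 8, 21, 1, 8, 0, 17, 13, 10, 0, 17, 13, 10, 2, 1, 2, 0, 2, 1, 2, 1, 2, 1, 0, 17, 0, 2, 1, 2, 0, 2, 1, 2, 1, 2, 1, 0, 17, 0, 2, 1, 2, 0, 2, 1, 2, 1, 2, 1, 0, 17,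 0, 2, 1, 2, 0, 2, 1, 2, 1, 2, 1, 0, 17, 0, 2, 1, 2, 0, 2, 1, 2, 1, 2, 1, 0, 17, 0, 6, 14, 14, 8, 21, 1, 8, 6, 14, 14, 8, 21, 1, 8, 0, 17, 13, 10, 0, 17, 13, 10] 0]

/-- Branches. -/
def kidsZPart36 : List Branch := [
  .bad [] 0,
  .bad [2, 1, 2, 0, 2, 1, 2, 1, 2, 1, 0, 17, 0, 2, 1, 2, 0, 2, 1, 2, 1, 2, 1, 0, 17, 0, 2, 1, 2, 0, 2, 1, 2, 1, 2, 1, 0, 17, 0, 2, 1, 2, 0, 2, 1, 2, 1, 2, 1, 0, 17, 0, 2, 1, 2, 0, 2, 1, 2, 1, 2, 1, 0, 17, 0, 6, 14, 14, 8, 21, 1, 8, 6, 14, 14, 8, 21, 1, 8, 0, 17, 13, 10, 0, 17, 13, 10] 0,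
  .bad [2, 1, 2, 0, 2, 1, 2, 1, 2, 1, 0, 17, 0, 2, 1, 2, 0, 2, 1, 2, 1, 2, 1, 0, 17, 0, 2, 1, 2, 0, 2, 1, 2, 1, 2, 1, 0, 17, 0, 2, 1, 2, 0, 2, 1, 2, 1, 2, 1, 0, 17, 0, 2, 1, 2, 0, 2, 1, 2, 1, 2, 1, 0, 17, 0, 6, 14, 14, 8, 21, 1, 8, 6, 14, 14, 8, 21, 1, 8, 0, 17, 13, 10, 0, 17, 13, 10, 2, 1, 2, 0, 2, 1, 2, 1, 2, 1, 0, 17, 0, 2, 1, 2, 0, 2, 1, 2, 1, 2, 1, 0, 17, 0, 2, 1, 2, 0, 2, 1, 2, 1, 2, 1, 0, 17, 0, 2, 1, 2, 0, 2, 1, 2, 1, 2, 1, 0, 17, 0, 2, 1, 2, 0, 2, 1, 2, 1, 2, 1, 0, 17, 0, 6, 14, 14, 8, 21, 1, 8, 6, 14, 14, 8, 21, 1, 8, 0, 17, 13, 10, 0, 17, 13, 10] 0,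
  .bad [2, 1, 2, 0, 2, 1, 2, 1, 2, 1, 0, 17, 0, 2, 1, 2, 0, 2, 1, 2, 1, 2, 1, 0, 17, 0, 2, 1, 2, 0, 2, 1, 2, 1, 2, 1, 0, 17, 0, 2, 1, 2, 0, 2, 1, 2, 1, 2, 1, 0, 17, 0, 2, 1, 2, 0, 2, 1, 2, 1, 2, 1, 0, 17, 0, 6, 14, 14, 8, 21, 1, 8, 6, 14, 14, 8, 21, 1, 8, 0, 17, 13, 10, 0, 17, 13, 10, 2, 1, 2, 0, 2, 1, 2, 1, 2, 1, 0, 17, 0, 2, 1, 2, 0, 2, 1, 2, 1, 2, 1, 0, 17, 0, 2, 1, 2, 0, 2, 1, 2, 1, 2, 1, 0, 17, 0, 2, 1, 2, 0, 2, 1, 2, 1, 2, 1, 0, 17, 0, 2, 1, 2, 0, 2, 1, 2, 1, 2, 1, 0, 17, 0, 6, 14, 14, 8, 21, 1, 8, 6, 14, 14, 8, 21, 1, 8, 0, 17, 13, 10, 0, 17, 13, 10, 2, 1, 2, 0, 2, 1, 2, 1, 2, 1, 0, 17, 0, 2, 1, 2, 0, 2, 1, 2, 1, 2, 1, 0, 17, 0, 2, 1, 2, 0, 2, 1, 2, 1, 2, 1, 0, 17,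 0, 2, 1, 2, 0, 2, 1, 2, 1, 2, 1, 0, 17, 0, 2, 1, 2, 0, 2, 1, 2, 1, 2, 1, 0, 17, 0, 6, 14, 14, 8, 21, 1, 8, 6, 14, 14, 8, 21, 1, 8, 0, 17, 13, 10, 0, 17, 13, 10] 0]

/-- Branches. -/
def kidsZPart37 : List Branch := [
  .out 592,
  .sub [] [.done 0, .done 1, .done 2, .done 3],
  .sub [8, 21, 1, 8, 0, 17, 13, 10, 0, 17, 13, 10, 6, 14, 14, 6, 14, 14, 8, 21, 1, 8] [.done 4, .done 5, .done 6, .done 7],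
  .out 2167,
  .out 2193,
  .out 3539,
  .sub [8, 21, 1, 8, 6, 14, 14, 0, 17, 13, 10, 6, 14, 14, 0, 17, 13, 10, 8, 21, 1, 8] kidsZPart35,
  .out 4796,
  .out 5215,
  .out 5272,
  .out 5651,
  .sub [8, 21, 1, 8, 0, 17, 13, 10, 0, 17, 13, 10, 0, 17, 13, 10, 6, 14, 14, 0, 17, 13, 10, 8, 21, 1, 8] kidsZPart36]

/-- Branches. -/
def kidsZPart38 : List Branch := [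
  .bad [] 0,
  .bad [2, 1, 2, 0, 2, 1, 2, 1, 2, 1, 0, 17, 0, 2, 1, 2, 0, 2, 1, 2, 1, 2, 1, 0, 17, 0, 2, 1, 2, 0, 2, 1, 2, 1, 2, 1, 0, 17, 0, 2, 1, 2, 0, 2, 1, 2, 1, 2, 1, 0, 17, 0, 2, 1, 2, 0, 2, 1, 2, 1, 2, 1, 0, 17, 0, 6, 14, 14, 8, 21, 1, 8, 6, 14, 14, 8, 21, 1, 8, 0, 17, 13, 10, 0, 17, 13, 10] 0,
  .bad [2, 1, 2, 0, 2, 1, 2, 1, 2, 1, 0, 17, 0, 2, 1, 2, 0, 2, 1, 2, 1, 2, 1, 0, 17, 0, 2, 1, 2, 0, 2, 1, 2, 1, 2, 1, 0, 17, 0, 2, 1, 2, 0, 2, 1, 2, 1, 2, 1, 0, 17, 0, 2, 1, 2, 0, 2, 1, 2, 1, 2, 1, 0, 17, 0, 6, 14, 14, 8, 21, 1, 8, 6, 14, 14, 8, 21, 1, 8, 0, 17, 13, 10, 0, 17, 13, 10, 2, 1, 2, 0, 2, 1, 2, 1, 2, 1, 0, 17, 0, 2, 1, 2, 0, 2, 1, 2, 1, 2, 1, 0, 17, 0, 2, 1, 2, 0,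 2, 1, 2, 1, 2, 1, 0, 17, 0, 2, 1, 2, 0, 2, 1, 2, 1, 2, 1, 0, 17, 0, 2, 1, 2, 0, 2, 1, 2, 1, 2, 1, 0, 17, 0, 6, 14, 14, 8, 21, 1, 8, 6, 14, 14, 8, 21, 1, 8, 0, 17, 13, 10, 0, 17, 13, 10] 0,
  .bad [2, 1, 2, 0, 2, 1, 2, 1, 2, 1, 0, 17, 0, 2, 1, 2, 0, 2, 1, 2, 1, 2, 1, 0, 17, 0, 2, 1, 2, 0, 2, 1, 2, 1, 2, 1, 0, 17, 0, 2, 1, 2, 0, 2, 1, 2, 1, 2, 1, 0, 17, 0, 2, 1, 2, 0, 2, 1, 2, 1, 2, 1, 0, 17, 0, 6, 14, 14, 8, 21, 1, 8, 6, 14, 14, 8, 21, 1, 8, 0, 17, 13, 10, 0, 17, 13, 10, 2, 1, 2, 0, 2, 1, 2, 1, 2, 1, 0, 17, 0, 2, 1, 2, 0, 2, 1, 2, 1, 2, 1, 0, 17, 0, 2, 1, 2, 0, 2, 1, 2, 1, 2, 1, 0, 17, 0, 2, 1, 2, 0, 2, 1, 2, 1, 2, 1, 0, 17, 0, 2, 1, 2, 0, 2, 1, 2, 1, 2, 1, 0, 17, 0, 6, 14,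 14, 8, 21, 1, 8, 6, 14, 14, 8, 21, 1, 8, 0, 17, 13, 10, 0, 17, 13, 10, 2, 1, 2, 0, 2, 1, 2, 1, 2, 1, 0, 17, 0, 2, 1, 2, 0, 2, 1, 2, 1, 2, 1, 0, 17, 0, 2, 1, 2, 0, 2, 1, 2, 1, 2, 1, 0, 17, 0, 2, 1, 2, 0, 2, 1, 2, 1, 2, 1, 0, 17, 0, 2, 1, 2, 0, 2, 1, 2, 1, 2, 1, 0, 17, 0, 6, 14, 14, 8, 21, 1, 8, 6, 14, 14, 8, 21, 1, 8, 0, 17, 13, 10, 0, 17, 13, 10] 0]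

/-- Branches. -/
def kidsZPart39 : List Branch := [
  .bad [] 0,
  .bad [2, 1, 2, 0, 2, 1, 2, 1, 2, 1, 0, 17, 0, 2, 1, 2, 0, 2, 1, 2, 1, 2, 1, 0, 17, 0, 2, 1, 2, 0, 2, 1, 2, 1, 2, 1, 0, 17, 0, 2, 1, 2, 0, 2, 1, 2, 1, 2, 1, 0, 17, 0, 2, 1, 2, 0, 2, 1, 2, 1, 2, 1, 0, 17, 0, 6, 14, 14, 8, 21, 1, 8, 6, 14, 14, 8, 21, 1, 8, 0, 17, 13, 10, 0, 17, 13, 10] 0,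
  .bad [2, 1, 2, 0, 2, 1, 2, 1, 2, 1, 0, 17, 0, 2, 1, 2, 0, 2, 1, 2, 1, 2, 1, 0, 17, 0, 2, 1, 2, 0, 2, 1, 2, 1, 2, 1, 0, 17, 0, 2, 1, 2, 0, 2, 1, 2, 1, 2, 1, 0, 17, 0, 2, 1, 2, 0, 2, 1, 2, 1, 2, 1, 0, 17, 0, 6, 14, 14, 8, 21, 1, 8, 6, 14, 14, 8, 21, 1, 8, 0, 17, 13, 10, 0, 17, 13, 10, 2, 1, 2, 0, 2, 1, 2, 1, 2, 1, 0, 17, 0, 2, 1, 2, 0, 2, 1, 2, 1, 2, 1, 0, 17, 0, 2, 1, 2, 0, 2, 1, 2, 1, 2, 1, 0, 17, 0, 2, 1, 2, 0, 2, 1, 2, 1, 2, 1, 0, 17, 0, 2, 1, 2, 0, 2, 1, 2, 1, 2, 1, 0, 17, 0, 6, 14, 14, 8, 21, 1, 8, 6, 14, 14, 8, 21, 1, 8, 0, 17, 13, 10, 0, 17, 13, 10] 0,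
  .bad [2, 1, 2, 0, 2, 1, 2, 1, 2, 1, 0, 17, 0, 2, 1, 2, 0, 2, 1, 2, 1, 2, 1, 0, 17, 0, 2, 1, 2, 0, 2, 1, 2, 1, 2, 1, 0, 17, 0, 2, 1, 2, 0, 2, 1, 2, 1, 2, 1, 0, 17, 0, 2, 1, 2, 0, 2, 1, 2, 1, 2, 1, 0, 17, 0, 6, 14, 14, 8, 21, 1, 8, 6, 14, 14, 8, 21, 1, 8, 0, 17, 13, 10, 0, 17, 13, 10, 2, 1, 2, 0, 2, 1, 2, 1, 2, 1, 0, 17, 0, 2, 1, 2, 0, 2, 1, 2, 1, 2, 1, 0, 17, 0, 2, 1, 2, 0, 2, 1, 2, 1, 2, 1, 0, 17, 0, 2, 1, 2, 0, 2, 1, 2, 1, 2, 1, 0, 17, 0, 2, 1, 2, 0, 2, 1, 2, 1, 2, 1, 0, 17, 0, 6, 14, 14, 8, 21, 1, 8, 6, 14, 14, 8, 21, 1, 8, 0, 17, 13, 10, 0, 17, 13, 10, 2, 1, 2, 0, 2, 1, 2, 1, 2, 1, 0, 17, 0, 2, 1, 2, 0, 2, 1, 2, 1, 2, 1, 0, 17, 0, 2, 1, 2, 0, 2, 1, 2, 1, 2, 1, 0, 17,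 0, 2, 1, 2, 0, 2, 1, 2, 1, 2, 1, 0, 17, 0, 2, 1, 2, 0, 2, 1, 2, 1, 2, 1, 0, 17, 0, 6, 14, 14, 8, 21, 1, 8, 6, 14, 14, 8, 21, 1, 8, 0, 17, 13, 10, 0, 17, 13, 10] 0]

/-- Branches. -/
def kidsZPart40 : List Branch := [
  .sub [8, 21, 1, 8, 0, 17, 13, 10, 6, 14, 14, 8, 21, 1, 8, 6, 14, 14, 0, 17, 13, 10, 6, 14, 14, 0, 17, 13, 10, 8, 21, 1, 8, 6, 14, 14] kidsZPart38,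
  .out 592,
  .out 4409,
  .out 6040,
  .sub [0, 17, 13, 10, 0, 17, 13, 10, 6, 14, 14, 0, 17, 13, 10, 8, 21, 1, 8, 0, 17, 13, 10] kidsZPart39,
  .out 220,
  .sub [6, 14, 14, 0, 17, 13, 10, 8, 21, 1, 8, 0, 17, 13, 10, 8, 21, 1, 8, 6, 14, 14, 6, 14, 14] [.done 28, .done 29, .done 30, .done 31],
  .out 2469,
  .out 435,
  .out 4796,
  .out 3677,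
  .sub [0, 17, 13, 10, 0, 17, 13, 10, 8, 21, 1, 8, 6, 14, 14, 8, 21, 1, 8, 0, 17, 13, 10] [.done 24, .done 25, .done 26, .done 27]]

/-- Branches. -/
def kidsZPart41 : List Branch := [
  .bad [] 0,
  .bad [2, 1, 2, 0, 2, 1, 2, 1, 2, 1, 0, 17, 0, 2, 1, 2, 0, 2, 1, 2, 1, 2, 1, 0, 17, 0, 2, 1, 2, 0, 2, 1, 2, 1, 2, 1, 0, 17, 0, 2, 1, 2, 0, 2, 1, 2, 1, 2, 1, 0, 17, 0, 2, 1, 2, 0, 2, 1, 2, 1, 2, 1, 0, 17, 0, 6, 14, 14, 8, 21, 1, 8, 6, 14, 14, 8, 21, 1, 8, 0, 17, 13, 10, 0, 17, 13, 10] 0,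
  .bad [2, 1, 2, 0, 2, 1, 2, 1, 2, 1, 0, 17, 0, 2, 1, 2, 0, 2, 1, 2, 1, 2, 1, 0, 17, 0, 2, 1, 2, 0, 2, 1, 2, 1, 2, 1, 0, 17, 0, 2, 1, 2, 0, 2, 1, 2, 1, 2, 1, 0, 17, 0, 2, 1, 2, 0, 2, 1, 2, 1, 2, 1, 0, 17, 0, 6, 14, 14, 8, 21, 1, 8, 6, 14, 14, 8, 21, 1, 8, 0, 17, 13, 10, 0, 17, 13, 10, 2, 1, 2, 0, 2, 1, 2, 1, 2, 1, 0, 17, 0, 2, 1, 2, 0, 2, 1, 2, 1, 2, 1, 0, 17, 0, 2, 1, 2, 0, 2, 1, 2, 1, 2, 1, 0, 17, 0, 2, 1, 2, 0, 2, 1, 2, 1, 2, 1, 0, 17, 0, 2, 1, 2, 0, 2, 1, 2, 1, 2, 1, 0, 17, 0, 6, 14, 14, 8, 21, 1, 8, 6, 14, 14, 8, 21, 1, 8, 0, 17, 13, 10, 0, 17, 13, 10] 0,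
  .bad [2, 1, 2, 0, 2, 1, 2, 1, 2, 1, 0, 17, 0, 2, 1, 2, 0, 2, 1, 2, 1, 2, 1, 0, 17, 0, 2, 1, 2, 0, 2, 1, 2, 1, 2, 1, 0, 17, 0, 2, 1, 2, 0, 2, 1, 2, 1, 2, 1, 0, 17, 0, 2, 1, 2, 0, 2, 1, 2, 1, 2, 1, 0, 17, 0, 6, 14, 14, 8, 21, 1, 8, 6, 14, 14, 8, 21, 1, 8, 0, 17, 13, 10, 0, 17, 13, 10, 2, 1, 2, 0, 2, 1, 2, 1, 2, 1, 0, 17, 0, 2, 1, 2, 0, 2, 1, 2, 1, 2, 1, 0, 17, 0, 2, 1, 2, 0, 2, 1, 2, 1, 2, 1, 0, 17, 0, 2, 1, 2, 0, 2, 1, 2, 1, 2, 1, 0, 17, 0, 2, 1, 2, 0, 2, 1, 2, 1, 2, 1, 0, 17, 0, 6, 14, 14, 8, 21, 1, 8, 6, 14, 14, 8, 21, 1, 8, 0, 17, 13, 10, 0, 17, 13, 10, 2, 1, 2, 0, 2, 1, 2, 1, 2, 1, 0, 17, 0, 2, 1, 2, 0, 2, 1, 2, 1, 2, 1, 0, 17, 0, 2, 1, 2, 0, 2, 1, 2, 1, 2, 1, 0, 17,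 0, 2, 1, 2, 0, 2, 1, 2, 1, 2, 1, 0, 17, 0, 2, 1, 2, 0, 2, 1, 2, 1, 2, 1, 0, 17, 0, 6, 14, 14, 8, 21, 1, 8, 6, 14, 14, 8, 21, 1, 8, 0, 17, 13, 10, 0, 17, 13, 10] 0]

/-- Branches. -/
def kidsZPart42 : List Branch := [
  .bad [] 0,
  .bad [2, 1, 2, 0, 2, 1, 2, 1, 2, 1, 0, 17, 0, 2, 1, 2, 0, 2, 1, 2, 1, 2, 1, 0, 17, 0, 2, 1, 2, 0, 2, 1, 2, 1, 2, 1, 0, 17, 0, 2, 1, 2, 0, 2, 1, 2, 1, 2, 1, 0, 17, 0, 2, 1, 2, 0, 2, 1, 2, 1, 2, 1, 0, 17, 0, 6, 14, 14, 8, 21, 1, 8, 6, 14, 14, 8, 21, 1, 8, 0, 17, 13, 10, 0, 17, 13, 10] 0,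
  .bad [2, 1, 2, 0, 2, 1, 2, 1, 2, 1, 0, 17, 0, 2, 1, 2, 0, 2, 1, 2, 1, 2, 1, 0, 17, 0, 2, 1, 2, 0, 2, 1, 2, 1, 2, 1, 0, 17, 0, 2, 1, 2, 0, 2, 1, 2, 1, 2, 1, 0, 17, 0, 2, 1, 2, 0, 2, 1, 2, 1, 2, 1, 0, 17, 0, 6, 14, 14, 8, 21, 1, 8, 6, 14, 14, 8, 21, 1, 8, 0, 17, 13, 10, 0, 17, 13, 10, 2, 1, 2, 0, 2, 1, 2, 1, 2, 1, 0, 17, 0, 2, 1, 2, 0, 2, 1, 2, 1, 2, 1, 0, 17, 0, 2, 1, 2, 0, 2, 1, 2, 1, 2, 1, 0, 17, 0, 2, 1, 2, 0, 2, 1, 2, 1, 2, 1, 0, 17, 0, 2, 1, 2, 0, 2, 1, 2, 1, 2, 1, 0, 17, 0, 6, 14, 14, 8, 21, 1, 8, 6, 14, 14, 8, 21, 1, 8, 0, 17, 13, 10, 0, 17, 13, 10] 0,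
  .bad [2, 1, 2, 0, 2, 1, 2, 1, 2, 1, 0, 17, 0, 2, 1, 2, 0, 2, 1, 2, 1, 2, 1, 0, 17, 0, 2, 1, 2, 0, 2, 1, 2, 1, 2, 1, 0, 17, 0, 2, 1, 2, 0, 2, 1, 2, 1, 2, 1, 0, 17, 0, 2, 1, 2, 0, 2, 1, 2, 1, 2, 1, 0, 17, 0, 6, 14, 14, 8, 21, 1, 8, 6, 14, 14, 8, 21, 1, 8, 0, 17, 13, 10, 0, 17, 13, 10, 2, 1, 2, 0, 2, 1, 2, 1, 2, 1, 0, 17, 0, 2, 1, 2, 0, 2, 1, 2, 1, 2, 1, 0, 17, 0, 2, 1, 2, 0, 2, 1, 2, 1, 2, 1, 0, 17, 0, 2, 1, 2, 0, 2, 1, 2, 1, 2, 1, 0, 17, 0, 2, 1, 2, 0, 2, 1, 2, 1, 2, 1, 0, 17, 0, 6, 14, 14, 8, 21, 1, 8, 6, 14, 14, 8, 21, 1, 8, 0, 17, 13, 10, 0, 17, 13, 10, 2, 1, 2, 0, 2, 1, 2, 1, 2, 1, 0, 17, 0, 2, 1, 2, 0, 2, 1, 2, 1, 2, 1, 0, 17, 0, 2, 1, 2, 0, 2, 1, 2, 1, 2, 1, 0, 17,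 0, 2, 1, 2, 0, 2, 1, 2, 1, 2, 1, 0, 17, 0, 2, 1, 2, 0, 2, 1, 2, 1, 2, 1, 0, 17, 0, 6, 14, 14, 8, 21, 1, 8, 6, 14, 14, 8, 21, 1, 8, 0, 17, 13, 10, 0, 17, 13, 10] 0]

/-- Branches. -/
def kidsZPart43 : List Branch := [
  .sub [8, 21, 1, 8, 6, 14, 14, 0, 17, 13, 10, 8, 21, 1, 8, 6, 14, 14, 6, 14, 14, 8, 21, 1, 8] kidsZPart41,
  .out 1231,
  .out 592,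
  .out 3931,
  .sub [8, 21, 1, 8, 6, 14, 14, 0, 17, 13, 10, 6, 14, 14, 0, 17, 13, 10, 0, 17, 13, 10, 6, 14, 14, 6, 14, 14] kidsZPart42,
  .out 5336,
  .sub [6, 14, 14, 0, 17, 13, 10, 0, 17, 13, 10, 8, 21, 1, 8, 6, 14, 14, 8, 21, 1, 8, 6, 14, 14, 6, 14, 14, 0, 17, 13, 10] [.done 60, .done 61, .done 62, .done 63],
  .out 3842,
  .out 4125,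
  .out 1470,
  .out 3537,
  .sub [6, 14, 14, 8, 21, 1, 8, 6, 14, 14, 0, 17, 13, 10, 6, 14, 14] [.done 56, .done 57, .done 58, .done 59]]

/-- Branches. -/
def kidsZPart44 : List Branch := [
  .bad [] 0,
  .bad [2, 1, 2, 0, 2, 1, 2, 1, 2, 1, 0, 17, 0, 2, 1, 2, 0, 2, 1, 2, 1, 2, 1, 0, 17, 0, 2, 1, 2, 0, 2, 1, 2, 1, 2, 1, 0, 17, 0, 2, 1, 2, 0, 2, 1, 2, 1, 2, 1, 0, 17, 0, 2, 1, 2, 0, 2, 1, 2, 1, 2, 1, 0, 17, 0, 6, 14, 14, 8, 21, 1, 8, 6, 14, 14, 8, 21, 1, 8, 0, 17, 13, 10, 0, 17, 13, 10] 0,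
  .bad [2, 1, 2, 0, 2, 1, 2, 1, 2, 1, 0, 17, 0, 2, 1, 2, 0, 2, 1, 2, 1, 2, 1, 0, 17, 0, 2, 1, 2, 0, 2, 1, 2, 1, 2, 1, 0, 17, 0, 2, 1, 2, 0, 2, 1, 2, 1, 2, 1, 0, 17, 0, 2, 1, 2, 0, 2, 1, 2, 1, 2, 1, 0, 17, 0, 6, 14, 14, 8, 21, 1, 8, 6, 14, 14, 8, 21, 1, 8, 0, 17, 13, 10, 0, 17, 13, 10, 2, 1, 2, 0, 2, 1, 2, 1, 2, 1, 0, 17, 0, 2, 1, 2, 0, 2, 1, 2, 1, 2, 1, 0, 17, 0, 2, 1, 2, 0, 2, 1, 2, 1, 2, 1, 0, 17, 0, 2, 1, 2, 0, 2, 1, 2, 1, 2, 1, 0, 17, 0, 2, 1, 2, 0, 2, 1, 2, 1, 2, 1, 0, 17, 0, 6, 14, 14, 8, 21, 1, 8, 6, 14, 14, 8, 21, 1, 8, 0, 17, 13, 10, 0, 17, 13, 10] 0,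
  .bad [2, 1, 2, 0, 2, 1, 2, 1, 2, 1, 0, 17, 0, 2, 1, 2, 0, 2, 1, 2, 1, 2, 1, 0, 17, 0, 2, 1, 2, 0, 2, 1, 2, 1, 2, 1, 0, 17, 0, 2, 1, 2, 0, 2, 1, 2, 1, 2, 1, 0, 17, 0, 2, 1, 2, 0, 2, 1, 2, 1, 2, 1, 0, 17, 0, 6, 14, 14, 8, 21, 1, 8, 6, 14, 14, 8, 21, 1, 8, 0, 17, 13, 10, 0, 17, 13, 10, 2, 1, 2, 0, 2, 1, 2, 1, 2, 1, 0, 17, 0, 2, 1, 2, 0, 2, 1, 2, 1, 2, 1, 0, 17, 0, 2, 1, 2, 0, 2, 1, 2, 1, 2, 1, 0, 17, 0, 2, 1, 2, 0, 2, 1, 2, 1, 2, 1, 0, 17, 0, 2, 1, 2, 0, 2, 1, 2, 1, 2, 1, 0, 17, 0, 6, 14, 14, 8, 21, 1, 8, 6, 14, 14, 8, 21, 1, 8, 0, 17, 13, 10, 0, 17, 13, 10, 2, 1, 2, 0, 2, 1, 2, 1, 2, 1, 0, 17, 0, 2, 1, 2, 0, 2, 1, 2, 1, 2, 1, 0, 17, 0, 2, 1, 2, 0, 2, 1, 2, 1, 2, 1, 0, 17,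 0, 2, 1, 2, 0, 2, 1, 2, 1, 2, 1, 0, 17, 0, 2, 1, 2, 0, 2, 1, 2, 1, 2, 1, 0, 17, 0, 6, 14, 14, 8, 21, 1, 8, 6, 14, 14, 8, 21, 1, 8, 0, 17, 13, 10, 0, 17, 13, 10] 0]

/-- Branches. -/
def kidsZPart45 : List Branch := [
  .bad [] 0,
  .bad [2, 1, 2, 0, 2, 1, 2, 1, 2, 1, 0, 17, 0, 2, 1, 2, 0, 2, 1, 2, 1, 2, 1, 0, 17, 0, 2, 1, 2, 0, 2, 1, 2, 1, 2, 1, 0, 17, 0, 2, 1, 2, 0, 2, 1, 2, 1, 2, 1, 0, 17, 0, 2, 1, 2, 0, 2, 1, 2, 1, 2, 1, 0, 17, 0, 6, 14, 14, 8, 21, 1, 8, 6, 14, 14, 8, 21, 1, 8, 0, 17, 13, 10, 0, 17, 13, 10] 0,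
  .bad [2, 1, 2, 0, 2, 1, 2, 1, 2, 1, 0, 17, 0, 2, 1, 2, 0, 2, 1, 2, 1, 2, 1, 0, 17, 0, 2, 1, 2, 0, 2, 1, 2, 1, 2, 1, 0, 17, 0, 2, 1, 2, 0, 2, 1, 2, 1, 2, 1, 0, 17, 0, 2, 1, 2, 0, 2, 1, 2, 1, 2, 1, 0, 17, 0, 6, 14, 14, 8, 21, 1, 8, 6, 14, 14, 8, 21, 1, 8, 0, 17, 13, 10, 0, 17, 13, 10, 2, 1, 2, 0, 2, 1, 2, 1, 2, 1, 0, 17, 0, 2, 1, 2, 0, 2, 1, 2, 1, 2, 1, 0, 17, 0, 2, 1, 2, 0, 2, 1, 2, 1, 2, 1, 0, 17, 0, 2, 1, 2, 0, 2, 1, 2, 1, 2, 1, 0, 17, 0, 2, 1, 2, 0, 2, 1, 2, 1, 2, 1, 0, 17, 0, 6, 14, 14, 8, 21, 1, 8, 6, 14, 14, 8, 21, 1, 8, 0, 17, 13, 10, 0, 17, 13, 10] 0,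
  .bad [2, 1, 2, 0, 2, 1, 2, 1, 2, 1, 0, 17, 0, 2, 1, 2, 0, 2, 1, 2, 1, 2, 1, 0, 17, 0, 2, 1, 2, 0, 2, 1, 2, 1, 2, 1, 0, 17, 0, 2, 1, 2, 0, 2, 1, 2, 1, 2, 1, 0, 17, 0, 2, 1, 2, 0, 2, 1, 2, 1, 2, 1, 0, 17, 0, 6, 14, 14, 8, 21, 1, 8, 6, 14, 14, 8, 21, 1, 8, 0, 17, 13, 10, 0, 17, 13, 10, 2, 1, 2, 0, 2, 1, 2, 1, 2, 1, 0, 17, 0, 2, 1, 2, 0, 2, 1, 2, 1, 2, 1, 0, 17, 0, 2, 1, 2, 0, 2, 1, 2, 1, 2, 1, 0, 17, 0, 2, 1, 2, 0, 2, 1, 2, 1, 2, 1, 0, 17, 0, 2, 1, 2, 0, 2, 1, 2, 1, 2, 1, 0, 17, 0, 6, 14, 14, 8, 21, 1, 8, 6, 14, 14, 8, 21, 1, 8, 0, 17, 13, 10, 0, 17, 13, 10, 2, 1, 2, 0, 2, 1, 2, 1, 2, 1, 0, 17, 0, 2, 1, 2, 0, 2, 1, 2, 1, 2, 1, 0, 17, 0, 2, 1, 2, 0, 2, 1, 2, 1, 2, 1, 0, 17,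 0, 2, 1, 2, 0, 2, 1, 2, 1, 2, 1, 0, 17, 0, 2, 1, 2, 0, 2, 1, 2, 1, 2, 1, 0, 17, 0, 6, 14, 14, 8, 21, 1, 8, 6, 14, 14, 8, 21, 1, 8, 0, 17, 13, 10, 0, 17, 13, 10] 0]

/-- Branches. -/
def kidsZPart46 : List Branch := [
  .out 2167,
  .out 1794,
  .out 1335,
  .out 592,
  .out 3605,
  .sub [8, 21, 1, 8, 0, 17, 13, 10, 0, 17, 13, 10, 8, 21, 1, 8, 6, 14, 14, 6, 14, 14, 0, 17, 13, 10, 6, 14, 14] kidsZPart44,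
  .out 1300,
  .out 3367,
  .sub [8, 21, 1, 8, 6, 14, 14, 0, 17, 13, 10, 6, 14, 14, 8, 21, 1, 8, 6, 14, 14, 0, 17, 13, 10] [.done 32, .done 33, .done 34, .done 35],
  .sub [6, 14, 14, 6, 14, 14, 8, 21, 1, 8, 6, 14, 14, 0, 17, 13, 10, 6, 14, 14, 0, 17, 13, 10, 6, 14, 14, 8, 21, 1, 8] [.done 36, .done 37, .done 38, .done 39],
  .sub [8, 21, 1, 8, 0, 17, 13, 10, 8, 21, 1, 8, 0, 17, 13, 10, 6, 14, 14, 8, 21, 1, 8, 0, 17, 13, 10, 8, 21, 1, 8] kidsZPart45,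
  .out 3899]

/-- Branches. -/
def kidsZPart47 : List Branch := [
  .bad [] 0,
  .bad [2, 1, 2, 0, 2, 1, 2, 1, 2, 1, 0, 17, 0, 2, 1, 2, 0, 2, 1, 2, 1, 2, 1, 0, 17, 0, 2, 1, 2, 0, 2, 1, 2, 1, 2, 1, 0, 17, 0, 2, 1, 2, 0, 2, 1, 2, 1, 2, 1, 0, 17, 0, 2, 1, 2, 0, 2, 1, 2, 1, 2, 1, 0, 17, 0, 6, 14, 14, 8, 21, 1, 8, 6, 14, 14, 8, 21, 1, 8, 0, 17, 13, 10, 0, 17, 13, 10] 0,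
  .bad [2, 1, 2, 0, 2, 1, 2, 1, 2, 1, 0, 17, 0, 2, 1, 2, 0, 2, 1, 2, 1, 2, 1, 0, 17, 0, 2, 1, 2, 0, 2, 1, 2, 1, 2, 1, 0, 17, 0, 2, 1, 2, 0, 2, 1, 2, 1, 2, 1, 0, 17, 0, 2, 1, 2, 0, 2, 1, 2, 1, 2, 1, 0, 17, 0, 6, 14, 14, 8, 21, 1, 8, 6, 14, 14, 8, 21, 1, 8, 0, 17, 13, 10, 0, 17, 13, 10, 2, 1, 2, 0, 2, 1, 2, 1, 2, 1, 0, 17, 0, 2, 1, 2, 0, 2, 1, 2, 1, 2, 1, 0, 17, 0, 2, 1, 2, 0, 2, 1, 2, 1, 2, 1, 0, 17, 0, 2, 1, 2, 0, 2, 1, 2, 1, 2, 1, 0, 17, 0, 2, 1, 2, 0, 2, 1, 2, 1, 2, 1, 0, 17, 0, 6, 14, 14, 8, 21, 1, 8, 6, 14, 14, 8, 21, 1, 8, 0, 17, 13, 10, 0, 17, 13, 10] 0,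
  .bad [2, 1, 2, 0, 2, 1, 2, 1, 2, 1, 0, 17, 0, 2, 1, 2, 0, 2, 1, 2, 1, 2, 1, 0, 17, 0, 2, 1, 2, 0, 2, 1, 2, 1, 2, 1, 0, 17, 0, 2, 1, 2, 0, 2, 1, 2, 1, 2, 1, 0, 17, 0, 2, 1, 2, 0, 2, 1, 2, 1, 2, 1, 0, 17, 0, 6, 14, 14, 8, 21, 1, 8, 6, 14, 14, 8, 21, 1, 8, 0, 17, 13, 10, 0, 17, 13, 10, 2, 1, 2, 0, 2, 1, 2, 1, 2, 1, 0, 17, 0, 2, 1, 2, 0, 2, 1, 2, 1, 2, 1, 0, 17, 0, 2, 1, 2, 0, 2, 1, 2, 1, 2, 1, 0, 17, 0, 2, 1, 2, 0, 2, 1, 2, 1, 2, 1, 0, 17, 0, 2, 1, 2, 0, 2, 1, 2, 1, 2, 1, 0, 17, 0, 6, 14, 14, 8, 21, 1, 8, 6, 14, 14, 8, 21, 1, 8, 0, 17, 13, 10, 0, 17, 13, 10, 2, 1, 2, 0, 2, 1, 2, 1, 2, 1, 0, 17, 0, 2, 1, 2, 0, 2, 1, 2, 1, 2, 1, 0, 17, 0, 2, 1, 2, 0, 2, 1, 2, 1, 2, 1, 0, 17,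 0, 2, 1, 2, 0, 2, 1, 2, 1, 2, 1, 0, 17, 0, 2, 1, 2, 0, 2, 1, 2, 1, 2, 1, 0, 17, 0, 6, 14, 14, 8, 21, 1, 8, 6, 14, 14, 8, 21, 1, 8, 0, 17, 13, 10, 0, 17, 13, 10] 0]

/-- Branches. -/
def kidsZPart48 : List Branch := [
  .bad [] 0,
  .bad [2, 1, 2, 0, 2, 1, 2, 1, 2, 1, 0, 17, 0, 2, 1, 2, 0, 2, 1, 2, 1, 2, 1, 0, 17, 0, 2, 1, 2, 0, 2, 1, 2, 1, 2, 1, 0, 17, 0, 2, 1, 2, 0, 2, 1, 2, 1, 2, 1, 0, 17, 0, 2, 1, 2, 0, 2, 1, 2, 1, 2, 1, 0, 17, 0, 6, 14, 14, 8, 21, 1, 8, 6, 14, 14, 8, 21, 1, 8, 0, 17, 13, 10, 0, 17, 13, 10] 0,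
  .bad [2, 1, 2, 0, 2, 1, 2, 1, 2, 1, 0, 17, 0, 2, 1, 2, 0, 2, 1, 2, 1, 2, 1, 0, 17, 0, 2, 1, 2, 0, 2, 1, 2, 1, 2, 1, 0, 17, 0, 2, 1, 2, 0, 2, 1, 2, 1, 2, 1, 0, 17, 0, 2, 1, 2, 0, 2, 1, 2, 1, 2, 1, 0, 17, 0, 6, 14, 14, 8, 21, 1, 8, 6, 14, 14, 8, 21, 1, 8, 0, 17, 13, 10, 0, 17, 13, 10, 2, 1, 2, 0, 2, 1, 2, 1, 2, 1, 0, 17, 0, 2, 1, 2, 0, 2, 1, 2, 1, 2, 1, 0, 17, 0, 2, 1, 2, 0, 2, 1, 2, 1, 2, 1, 0, 17, 0, 2, 1, 2, 0, 2, 1, 2, 1, 2, 1, 0, 17, 0, 2, 1, 2, 0, 2, 1, 2, 1, 2, 1, 0, 17, 0, 6, 14, 14, 8, 21, 1, 8, 6, 14, 14, 8, 21, 1, 8, 0, 17, 13, 10, 0, 17, 13, 10] 0,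
  .bad [2, 1, 2, 0, 2, 1, 2, 1, 2, 1, 0, 17, 0, 2, 1, 2, 0, 2, 1, 2, 1, 2, 1, 0, 17, 0, 2, 1, 2, 0, 2, 1, 2, 1, 2, 1, 0, 17, 0, 2, 1, 2, 0, 2, 1, 2, 1, 2, 1, 0, 17, 0, 2, 1, 2, 0, 2, 1, 2, 1, 2, 1, 0, 17, 0, 6, 14, 14, 8, 21, 1, 8, 6, 14, 14, 8, 21, 1, 8, 0, 17, 13, 10, 0, 17, 13, 10, 2, 1, 2, 0, 2, 1, 2, 1, 2, 1, 0, 17, 0, 2, 1, 2, 0, 2, 1, 2, 1, 2, 1, 0, 17, 0, 2, 1, 2, 0, 2, 1, 2, 1, 2, 1, 0, 17, 0, 2, 1, 2, 0, 2, 1, 2, 1, 2, 1, 0, 17, 0, 2, 1, 2, 0, 2, 1, 2, 1, 2, 1, 0, 17, 0, 6, 14, 14, 8, 21, 1, 8, 6, 14, 14, 8, 21, 1, 8, 0, 17, 13, 10, 0, 17, 13, 10, 2, 1, 2, 0, 2, 1, 2, 1, 2, 1, 0, 17, 0, 2, 1, 2, 0, 2, 1, 2, 1, 2, 1, 0, 17, 0, 2, 1, 2, 0, 2, 1, 2, 1, 2, 1, 0, 17,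 0, 2, 1, 2, 0, 2, 1, 2, 1, 2, 1, 0, 17, 0, 2, 1, 2, 0, 2, 1, 2, 1, 2, 1, 0, 17, 0, 6, 14, 14, 8, 21, 1, 8, 6, 14, 14, 8, 21, 1, 8, 0, 17, 13, 10, 0, 17, 13, 10] 0]

/-- Branches. -/
def kidsZPart49 : List Branch := [
  .out 1310,
  .sub [6, 14, 14, 0, 17, 13, 10, 6, 14, 14, 0, 17, 13, 10, 6, 14, 14, 8, 21, 1, 8, 6, 14, 14, 6, 14, 14] [.done 16, .done 17, .done 18, .done 19],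
  .sub [0, 17, 13, 10, 6, 14, 14, 6, 14, 14, 0, 17, 13, 10, 0, 17, 13, 10, 8, 21, 1, 8, 0, 17, 13, 10, 8, 21, 1, 8, 6, 14, 14] [.done 20, .done 21, .done 22, .done 23],
  .out 942,
  .out 592,
  .out 1009,
  .sub [0, 17, 13, 10, 0, 17, 13, 10, 8, 21, 1, 8, 6, 14, 14, 6, 14, 14, 0, 17, 13, 10, 0, 17, 13, 10] kidsZPart47,
  .out 3356,
  .out 3908,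
  .out 5859,
  .out 3607,
  .sub [0, 17, 13, 10, 0, 17, 13, 10, 8, 21, 1, 8, 0, 17, 13, 10, 0, 17, 13, 10, 8, 21, 1, 8, 6, 14, 14, 8, 21, 1, 8] kidsZPart48]

/-- Branches. -/
def kidsZPart50 : List Branch := [
  .bad [] 0,
  .bad [2, 1, 2, 0, 2, 1, 2, 1, 2, 1, 0, 17, 0, 2, 1, 2, 0, 2, 1, 2, 1, 2, 1, 0, 17, 0, 2, 1, 2, 0, 2, 1, 2, 1, 2, 1, 0, 17, 0, 2, 1, 2, 0, 2, 1, 2, 1, 2, 1, 0, 17, 0, 2, 1, 2, 0, 2, 1, 2, 1, 2, 1, 0, 17, 0, 6, 14, 14, 8, 21, 1, 8, 6, 14, 14, 8, 21, 1, 8, 0, 17, 13, 10, 0, 17, 13, 10] 0,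
  .bad [2, 1, 2, 0, 2, 1, 2, 1, 2, 1, 0, 17, 0, 2, 1, 2, 0, 2, 1, 2, 1, 2, 1, 0, 17, 0, 2, 1, 2, 0, 2, 1, 2, 1, 2, 1, 0, 17, 0, 2, 1, 2, 0, 2, 1, 2, 1, 2, 1, 0, 17, 0, 2, 1, 2, 0, 2, 1, 2, 1, 2, 1, 0, 17, 0, 6, 14, 14, 8, 21, 1, 8, 6, 14, 14, 8, 21, 1, 8, 0, 17, 13, 10, 0, 17, 13, 10, 2, 1, 2, 0, 2, 1, 2, 1, 2, 1, 0, 17, 0, 2, 1, 2, 0, 2, 1, 2, 1, 2, 1, 0, 17, 0, 2, 1, 2, 0, 2, 1, 2, 1, 2, 1, 0, 17, 0, 2, 1, 2, 0, 2, 1, 2, 1, 2, 1, 0, 17, 0, 2, 1, 2, 0, 2, 1, 2, 1, 2, 1, 0, 17, 0, 6, 14, 14, 8, 21, 1, 8, 6, 14, 14, 8, 21, 1, 8, 0, 17, 13, 10, 0, 17, 13, 10] 0,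
  .bad [2, 1, 2, 0, 2, 1, 2, 1, 2, 1, 0, 17, 0, 2, 1, 2, 0, 2, 1, 2, 1, 2, 1, 0, 17, 0, 2, 1, 2, 0, 2, 1, 2, 1, 2, 1, 0, 17, 0, 2, 1, 2, 0, 2, 1, 2, 1, 2, 1, 0, 17, 0, 2, 1, 2, 0, 2, 1, 2, 1, 2, 1, 0, 17, 0, 6, 14, 14, 8, 21, 1, 8, 6, 14, 14, 8, 21, 1, 8, 0, 17, 13, 10, 0, 17, 13, 10, 2, 1, 2, 0, 2, 1, 2, 1, 2, 1, 0, 17, 0, 2, 1, 2, 0, 2, 1, 2, 1, 2, 1, 0, 17, 0, 2, 1, 2, 0, 2, 1, 2, 1, 2, 1, 0, 17, 0, 2, 1, 2, 0, 2, 1, 2, 1, 2, 1, 0, 17, 0, 2, 1, 2, 0, 2, 1, 2, 1, 2, 1, 0, 17, 0, 6, 14, 14, 8, 21, 1, 8, 6, 14, 14, 8, 21, 1, 8, 0, 17, 13, 10, 0, 17, 13, 10, 2, 1, 2, 0, 2, 1, 2, 1, 2, 1, 0, 17, 0, 2, 1, 2, 0, 2, 1, 2, 1, 2, 1, 0, 17, 0, 2, 1, 2, 0, 2, 1, 2, 1, 2, 1, 0, 17,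 0, 2, 1, 2, 0, 2, 1, 2, 1, 2, 1, 0, 17, 0, 2, 1, 2, 0, 2, 1, 2, 1, 2, 1, 0, 17, 0, 6, 14, 14, 8, 21, 1, 8, 6, 14, 14, 8, 21, 1, 8, 0, 17, 13, 10, 0, 17, 13, 10] 0]

/-- Branches. -/
def kidsZPart51 : List Branch := [
  .bad [] 0,
  .bad [2, 1, 2, 0, 2, 1, 2, 1, 2, 1, 0, 17, 0, 2, 1, 2, 0, 2, 1, 2, 1, 2, 1, 0, 17, 0, 2, 1, 2, 0, 2, 1, 2, 1, 2, 1, 0, 17, 0, 2, 1, 2, 0, 2, 1, 2, 1, 2, 1, 0, 17, 0, 2, 1, 2, 0, 2, 1, 2, 1, 2, 1, 0, 17, 0, 6, 14, 14, 8, 21, 1, 8, 6, 14, 14, 8, 21, 1, 8, 0, 17, 13, 10, 0, 17, 13, 10] 0,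
  .bad [2, 1, 2, 0, 2, 1, 2, 1, 2, 1, 0, 17, 0, 2, 1, 2, 0, 2, 1, 2, 1, 2, 1, 0, 17, 0, 2, 1, 2, 0, 2, 1, 2, 1, 2, 1, 0, 17, 0, 2, 1, 2, 0, 2, 1, 2, 1, 2, 1, 0, 17, 0, 2, 1, 2, 0, 2, 1, 2, 1, 2, 1, 0, 17, 0, 6, 14, 14, 8, 21, 1, 8, 6, 14, 14, 8, 21, 1, 8, 0, 17, 13, 10, 0, 17, 13, 10, 2, 1, 2, 0, 2, 1, 2, 1, 2, 1, 0, 17, 0, 2, 1, 2, 0, 2, 1, 2, 1, 2, 1, 0, 17, 0, 2, 1, 2, 0, 2, 1, 2, 1, 2, 1, 0, 17, 0, 2, 1, 2, 0, 2, 1, 2, 1, 2, 1, 0, 17, 0, 2, 1, 2, 0, 2, 1, 2, 1, 2, 1, 0, 17, 0, 6, 14, 14, 8, 21, 1, 8, 6, 14, 14, 8, 21, 1, 8, 0, 17, 13, 10, 0, 17, 13, 10] 0,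
  .bad [2, 1, 2, 0, 2, 1, 2, 1, 2, 1, 0, 17, 0, 2, 1, 2, 0, 2, 1, 2, 1, 2, 1, 0, 17, 0, 2, 1, 2, 0, 2, 1, 2, 1, 2, 1, 0, 17, 0, 2, 1, 2, 0, 2, 1, 2, 1, 2, 1, 0, 17, 0, 2, 1, 2, 0, 2, 1, 2, 1, 2, 1, 0, 17, 0, 6, 14, 14, 8, 21, 1, 8, 6, 14, 14, 8, 21, 1, 8, 0, 17, 13, 10, 0, 17, 13, 10, 2, 1, 2, 0, 2, 1, 2, 1, 2, 1, 0, 17, 0, 2, 1, 2, 0, 2, 1, 2, 1, 2, 1, 0, 17, 0, 2, 1, 2, 0, 2, 1, 2, 1, 2, 1, 0, 17, 0, 2, 1, 2, 0, 2, 1, 2, 1, 2, 1, 0, 17, 0, 2, 1, 2, 0, 2, 1, 2, 1, 2, 1, 0, 17, 0, 6, 14, 14, 8, 21, 1, 8, 6, 14, 14, 8, 21, 1, 8, 0, 17, 13, 10, 0, 17, 13, 10, 2, 1, 2, 0, 2, 1, 2, 1, 2, 1, 0, 17, 0, 2, 1, 2, 0, 2, 1, 2, 1, 2, 1, 0, 17, 0, 2, 1, 2, 0, 2, 1, 2, 1, 2, 1, 0, 17,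 0, 2, 1, 2, 0, 2, 1, 2, 1, 2, 1, 0, 17, 0, 2, 1, 2, 0, 2, 1, 2, 1, 2, 1, 0, 17, 0, 6, 14, 14, 8, 21, 1, 8, 6, 14, 14, 8, 21, 1, 8, 0, 17, 13, 10, 0, 17, 13, 10] 0]

/-- Branches. -/
def kidsZPart52 : List Branch := [
  .out 4932,
  .out 5168,
  .out 3925,
  .sub [8, 21, 1, 8, 0, 17, 13, 10, 6, 14, 14, 0, 17, 13, 10, 6, 14, 14, 8, 21, 1, 8, 6, 14, 14, 8, 21, 1, 8] [.done 84, .done 85, .done 86, .done 87],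
  .out 2695,
  .out 592,
  .out 2880,
  .sub [8, 21, 1, 8, 0, 17, 13, 10, 6, 14, 14, 0, 17, 13, 10, 6, 14, 14, 0, 17, 13, 10, 0, 17, 13, 10, 6, 14, 14] [.done 80, .done 81, .done 82, .done 83],
  .sub [0, 17, 13, 10, 8, 21, 1, 8, 6, 14, 14, 6, 14, 14, 8, 21, 1, 8, 6, 14, 14, 0, 17, 13, 10] kidsZPart50,
  .sub [8, 21, 1, 8, 6, 14, 14, 0, 17, 13, 10, 6, 14, 14, 0, 17, 13, 10, 6, 14, 14, 8, 21, 1, 8, 0, 17, 13, 10, 6, 14, 14, 6, 14, 14] kidsZPart51,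
  .out 3559,
  .out 1216]

/-- Branches. -/
def kidsZPart53 : List Branch := [
  .bad [] 0,
  .bad [2, 1, 2, 0, 2, 1, 2, 1, 2, 1, 0, 17, 0, 2, 1, 2, 0, 2, 1, 2, 1, 2, 1, 0, 17, 0, 2, 1, 2, 0, 2, 1, 2, 1, 2, 1, 0, 17, 0, 2, 1, 2, 0, 2, 1, 2, 1, 2, 1, 0, 17, 0, 2, 1, 2, 0, 2, 1, 2, 1, 2, 1, 0, 17, 0, 6, 14, 14, 8, 21, 1, 8, 6, 14, 14, 8, 21, 1, 8, 0, 17, 13, 10, 0, 17, 13, 10] 0,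
  .bad [2, 1, 2, 0, 2, 1, 2, 1, 2, 1, 0, 17, 0, 2, 1, 2, 0, 2, 1, 2, 1, 2, 1, 0, 17, 0, 2, 1, 2, 0, 2, 1, 2, 1, 2, 1, 0, 17, 0, 2, 1, 2, 0, 2, 1, 2, 1, 2, 1, 0, 17, 0, 2, 1, 2, 0, 2, 1, 2, 1, 2, 1, 0, 17, 0, 6, 14, 14, 8, 21, 1, 8, 6, 14, 14, 8, 21, 1, 8, 0, 17, 13, 10, 0, 17, 13, 10, 2, 1, 2, 0, 2, 1, 2, 1, 2, 1, 0, 17, 0, 2, 1, 2, 0, 2, 1, 2, 1, 2, 1, 0, 17, 0, 2, 1, 2, 0, 2, 1, 2, 1, 2, 1, 0, 17, 0, 2, 1, 2, 0, 2, 1, 2, 1, 2, 1, 0, 17, 0, 2, 1, 2, 0, 2, 1, 2, 1, 2, 1, 0, 17, 0, 6, 14, 14, 8, 21, 1, 8, 6, 14, 14, 8, 21, 1, 8, 0, 17, 13, 10, 0, 17, 13, 10] 0,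
  .bad [2, 1, 2, 0, 2, 1, 2, 1, 2, 1, 0, 17, 0, 2, 1, 2, 0, 2, 1, 2, 1, 2, 1, 0, 17, 0, 2, 1, 2, 0, 2, 1, 2, 1, 2, 1, 0, 17, 0, 2, 1, 2, 0, 2, 1, 2, 1, 2, 1, 0, 17, 0, 2, 1, 2, 0, 2, 1, 2, 1, 2, 1, 0, 17, 0, 6, 14, 14, 8, 21, 1, 8, 6, 14, 14, 8, 21, 1, 8, 0, 17, 13, 10, 0, 17, 13, 10, 2, 1, 2, 0, 2, 1, 2, 1, 2, 1, 0, 17, 0, 2, 1, 2, 0, 2, 1, 2, 1, 2, 1, 0, 17, 0, 2, 1, 2, 0, 2, 1, 2, 1, 2, 1, 0, 17, 0, 2, 1, 2, 0, 2, 1, 2, 1, 2, 1, 0, 17, 0, 2, 1, 2, 0, 2, 1, 2, 1, 2, 1, 0, 17, 0, 6, 14, 14, 8, 21, 1, 8, 6, 14, 14, 8, 21, 1, 8, 0, 17, 13, 10, 0, 17, 13, 10, 2, 1, 2, 0, 2, 1, 2, 1, 2, 1, 0, 17, 0, 2, 1, 2, 0, 2, 1, 2, 1, 2, 1, 0, 17, 0, 2, 1, 2, 0, 2, 1, 2, 1, 2, 1, 0, 17,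 0, 2, 1, 2, 0, 2, 1, 2, 1, 2, 1, 0, 17, 0, 2, 1, 2, 0, 2, 1, 2, 1, 2, 1, 0, 17, 0, 6, 14, 14, 8, 21, 1, 8, 6, 14, 14, 8, 21, 1, 8, 0, 17, 13, 10, 0, 17, 13, 10] 0]

/-- Branches. -/
def kidsZPart54 : List Branch := [
  .bad [] 0,
  .bad [2, 1, 2, 0, 2, 1, 2, 1, 2, 1, 0, 17, 0, 2, 1, 2, 0, 2, 1, 2, 1, 2, 1, 0, 17, 0, 2, 1, 2, 0, 2, 1, 2, 1, 2, 1, 0, 17, 0, 2, 1, 2, 0, 2, 1, 2, 1, 2, 1, 0, 17, 0, 2, 1, 2, 0, 2, 1, 2, 1, 2, 1, 0, 17, 0, 6, 14, 14, 8, 21, 1, 8, 6, 14, 14, 8, 21, 1, 8, 0, 17, 13, 10, 0, 17, 13, 10] 0,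
  .bad [2, 1, 2, 0, 2, 1, 2, 1, 2, 1, 0, 17, 0, 2, 1, 2, 0, 2, 1, 2, 1, 2, 1, 0, 17, 0, 2, 1, 2, 0, 2, 1, 2, 1, 2, 1, 0, 17, 0, 2, 1, 2, 0, 2, 1, 2, 1, 2, 1, 0, 17, 0, 2, 1, 2, 0, 2, 1, 2, 1, 2, 1, 0, 17, 0, 6, 14, 14, 8, 21, 1, 8, 6, 14, 14, 8, 21, 1, 8, 0, 17, 13, 10, 0, 17, 13, 10, 2, 1, 2, 0, 2, 1, 2, 1, 2, 1, 0, 17, 0, 2, 1, 2, 0, 2, 1, 2, 1, 2, 1, 0, 17, 0, 2, 1, 2, 0, 2, 1, 2, 1, 2, 1, 0, 17, 0, 2, 1, 2, 0, 2, 1, 2, 1, 2, 1, 0, 17, 0, 2, 1, 2, 0, 2, 1, 2, 1, 2, 1, 0, 17, 0, 6, 14, 14, 8, 21, 1, 8, 6, 14, 14, 8, 21, 1, 8, 0, 17, 13, 10, 0, 17, 13, 10] 0,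
  .bad [2, 1, 2, 0, 2, 1, 2, 1, 2, 1, 0, 17, 0, 2, 1, 2, 0, 2, 1, 2, 1, 2, 1, 0, 17, 0, 2, 1, 2, 0, 2, 1, 2, 1, 2, 1, 0, 17, 0, 2, 1, 2, 0, 2, 1, 2, 1, 2, 1, 0, 17, 0, 2, 1, 2, 0, 2, 1, 2, 1, 2, 1, 0, 17, 0, 6, 14, 14, 8, 21, 1, 8, 6, 14, 14, 8, 21, 1, 8, 0, 17, 13, 10, 0, 17, 13, 10, 2, 1, 2, 0, 2, 1, 2, 1, 2, 1, 0, 17, 0, 2, 1, 2, 0, 2, 1, 2, 1, 2, 1, 0, 17, 0, 2, 1, 2, 0, 2, 1, 2, 1, 2, 1, 0, 17, 0, 2, 1, 2, 0, 2, 1, 2, 1, 2, 1, 0, 17, 0, 2, 1, 2, 0, 2, 1, 2, 1, 2, 1, 0, 17, 0, 6, 14, 14, 8, 21, 1, 8, 6, 14, 14, 8, 21, 1, 8, 0, 17, 13, 10, 0, 17, 13, 10, 2, 1, 2, 0, 2, 1, 2, 1, 2, 1, 0, 17, 0, 2, 1, 2, 0, 2, 1, 2, 1, 2, 1, 0, 17, 0, 2, 1, 2, 0, 2, 1, 2, 1, 2, 1, 0, 17,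 0, 2, 1, 2, 0, 2, 1, 2, 1, 2, 1, 0, 17, 0, 2, 1, 2, 0, 2, 1, 2, 1, 2, 1, 0, 17, 0, 6, 14, 14, 8, 21, 1, 8, 6, 14, 14, 8, 21, 1, 8, 0, 17, 13, 10, 0, 17, 13, 10] 0]

/-- Branches. -/
def kidsZPart55 : List Branch := [
  .sub [8, 21, 1, 8, 0, 17, 13, 10, 8, 21, 1, 8, 6, 14, 14, 8, 21, 1, 8, 6, 14, 14] [.done 40, .done 41, .done 42, .done 43],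
  .sub [0, 17, 13, 10, 0, 17, 13, 10, 8, 21, 1, 8, 0, 17, 13, 10, 6, 14, 14, 8, 21, 1, 8, 6, 14, 14] kidsZPart53,
  .sub [8, 21, 1, 8, 6, 14, 14, 6, 14, 14, 8, 21, 1, 8, 6, 14, 14, 6, 14, 14, 8, 21, 1, 8, 0, 17, 13, 10] kidsZPart54,
  .out 1570,
  .sub [6, 14, 14, 6, 14, 14, 0, 17, 13, 10, 8, 21, 1, 8, 6, 14, 14, 0, 17, 13, 10, 0, 17, 13, 10] [.done 44, .done 45, .done 46, .done 47],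
  .out 3011,
  .out 592,
  .out 5312,
  .out 1814,
  .out 2749,
  .out 921,
  .out 191]

/-- Branches. -/
def kidsZPart56 : List Branch := [
  .bad [] 0,
  .bad [2, 1, 2, 0, 2, 1, 2, 1, 2, 1, 0, 17, 0, 2, 1, 2, 0, 2, 1, 2, 1, 2, 1, 0, 17, 0, 2, 1, 2, 0, 2, 1, 2, 1, 2, 1, 0, 17, 0, 2, 1, 2, 0, 2, 1, 2, 1, 2, 1, 0, 17, 0, 2, 1, 2, 0, 2, 1, 2, 1, 2, 1, 0, 17, 0, 6, 14, 14, 8, 21, 1, 8, 6, 14, 14, 8, 21, 1, 8, 0, 17, 13, 10, 0, 17, 13, 10] 0,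
  .bad [2, 1, 2, 0, 2, 1, 2, 1, 2, 1, 0, 17, 0, 2, 1, 2, 0, 2, 1, 2, 1, 2, 1, 0, 17, 0, 2, 1, 2, 0, 2, 1, 2, 1, 2, 1, 0, 17, 0, 2, 1, 2, 0, 2, 1, 2, 1, 2, 1, 0, 17, 0, 2, 1, 2, 0, 2, 1, 2, 1, 2, 1, 0, 17, 0, 6, 14, 14, 8, 21, 1, 8, 6, 14, 14, 8, 21, 1, 8, 0, 17, 13, 10, 0, 17, 13, 10, 2, 1, 2, 0, 2, 1, 2, 1, 2, 1, 0, 17, 0, 2, 1, 2, 0, 2, 1, 2, 1, 2, 1, 0, 17, 0, 2, 1, 2, 0, 2, 1, 2, 1, 2, 1, 0, 17, 0, 2, 1, 2, 0, 2, 1, 2, 1, 2, 1, 0, 17, 0, 2, 1, 2, 0, 2, 1, 2, 1, 2, 1, 0, 17, 0, 6, 14, 14, 8, 21, 1, 8, 6, 14, 14, 8, 21, 1, 8, 0, 17, 13, 10, 0, 17, 13, 10] 0,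
  .bad [2, 1, 2, 0, 2, 1, 2, 1, 2, 1, 0, 17, 0, 2, 1, 2, 0, 2, 1, 2, 1, 2, 1, 0, 17, 0, 2, 1, 2, 0, 2, 1, 2, 1, 2, 1, 0, 17, 0, 2, 1, 2, 0, 2, 1, 2, 1, 2, 1, 0, 17, 0, 2, 1, 2, 0, 2, 1, 2, 1, 2, 1, 0, 17, 0, 6, 14, 14, 8, 21, 1, 8, 6, 14, 14, 8, 21, 1, 8, 0, 17, 13, 10, 0, 17, 13, 10, 2, 1, 2, 0, 2, 1, 2, 1, 2, 1, 0, 17, 0, 2, 1, 2, 0, 2, 1, 2, 1, 2, 1, 0, 17, 0, 2, 1, 2, 0, 2, 1, 2, 1, 2, 1, 0, 17, 0, 2, 1, 2, 0, 2, 1, 2, 1, 2, 1, 0, 17, 0, 2, 1, 2, 0, 2, 1, 2, 1, 2, 1, 0, 17, 0, 6, 14, 14, 8, 21, 1, 8, 6, 14, 14, 8, 21, 1, 8, 0, 17, 13, 10, 0, 17, 13, 10, 2, 1, 2, 0, 2, 1, 2, 1, 2, 1, 0, 17, 0, 2, 1, 2, 0, 2, 1, 2, 1, 2, 1, 0, 17, 0, 2, 1, 2, 0, 2, 1, 2, 1, 2, 1, 0, 17,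 0, 2, 1, 2, 0, 2, 1, 2, 1, 2, 1, 0, 17, 0, 2, 1, 2, 0, 2, 1, 2, 1, 2, 1, 0, 17, 0, 6, 14, 14, 8, 21, 1, 8, 6, 14, 14, 8, 21, 1, 8, 0, 17, 13, 10, 0, 17, 13, 10] 0]

/-- Branches. -/
def kidsZPart57 : List Branch := [
  .bad [] 0,
  .bad [2, 1, 2, 0, 2, 1, 2, 1, 2, 1, 0, 17, 0, 2, 1, 2, 0, 2, 1, 2, 1, 2, 1, 0, 17, 0, 2, 1, 2, 0, 2, 1, 2, 1, 2, 1, 0, 17, 0, 2, 1, 2, 0, 2, 1, 2, 1, 2, 1, 0, 17, 0, 2, 1, 2, 0, 2, 1, 2, 1, 2, 1, 0, 17, 0, 6, 14, 14, 8, 21, 1, 8, 6, 14, 14, 8, 21, 1, 8, 0, 17, 13, 10, 0, 17, 13, 10] 0,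
  .bad [2, 1, 2, 0, 2, 1, 2, 1, 2, 1, 0, 17, 0, 2, 1, 2, 0, 2, 1, 2, 1, 2, 1, 0, 17, 0, 2, 1, 2, 0, 2, 1, 2, 1, 2, 1, 0, 17, 0, 2, 1, 2, 0, 2, 1, 2, 1, 2, 1, 0, 17, 0, 2, 1, 2, 0, 2, 1, 2, 1, 2, 1, 0, 17, 0, 6, 14, 14, 8, 21, 1, 8, 6, 14, 14, 8, 21, 1, 8, 0, 17, 13, 10, 0, 17, 13, 10, 2, 1, 2, 0, 2, 1, 2, 1, 2, 1, 0, 17, 0, 2, 1, 2, 0, 2, 1, 2, 1, 2, 1, 0, 17, 0, 2, 1, 2, 0, 2, 1, 2, 1, 2, 1, 0, 17, 0, 2, 1, 2, 0, 2, 1, 2, 1, 2, 1, 0, 17, 0, 2, 1, 2, 0, 2, 1, 2, 1, 2, 1, 0, 17, 0, 6, 14, 14, 8, 21, 1, 8, 6, 14, 14, 8, 21, 1, 8, 0, 17, 13, 10, 0, 17, 13, 10] 0,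
  .bad [2, 1, 2, 0, 2, 1, 2, 1, 2, 1, 0, 17, 0, 2, 1, 2, 0, 2, 1, 2, 1, 2, 1, 0, 17, 0, 2, 1, 2, 0, 2, 1, 2, 1, 2, 1, 0, 17, 0, 2, 1, 2, 0, 2, 1, 2, 1, 2, 1, 0, 17, 0, 2, 1, 2, 0, 2, 1, 2, 1, 2, 1, 0, 17, 0, 6, 14, 14, 8, 21, 1, 8, 6, 14, 14, 8, 21, 1, 8, 0, 17, 13, 10, 0, 17, 13, 10, 2, 1, 2, 0, 2, 1, 2, 1, 2, 1, 0, 17, 0, 2, 1, 2, 0, 2, 1, 2, 1, 2, 1, 0, 17, 0, 2, 1, 2, 0, 2, 1, 2, 1, 2, 1, 0, 17, 0, 2, 1, 2, 0, 2, 1, 2, 1, 2, 1, 0, 17, 0, 2, 1, 2, 0, 2, 1, 2, 1, 2, 1, 0, 17, 0, 6, 14, 14, 8, 21, 1, 8, 6, 14, 14, 8, 21, 1, 8, 0, 17, 13, 10, 0, 17, 13, 10, 2, 1, 2, 0, 2, 1, 2, 1, 2, 1, 0, 17, 0, 2, 1, 2, 0, 2, 1, 2, 1, 2, 1, 0, 17, 0, 2, 1, 2, 0, 2, 1, 2, 1, 2, 1, 0, 17,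 0, 2, 1, 2, 0, 2, 1, 2, 1, 2, 1, 0, 17, 0, 2, 1, 2, 0, 2, 1, 2, 1, 2, 1, 0, 17, 0, 6, 14, 14, 8, 21, 1, 8, 6, 14, 14, 8, 21, 1, 8, 0, 17, 13, 10, 0, 17, 13, 10] 0]

/-- Branches. -/
def kidsZPart58 : List Branch := [
  .out 2814,
  .out 2574,
  .out 4659,
  .out 2048,
  .out 4904,
  .sub [6, 14, 14, 6, 14, 14, 8, 21, 1, 8, 6, 14, 14, 0, 17, 13, 10, 6, 14, 14] kidsZPart56,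
  .out 5097,
  .out 592,
  .sub [0, 17, 13, 10, 8, 21, 1, 8, 0, 17, 13, 10, 8, 21, 1, 8, 0, 17, 13, 10, 8, 21, 1, 8, 0, 17, 13, 10] [.done 64, .done 65, .done 66, .done 67],
  .sub [6, 14, 14, 8, 21, 1, 8, 6, 14, 14, 0, 17, 13, 10, 6, 14, 14, 0, 17, 13, 10, 0, 17, 13, 10, 6, 14, 14, 6, 14, 14] [.done 68, .done 69, .done 70, .done 71],
  .sub [0, 17, 13, 10, 6, 14, 14, 6, 14, 14, 8, 21, 1, 8, 6, 14, 14, 8, 21, 1, 8, 6, 14, 14, 8, 21, 1, 8] kidsZPart57,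
  .out 2140]

/-- Branches. -/
def kidsZPart59 : List Branch := [
  .bad [] 0,
  .bad [2, 1, 2, 0, 2, 1, 2, 1, 2, 1, 0, 17, 0, 2, 1, 2, 0, 2, 1, 2, 1, 2, 1, 0, 17, 0, 2, 1, 2, 0, 2, 1, 2, 1, 2, 1, 0, 17, 0, 2, 1, 2, 0, 2, 1, 2, 1, 2, 1, 0, 17, 0, 2, 1, 2, 0, 2, 1, 2, 1, 2, 1, 0, 17, 0, 6, 14, 14, 8, 21, 1, 8, 6, 14, 14, 8, 21, 1, 8, 0, 17, 13, 10, 0, 17, 13, 10] 0,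
  .bad [2, 1, 2, 0, 2, 1, 2, 1, 2, 1, 0, 17, 0, 2, 1, 2, 0, 2, 1, 2, 1, 2, 1, 0, 17, 0, 2, 1, 2, 0, 2, 1, 2, 1, 2, 1, 0, 17, 0, 2, 1, 2, 0, 2, 1, 2, 1, 2, 1, 0, 17, 0, 2, 1, 2, 0, 2, 1, 2, 1, 2, 1, 0, 17, 0, 6, 14, 14, 8, 21, 1, 8, 6, 14, 14, 8, 21, 1, 8, 0, 17, 13, 10, 0, 17, 13, 10, 2, 1, 2, 0, 2, 1, 2, 1, 2, 1, 0, 17, 0, 2, 1, 2, 0, 2, 1, 2, 1, 2, 1, 0, 17, 0, 2, 1, 2, 0, 2, 1, 2, 1, 2, 1, 0, 17, 0, 2, 1, 2, 0, 2, 1, 2, 1, 2, 1, 0, 17, 0, 2, 1, 2, 0, 2, 1, 2, 1, 2, 1, 0, 17, 0, 6, 14, 14, 8, 21, 1, 8, 6, 14, 14, 8, 21, 1, 8, 0, 17, 13, 10, 0, 17, 13, 10] 0,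
  .bad [2, 1, 2, 0, 2, 1, 2, 1, 2, 1, 0, 17, 0, 2, 1, 2, 0, 2, 1, 2, 1, 2, 1, 0, 17, 0, 2, 1, 2, 0, 2, 1, 2, 1, 2, 1, 0, 17, 0, 2, 1, 2, 0, 2, 1, 2, 1, 2, 1, 0, 17, 0, 2, 1, 2, 0, 2, 1, 2, 1, 2, 1, 0, 17, 0, 6, 14, 14, 8, 21, 1, 8, 6, 14, 14, 8, 21, 1, 8, 0, 17, 13, 10, 0, 17, 13, 10, 2, 1, 2, 0, 2, 1, 2, 1, 2, 1, 0, 17, 0, 2, 1, 2, 0, 2, 1, 2, 1, 2, 1, 0, 17, 0, 2, 1, 2, 0, 2, 1, 2, 1, 2, 1, 0, 17, 0, 2, 1, 2, 0, 2, 1, 2, 1, 2, 1, 0, 17, 0, 2, 1, 2, 0, 2, 1, 2, 1, 2, 1, 0, 17, 0, 6, 14, 14, 8, 21, 1, 8, 6, 14, 14, 8, 21, 1, 8, 0, 17, 13, 10, 0, 17, 13, 10, 2, 1, 2, 0, 2, 1, 2, 1, 2, 1, 0, 17, 0, 2, 1, 2, 0, 2, 1, 2, 1, 2, 1, 0, 17, 0, 2, 1, 2, 0, 2, 1, 2, 1, 2, 1, 0, 17,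 0, 2, 1, 2, 0, 2, 1, 2, 1, 2, 1, 0, 17, 0, 2, 1, 2, 0, 2, 1, 2, 1, 2, 1, 0, 17, 0, 6, 14, 14, 8, 21, 1, 8, 6, 14, 14, 8, 21, 1, 8, 0, 17, 13, 10, 0, 17, 13, 10] 0]

/-- Branches. -/
def kidsZPart60 : List Branch := [
  .bad [] 0,
  .bad [2, 1, 2, 0, 2, 1, 2, 1, 2, 1, 0, 17, 0, 2, 1, 2, 0, 2, 1, 2, 1, 2, 1, 0, 17, 0, 2, 1, 2, 0, 2, 1, 2, 1, 2, 1, 0, 17, 0, 2, 1, 2, 0, 2, 1, 2, 1, 2, 1, 0, 17, 0, 2, 1, 2, 0, 2, 1, 2, 1, 2, 1, 0, 17, 0, 6, 14, 14, 8, 21, 1, 8, 6, 14, 14, 8, 21, 1, 8, 0, 17, 13, 10, 0, 17, 13, 10] 0,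
  .bad [2, 1, 2, 0, 2, 1, 2, 1, 2, 1, 0, 17, 0, 2, 1, 2, 0, 2, 1, 2, 1, 2, 1, 0, 17, 0, 2, 1, 2, 0, 2, 1, 2, 1, 2, 1, 0, 17, 0, 2, 1, 2, 0, 2, 1, 2, 1, 2, 1, 0, 17, 0, 2, 1, 2, 0, 2, 1, 2, 1, 2, 1, 0, 17, 0, 6, 14, 14, 8, 21, 1, 8, 6, 14, 14, 8, 21, 1, 8, 0, 17, 13, 10, 0, 17, 13, 10, 2, 1, 2, 0, 2, 1, 2, 1, 2, 1, 0, 17, 0, 2, 1, 2, 0, 2, 1, 2, 1, 2, 1, 0, 17, 0, 2, 1, 2, 0, 2, 1, 2, 1, 2, 1, 0, 17, 0, 2, 1, 2, 0, 2, 1, 2, 1, 2, 1, 0, 17, 0, 2, 1, 2, 0, 2, 1, 2, 1, 2, 1, 0, 17, 0, 6, 14, 14, 8, 21, 1, 8, 6, 14, 14, 8, 21, 1, 8, 0, 17, 13, 10, 0, 17, 13, 10] 0,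
  .bad [2, 1, 2, 0, 2, 1, 2, 1, 2, 1, 0, 17, 0, 2, 1, 2, 0, 2, 1, 2, 1, 2, 1, 0, 17, 0, 2, 1, 2, 0, 2, 1, 2, 1, 2, 1, 0, 17, 0, 2, 1, 2, 0, 2, 1, 2, 1, 2, 1, 0, 17, 0, 2, 1, 2, 0, 2, 1, 2, 1, 2, 1, 0, 17, 0, 6, 14, 14, 8, 21, 1, 8, 6, 14, 14, 8, 21, 1, 8, 0, 17, 13, 10, 0, 17, 13, 10, 2, 1, 2, 0, 2, 1, 2, 1, 2, 1, 0, 17, 0, 2, 1, 2, 0, 2, 1, 2, 1, 2, 1, 0, 17, 0, 2, 1, 2, 0, 2, 1, 2, 1, 2, 1, 0, 17, 0, 2, 1, 2, 0, 2, 1, 2, 1, 2, 1, 0, 17, 0, 2, 1, 2, 0, 2, 1, 2, 1, 2, 1, 0, 17, 0, 6, 14, 14, 8, 21, 1, 8, 6, 14, 14, 8, 21, 1, 8, 0, 17, 13, 10, 0, 17, 13, 10, 2, 1, 2, 0, 2, 1, 2, 1, 2, 1, 0, 17, 0, 2, 1, 2, 0, 2, 1, 2, 1, 2, 1, 0, 17, 0, 2, 1, 2, 0, 2, 1, 2, 1, 2, 1, 0, 17,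 0, 2, 1, 2, 0, 2, 1, 2, 1, 2, 1, 0, 17, 0, 2, 1, 2, 0, 2, 1, 2, 1, 2, 1, 0, 17, 0, 6, 14, 14, 8, 21, 1, 8, 6, 14, 14, 8, 21, 1, 8, 0, 17, 13, 10, 0, 17, 13, 10] 0]

/-- Branches. -/
def kidsZPart61 : List Branch := [
  .out 2333,
  .out 3537,
  .out 220,
  .sub [8, 21, 1, 8, 6, 14, 14, 0, 17, 13, 10, 0, 17, 13, 10, 6, 14, 14] kidsZPart59,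
  .out 4304,
  .sub [8, 21, 1, 8, 0, 17, 13, 10, 6, 14, 14, 0, 17, 13, 10, 8, 21, 1, 8, 0, 17, 13, 10, 6, 14, 14, 6, 14, 14] [.done 12, .done 13, .done 14, .done 15],
  .out 1076,
  .sub [8, 21, 1, 8, 6, 14, 14, 8, 21, 1, 8, 6, 14, 14, 8, 21, 1, 8] kidsZPart60,
  .out 592,
  .out 5728,
  .sub [0, 17, 13, 10, 0, 17, 13, 10, 0, 17, 13, 10, 8, 21, 1, 8, 0, 17, 13, 10, 6, 14, 14, 0, 17, 13, 10] [.done 8, .done 9, .done 10, .done 11],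
  .out 5651]

/-- Branches. -/
def kidsZPart62 : List Branch := [
  .bad [] 0,
  .bad [2, 1, 2, 0, 2, 1, 2, 1, 2, 1, 0, 17, 0, 2, 1, 2, 0, 2, 1, 2, 1, 2, 1, 0, 17, 0, 2, 1, 2, 0, 2, 1, 2, 1, 2, 1, 0, 17, 0, 2, 1, 2, 0, 2, 1, 2, 1, 2, 1, 0, 17, 0, 2, 1, 2, 0, 2, 1, 2, 1, 2, 1, 0, 17, 0, 6, 14, 14, 8, 21, 1, 8, 6, 14, 14, 8, 21, 1, 8, 0, 17, 13, 10, 0, 17, 13, 10] 0,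
  .bad [2, 1, 2, 0, 2, 1, 2, 1, 2, 1, 0, 17, 0, 2, 1, 2, 0, 2, 1, 2, 1, 2, 1, 0, 17, 0, 2, 1, 2, 0, 2, 1, 2, 1, 2, 1, 0, 17, 0, 2, 1, 2, 0, 2, 1, 2, 1, 2, 1, 0, 17, 0, 2, 1, 2, 0, 2, 1, 2, 1, 2, 1, 0, 17, 0, 6, 14, 14, 8, 21, 1, 8, 6, 14, 14, 8, 21, 1, 8, 0, 17, 13, 10, 0, 17, 13, 10, 2, 1, 2, 0, 2, 1, 2, 1, 2, 1, 0, 17, 0, 2, 1, 2, 0, 2, 1, 2, 1, 2, 1, 0, 17, 0, 2, 1, 2, 0, 2, 1, 2, 1, 2, 1, 0, 17, 0, 2, 1, 2, 0, 2, 1, 2, 1, 2, 1, 0, 17, 0, 2, 1, 2, 0, 2, 1, 2, 1, 2, 1, 0, 17, 0, 6, 14, 14, 8, 21, 1, 8, 6, 14, 14, 8, 21, 1, 8, 0, 17, 13, 10, 0, 17, 13, 10] 0,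
  .bad [2, 1, 2, 0, 2, 1, 2, 1, 2, 1, 0, 17, 0, 2, 1, 2, 0, 2, 1, 2, 1, 2, 1, 0, 17, 0, 2, 1, 2, 0, 2, 1, 2, 1, 2, 1, 0, 17, 0, 2, 1, 2, 0, 2, 1, 2, 1, 2, 1, 0, 17, 0, 2, 1, 2, 0, 2, 1, 2, 1, 2, 1, 0, 17, 0, 6, 14, 14, 8, 21, 1, 8, 6, 14, 14, 8, 21, 1, 8, 0, 17, 13, 10, 0, 17, 13, 10, 2, 1, 2, 0, 2, 1, 2, 1, 2, 1, 0, 17, 0, 2, 1, 2, 0, 2, 1, 2, 1, 2, 1, 0, 17, 0, 2, 1, 2, 0, 2, 1, 2, 1, 2, 1, 0, 17, 0, 2, 1, 2, 0, 2, 1, 2, 1, 2, 1, 0, 17, 0, 2, 1, 2, 0, 2, 1, 2, 1, 2, 1, 0, 17, 0, 6, 14, 14, 8, 21, 1, 8, 6, 14, 14, 8, 21, 1, 8, 0, 17, 13, 10, 0, 17, 13, 10, 2, 1, 2, 0, 2, 1, 2, 1, 2, 1, 0, 17, 0, 2, 1, 2, 0, 2, 1, 2, 1, 2, 1, 0, 17, 0, 2, 1, 2, 0, 2, 1, 2, 1, 2, 1, 0, 17,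 0, 2, 1, 2, 0, 2, 1, 2, 1, 2, 1, 0, 17, 0, 2, 1, 2, 0, 2, 1, 2, 1, 2, 1, 0, 17, 0, 6, 14, 14, 8, 21, 1, 8, 6, 14, 14, 8, 21, 1, 8, 0, 17, 13, 10, 0, 17, 13, 10] 0]

/-- Branches. -/
def kidsZPart63 : List Branch := [
  .bad [] 0,
  .bad [2, 1, 2, 0, 2, 1, 2, 1, 2, 1, 0, 17, 0, 2, 1, 2, 0, 2, 1, 2, 1, 2, 1, 0, 17, 0, 2, 1, 2, 0, 2, 1, 2, 1, 2, 1, 0, 17, 0, 2, 1, 2, 0, 2, 1, 2, 1, 2, 1, 0, 17, 0, 2, 1, 2, 0, 2, 1, 2, 1, 2, 1, 0, 17, 0, 6, 14, 14, 8, 21, 1, 8, 6, 14, 14, 8, 21, 1, 8, 0, 17, 13, 10, 0, 17, 13, 10] 0,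
  .bad [2, 1, 2, 0, 2, 1, 2, 1, 2, 1, 0, 17, 0, 2, 1, 2, 0, 2, 1, 2, 1, 2, 1, 0, 17, 0, 2, 1, 2, 0, 2, 1, 2, 1, 2, 1, 0, 17, 0, 2, 1, 2, 0, 2, 1, 2, 1, 2, 1, 0, 17, 0, 2, 1, 2, 0, 2, 1, 2, 1, 2, 1, 0, 17, 0, 6, 14, 14, 8, 21, 1, 8, 6, 14, 14, 8, 21, 1, 8, 0, 17, 13, 10, 0, 17, 13, 10, 2, 1, 2, 0, 2, 1, 2, 1, 2, 1, 0, 17, 0, 2, 1, 2, 0, 2, 1, 2, 1, 2, 1, 0, 17, 0, 2, 1, 2, 0, 2, 1, 2, 1, 2, 1, 0, 17, 0, 2, 1, 2, 0, 2, 1, 2, 1, 2, 1, 0, 17, 0, 2, 1, 2, 0, 2, 1, 2, 1, 2, 1, 0, 17, 0, 6, 14, 14, 8, 21, 1, 8, 6, 14, 14, 8, 21, 1, 8, 0, 17, 13, 10, 0, 17, 13, 10] 0,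
  .bad [2, 1, 2, 0, 2, 1, 2, 1, 2, 1, 0, 17, 0, 2, 1, 2, 0, 2, 1, 2, 1, 2, 1, 0, 17, 0, 2, 1, 2, 0, 2, 1, 2, 1, 2, 1, 0, 17, 0, 2, 1, 2, 0, 2, 1, 2, 1, 2, 1, 0, 17, 0, 2, 1, 2, 0, 2, 1, 2, 1, 2, 1, 0, 17, 0, 6, 14, 14, 8, 21, 1, 8, 6, 14, 14, 8, 21, 1, 8, 0, 17, 13, 10, 0, 17, 13, 10, 2, 1, 2, 0, 2, 1, 2, 1, 2, 1, 0, 17, 0, 2, 1, 2, 0, 2, 1, 2, 1, 2, 1, 0, 17, 0, 2, 1, 2, 0, 2, 1, 2, 1, 2, 1, 0, 17, 0, 2, 1, 2, 0, 2, 1, 2, 1, 2, 1, 0, 17, 0, 2, 1, 2, 0, 2, 1, 2, 1, 2, 1, 0, 17, 0, 6, 14, 14, 8, 21, 1, 8, 6, 14, 14, 8, 21, 1, 8, 0, 17, 13, 10, 0, 17, 13, 10, 2, 1, 2, 0, 2, 1, 2, 1, 2, 1, 0, 17, 0, 2, 1, 2, 0, 2, 1, 2, 1, 2, 1, 0, 17, 0, 2, 1, 2, 0, 2, 1, 2, 1, 2, 1, 0, 17,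 0, 2, 1, 2, 0, 2, 1, 2, 1, 2, 1, 0, 17, 0, 2, 1, 2, 0, 2, 1, 2, 1, 2, 1, 0, 17, 0, 6, 14, 14, 8, 21, 1, 8, 6, 14, 14, 8, 21, 1, 8, 0, 17, 13, 10, 0, 17, 13, 10] 0]

/-- Branches. -/
def kidsZPart64 : List Branch := [
  .out 5860,
  .out 1383,
  .out 987,
  .sub [8, 21, 1, 8, 6, 14, 14, 0, 17, 13, 10, 6, 14, 14, 8, 21, 1, 8, 0, 17, 13, 10, 8, 21, 1, 8, 6, 14, 14, 6, 14, 14] kidsZPart62,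
  .out 339,
  .sub [0, 17, 13, 10, 0, 17, 13, 10, 8, 21, 1, 8, 0, 17, 13, 10, 0, 17, 13, 10, 0, 17, 13, 10] [.done 72, .done 73, .done 74, .done 75],
  .out 2138,
  .sub [6, 14, 14, 8, 21, 1, 8, 6, 14, 14, 0, 17, 13, 10, 6, 14, 14, 8, 21, 1, 8, 0, 17, 13, 10, 6, 14, 14] kidsZPart63,
  .out 3941,
  .out 592,
  .sub [8, 21, 1, 8, 0, 17, 13, 10, 6, 14, 14, 6, 14, 14, 8, 21, 1, 8, 0, 17, 13, 10, 0, 17, 13, 10] [.done 76, .done 77, .done 78, .done 79],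
  .out 2749]

/-- Branches. -/
def kidsZPart65 : List Branch := [
  .bad [] 0,
  .bad [2, 1, 2, 0, 2, 1, 2, 1, 2, 1, 0, 17, 0, 2, 1, 2, 0, 2, 1, 2, 1, 2, 1, 0, 17, 0, 2, 1, 2, 0, 2, 1, 2, 1, 2, 1, 0, 17, 0, 2, 1, 2, 0, 2, 1, 2, 1, 2, 1, 0, 17, 0, 2, 1, 2, 0, 2, 1, 2, 1, 2, 1, 0, 17, 0, 6, 14, 14, 8, 21, 1, 8, 6, 14, 14, 8, 21, 1, 8, 0, 17, 13, 10, 0, 17, 13, 10] 0,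
  .bad [2, 1, 2, 0, 2, 1, 2, 1, 2, 1, 0, 17, 0, 2, 1, 2, 0, 2, 1, 2, 1, 2, 1, 0, 17, 0, 2, 1, 2, 0, 2, 1, 2, 1, 2, 1, 0, 17, 0, 2, 1, 2, 0, 2, 1, 2, 1, 2, 1, 0, 17, 0, 2, 1, 2, 0, 2, 1, 2, 1, 2, 1, 0, 17, 0, 6, 14, 14, 8, 21, 1, 8, 6, 14, 14, 8, 21, 1, 8, 0, 17, 13, 10, 0, 17, 13, 10, 2, 1, 2, 0, 2, 1, 2, 1, 2, 1, 0, 17, 0, 2, 1, 2, 0, 2, 1, 2, 1, 2, 1, 0, 17, 0, 2, 1, 2, 0, 2, 1, 2, 1, 2, 1, 0, 17, 0, 2, 1, 2, 0, 2, 1, 2, 1, 2, 1, 0, 17, 0, 2, 1, 2, 0, 2, 1, 2, 1, 2, 1, 0, 17, 0, 6, 14, 14, 8, 21, 1, 8, 6, 14, 14, 8, 21, 1, 8, 0, 17, 13, 10, 0, 17, 13, 10] 0,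
  .bad [2, 1, 2, 0, 2, 1, 2, 1, 2, 1, 0, 17, 0, 2, 1, 2, 0, 2, 1, 2, 1, 2, 1, 0, 17, 0, 2, 1, 2, 0, 2, 1, 2, 1, 2, 1, 0, 17, 0, 2, 1, 2, 0, 2, 1, 2, 1, 2, 1, 0, 17, 0, 2, 1, 2, 0, 2, 1, 2, 1, 2, 1, 0, 17, 0, 6, 14, 14, 8, 21, 1, 8, 6, 14, 14, 8, 21, 1, 8, 0, 17, 13, 10, 0, 17, 13, 10, 2, 1, 2, 0, 2, 1, 2, 1, 2, 1, 0, 17, 0, 2, 1, 2, 0, 2, 1, 2, 1, 2, 1, 0, 17, 0, 2, 1, 2, 0, 2, 1, 2, 1, 2, 1, 0, 17, 0, 2, 1, 2, 0, 2, 1, 2, 1, 2, 1, 0, 17, 0, 2, 1, 2, 0, 2, 1, 2, 1, 2, 1, 0, 17, 0, 6, 14, 14, 8, 21, 1, 8, 6, 14, 14, 8, 21, 1, 8, 0, 17, 13, 10, 0, 17, 13, 10, 2, 1, 2, 0, 2, 1, 2, 1, 2, 1, 0, 17, 0, 2, 1, 2, 0, 2, 1, 2, 1, 2, 1, 0, 17, 0, 2, 1, 2, 0, 2, 1, 2, 1, 2, 1, 0, 17,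 0, 2, 1, 2, 0, 2, 1, 2, 1, 2, 1, 0, 17, 0, 2, 1, 2, 0, 2, 1, 2, 1, 2, 1, 0, 17, 0, 6, 14, 14, 8, 21, 1, 8, 6, 14, 14, 8, 21, 1, 8, 0, 17, 13, 10, 0, 17, 13, 10] 0]

/-- Branches. -/
def kidsZPart66 : List Branch := [
  .bad [] 0,
  .bad [2, 1, 2, 0, 2, 1, 2, 1, 2, 1, 0, 17, 0, 2, 1, 2, 0, 2, 1, 2, 1, 2, 1, 0, 17, 0, 2, 1, 2, 0, 2, 1, 2, 1, 2, 1, 0, 17, 0, 2, 1, 2, 0, 2, 1, 2, 1, 2, 1, 0, 17, 0, 2, 1, 2, 0, 2, 1, 2, 1, 2, 1, 0, 17, 0, 6, 14, 14, 8, 21, 1, 8, 6, 14, 14, 8, 21, 1, 8, 0, 17, 13, 10, 0, 17, 13, 10] 0,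
  .bad [2, 1, 2, 0, 2, 1, 2, 1, 2, 1, 0, 17, 0, 2, 1, 2, 0, 2, 1, 2, 1, 2, 1, 0, 17, 0, 2, 1, 2, 0, 2, 1, 2, 1, 2, 1, 0, 17, 0, 2, 1, 2, 0, 2, 1, 2, 1, 2, 1, 0, 17, 0, 2, 1, 2, 0, 2, 1, 2, 1, 2, 1, 0, 17, 0, 6, 14, 14, 8, 21, 1, 8, 6, 14, 14, 8, 21, 1, 8, 0, 17, 13, 10, 0, 17, 13, 10, 2, 1, 2, 0, 2, 1, 2, 1, 2, 1, 0, 17, 0, 2, 1, 2, 0, 2, 1, 2, 1, 2, 1, 0, 17, 0, 2, 1, 2, 0, 2, 1, 2, 1, 2, 1, 0, 17, 0, 2, 1, 2, 0, 2, 1, 2, 1, 2, 1, 0, 17, 0, 2, 1, 2, 0, 2, 1, 2, 1, 2, 1, 0, 17, 0, 6, 14, 14, 8, 21, 1, 8, 6, 14, 14, 8, 21, 1, 8, 0, 17, 13, 10, 0, 17, 13, 10] 0,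
  .bad [2, 1, 2, 0, 2, 1, 2, 1, 2, 1, 0, 17, 0, 2, 1, 2, 0, 2, 1, 2, 1, 2, 1, 0, 17, 0, 2, 1, 2, 0, 2, 1, 2, 1, 2, 1, 0, 17, 0, 2, 1, 2, 0, 2, 1, 2, 1, 2, 1, 0, 17, 0, 2, 1, 2, 0, 2, 1, 2, 1, 2, 1, 0, 17, 0, 6, 14, 14, 8, 21, 1, 8, 6, 14, 14, 8, 21, 1, 8, 0, 17, 13, 10, 0, 17, 13, 10, 2, 1, 2, 0, 2, 1, 2, 1, 2, 1, 0, 17, 0, 2, 1, 2, 0, 2, 1, 2, 1, 2, 1, 0, 17, 0, 2, 1, 2, 0, 2, 1, 2, 1, 2, 1, 0, 17, 0, 2, 1, 2, 0, 2, 1, 2, 1, 2, 1, 0, 17, 0, 2, 1, 2, 0, 2, 1, 2, 1, 2, 1, 0, 17, 0, 6, 14, 14, 8, 21, 1, 8, 6, 14, 14, 8, 21, 1, 8, 0, 17, 13, 10, 0, 17, 13, 10, 2, 1, 2, 0, 2, 1, 2, 1, 2, 1, 0, 17, 0, 2, 1, 2, 0, 2, 1, 2, 1, 2, 1, 0, 17, 0, 2, 1, 2, 0, 2, 1, 2, 1, 2, 1, 0, 17,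 0, 2, 1, 2, 0, 2, 1, 2, 1, 2, 1, 0, 17, 0, 2, 1, 2, 0, 2, 1, 2, 1, 2, 1, 0, 17, 0, 6, 14, 14, 8, 21, 1, 8, 6, 14, 14, 8, 21, 1, 8, 0, 17, 13, 10, 0, 17, 13, 10] 0]

/-- Branches. -/
def kidsZPart67 : List Branch := [
  .out 1383,
  .out 1379,
  .out 5460,
  .sub [6, 14, 14, 8, 21, 1, 8, 6, 14, 14, 6, 14, 14, 8, 21, 1, 8, 6, 14, 14, 6, 14, 14, 0, 17, 13, 10] [.done 52, .done 53, .done 54, .done 55],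
  .out 1076,
  .out 11,
  .out 105,
  .sub [6, 14, 14, 0, 17, 13, 10, 8, 21, 1, 8, 0, 17, 13, 10, 8, 21, 1, 8, 6, 14, 14, 0, 17, 13, 10, 8, 21, 1, 8] [.done 48, .done 49, .done 50, .done 51],
  .sub [6, 14, 14, 0, 17, 13, 10, 8, 21, 1, 8, 0, 17, 13, 10, 8, 21, 1, 8, 0, 17, 13, 10, 6, 14, 14, 8, 21, 1, 8] kidsZPart65,
  .sub [0, 17, 13, 10, 8, 21, 1, 8, 0, 17, 13, 10, 0, 17, 13, 10, 8, 21, 1, 8, 6, 14, 14, 0, 17, 13, 10, 8, 21, 1, 8, 6, 14, 14, 6, 14, 14] kidsZPart66,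
  .out 592,
  .out 73]

/-- Branches. -/
def kidsZPart68 : List Branch := [
  .bad [] 0,
  .bad [2, 1, 2, 0, 2, 1, 2, 1, 2, 1, 0, 17, 0, 2, 1, 2, 0, 2, 1, 2, 1, 2, 1, 0, 17, 0, 2, 1, 2, 0, 2, 1, 2, 1, 2, 1, 0, 17, 0, 2, 1, 2, 0, 2, 1, 2, 1, 2, 1, 0, 17, 0, 2, 1, 2, 0, 2, 1, 2, 1, 2, 1, 0, 17, 0, 6, 14, 14, 8, 21, 1, 8, 6, 14, 14, 8, 21, 1, 8, 0, 17, 13, 10, 0, 17, 13, 10] 0,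
  .bad [2, 1, 2, 0, 2, 1, 2, 1, 2, 1, 0, 17, 0, 2, 1, 2, 0, 2, 1, 2, 1, 2, 1, 0, 17, 0, 2, 1, 2, 0, 2, 1, 2, 1, 2, 1, 0, 17, 0, 2, 1, 2, 0, 2, 1, 2, 1, 2, 1, 0, 17, 0, 2, 1, 2, 0, 2, 1, 2, 1, 2, 1, 0, 17, 0, 6, 14, 14, 8, 21, 1, 8, 6, 14, 14, 8, 21, 1, 8, 0, 17, 13, 10, 0, 17, 13, 10, 2, 1, 2, 0, 2, 1, 2, 1, 2, 1, 0, 17, 0, 2, 1, 2, 0, 2, 1, 2, 1, 2, 1, 0, 17, 0, 2, 1, 2, 0, 2, 1, 2, 1, 2, 1, 0, 17, 0, 2, 1, 2, 0, 2, 1, 2, 1, 2, 1, 0, 17, 0, 2, 1, 2, 0, 2, 1, 2, 1, 2, 1, 0, 17, 0, 6, 14, 14, 8, 21, 1, 8, 6, 14, 14, 8, 21, 1, 8, 0, 17, 13, 10, 0, 17, 13, 10] 0,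
  .bad [2, 1, 2, 0, 2, 1, 2, 1, 2, 1, 0, 17, 0, 2, 1, 2, 0, 2, 1, 2, 1, 2, 1, 0, 17, 0, 2, 1, 2, 0, 2, 1, 2, 1, 2, 1, 0, 17, 0, 2, 1, 2, 0, 2, 1, 2, 1, 2, 1, 0, 17, 0, 2, 1, 2, 0, 2, 1, 2, 1, 2, 1, 0, 17, 0, 6, 14, 14, 8, 21, 1, 8, 6, 14, 14, 8, 21, 1, 8, 0, 17, 13, 10, 0, 17, 13, 10, 2, 1, 2, 0, 2, 1, 2, 1, 2, 1, 0, 17, 0, 2, 1, 2, 0, 2, 1, 2, 1, 2, 1, 0, 17, 0, 2, 1, 2, 0, 2, 1, 2, 1, 2, 1, 0, 17, 0, 2, 1, 2, 0, 2, 1, 2, 1, 2, 1, 0, 17, 0, 2, 1, 2, 0, 2, 1, 2, 1, 2, 1, 0, 17, 0, 6, 14, 14, 8, 21, 1, 8, 6, 14, 14, 8, 21, 1, 8, 0, 17, 13, 10, 0, 17, 13, 10, 2, 1, 2, 0, 2, 1, 2, 1, 2, 1, 0, 17, 0, 2, 1, 2, 0, 2, 1, 2, 1, 2, 1, 0, 17, 0, 2, 1, 2, 0, 2, 1, 2, 1, 2, 1, 0, 17,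 0, 2, 1, 2, 0, 2, 1, 2, 1, 2, 1, 0, 17, 0, 2, 1, 2, 0, 2, 1, 2, 1, 2, 1, 0, 17, 0, 6, 14, 14, 8, 21, 1, 8, 6, 14, 14, 8, 21, 1, 8, 0, 17, 13, 10, 0, 17, 13, 10] 0]

/-- Branches. -/
def kidsZPart69 : List Branch := [
  .bad [] 0,
  .bad [2, 1, 2, 0, 2, 1, 2, 1, 2, 1, 0, 17, 0, 2, 1, 2, 0, 2, 1, 2, 1, 2, 1, 0, 17, 0, 2, 1, 2, 0, 2, 1, 2, 1, 2, 1, 0, 17, 0, 2, 1, 2, 0, 2, 1, 2, 1, 2, 1, 0, 17, 0, 2, 1, 2, 0, 2, 1, 2, 1, 2, 1, 0, 17, 0, 6, 14, 14, 8, 21, 1, 8, 6, 14, 14, 8, 21, 1, 8, 0, 17, 13, 10, 0, 17, 13, 10] 0,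
  .bad [2, 1, 2, 0, 2, 1, 2, 1, 2, 1, 0, 17, 0, 2, 1, 2, 0, 2, 1, 2, 1, 2, 1, 0, 17, 0, 2, 1, 2, 0, 2, 1, 2, 1, 2, 1, 0, 17, 0, 2, 1, 2, 0, 2, 1, 2, 1, 2, 1, 0, 17, 0, 2, 1, 2, 0, 2, 1, 2, 1, 2, 1, 0, 17, 0, 6, 14, 14, 8, 21, 1, 8, 6, 14, 14, 8, 21, 1, 8, 0, 17, 13, 10, 0, 17, 13, 10, 2, 1, 2, 0, 2, 1, 2, 1, 2, 1, 0, 17, 0, 2, 1, 2, 0, 2, 1, 2, 1, 2, 1, 0, 17, 0, 2, 1, 2, 0, 2, 1, 2, 1, 2, 1, 0, 17, 0, 2, 1, 2, 0, 2, 1, 2, 1, 2, 1, 0, 17, 0, 2, 1, 2, 0, 2, 1, 2, 1, 2, 1, 0, 17, 0, 6, 14, 14, 8, 21, 1, 8, 6, 14, 14, 8, 21, 1, 8, 0, 17, 13, 10, 0, 17, 13, 10] 0,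
  .bad [2, 1, 2, 0, 2, 1, 2, 1, 2, 1, 0, 17, 0, 2, 1, 2, 0, 2, 1, 2, 1, 2, 1, 0, 17, 0, 2, 1, 2, 0, 2, 1, 2, 1, 2, 1, 0, 17, 0, 2, 1, 2, 0, 2, 1, 2, 1, 2, 1, 0, 17, 0, 2, 1, 2, 0, 2, 1, 2, 1, 2, 1, 0, 17, 0, 6, 14, 14, 8, 21, 1, 8, 6, 14, 14, 8, 21, 1, 8, 0, 17, 13, 10, 0, 17, 13, 10, 2, 1, 2, 0, 2, 1, 2, 1, 2, 1, 0, 17, 0, 2, 1, 2, 0, 2, 1, 2, 1, 2, 1, 0, 17, 0, 2, 1, 2, 0, 2, 1, 2, 1, 2, 1, 0, 17, 0, 2, 1, 2, 0, 2, 1, 2, 1, 2, 1, 0, 17, 0, 2, 1, 2, 0, 2, 1, 2, 1, 2, 1, 0, 17, 0, 6, 14, 14, 8, 21, 1, 8, 6, 14, 14, 8, 21, 1, 8, 0, 17, 13, 10, 0, 17, 13, 10, 2, 1, 2, 0, 2, 1, 2, 1, 2, 1, 0, 17, 0, 2, 1, 2, 0, 2, 1, 2, 1, 2, 1, 0, 17, 0, 2, 1, 2, 0, 2, 1, 2, 1, 2, 1, 0, 17,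 0, 2, 1, 2, 0, 2, 1, 2, 1, 2, 1, 0, 17, 0, 2, 1, 2, 0, 2, 1, 2, 1, 2, 1, 0, 17, 0, 6, 14, 14, 8, 21, 1, 8, 6, 14, 14, 8, 21, 1, 8, 0, 17, 13, 10, 0, 17, 13, 10] 0]

/-- Branches. -/
def kidsZPart70 : List Branch := [
  .sub [8, 21, 1, 8, 0, 17, 13, 10, 0, 17, 13, 10, 6, 14, 14, 0, 17, 13, 10, 8, 21, 1, 8, 0, 17, 13, 10, 6, 14, 14] [.done 92, .done 93, .done 94, .done 95],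
  .sub [6, 14, 14, 6, 14, 14, 0, 17, 13, 10, 8, 21, 1, 8, 6, 14, 14, 0, 17, 13, 10] kidsZPart68,
  .sub [0, 17, 13, 10, 8, 21, 1, 8, 6, 14, 14, 0, 17, 13, 10, 6, 14, 14, 8, 21, 1, 8, 0, 17, 13, 10] kidsZPart69,
  .out 3539,
  .sub [0, 17, 13, 10, 6, 14, 14, 8, 21, 1, 8, 6, 14, 14, 8, 21, 1, 8, 6, 14, 14] [.done 88, .done 89, .done 90, .done 91],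
  .out 5550,
  .out 6118,
  .out 4398,
  .out 4921,
  .out 2695,
  .out 6086,
  .out 592]

/-- Branches. -/
def kidsZPart71 : List Branch := [
  .sub [] kidsZPart37,
  .sub [9, 10, 4, 2] kidsZPart40,
  .sub [0, 8, 14, 3] kidsZPart43,
  .sub [3, 11, 6, 2] kidsZPart46,
  .sub [18, 8, 7, 1] kidsZPart49,
  .sub [16, 4, 14, 5] kidsZPart52,
  .sub [16, 4, 7, 2] kidsZPart55,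
  .sub [4, 16, 8, 4] kidsZPart58,
  .sub [2, 5, 4] kidsZPart61,
  .sub [8, 16, 6, 5] kidsZPart64,
  .sub [5, 8, 10, 3] kidsZPart67,
  .sub [3, 11, 5, 12] kidsZPart70]

/-- All branches. -/
def kidsZ : List Branch := kidsZPart71

/-- How each base point is restricted. -/
def modesZ : List Mode := [.fixd, .fixd, .free]

/-- The fixed points. -/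
def fixZ : List ℕ := [592, 1630, 1823, 2167, 2193, 3539, 3891, 4796, 5215, 5272, 5651, 6071]

end CfsgLib.Spor.JThreeOut
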