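import Cfsg.Agent.Lib.Spor.JThreeOut.CheckChainX
import Cfsg.Agent.Lib.Spor.JThreeOut.CheckChainZ
import Cfsg.Agent.Lib.Spor.JThreeOut.CheckX
import Cfsg.Agent.Lib.Spor.JThreeOut.CheckZ
import Cfsg.Agent.Lib.Spor.JThreeOut.CheckPair
import Cfsg.Agent.Lib.Spor.J3.Order
import Cfsg.Agent.Lib.Spor.J3.Mat.Group

/-!
The outer automorphism group of the third Janko group has order two.
-/

set_option autoImplicit false

namespace CfsgLib.Spor.JThreeOut

open Cfsg CfsgLib.Spor.TC CfsgLib.Spor.ActCert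

instance neZero_points : NeZero CfsgLib.Spor.J3.ActJ.act.n := ⟨Nat.succ_ne_zero 6155⟩

theorem exact_of {Ls : List WLevel}
    (h : chainW CfsgLib.Spor.J3.ActJ.act [] Ls = true ∧ chainProd Ls = 50232960) :
    Exact J3.ActJ.valid Ls :=
  ⟨h.1, J3.rho_injective, by rw [J3.card_eq, h.2], by rw [h.2]; norm_num⟩

theorem out_pres : Nat.card (Out (Pres CfsgLib.Spor.J3.ActJ.act.k CfsgLib.Spor.J3.relsJ)) = 2 := by
  haveI : Fact dat.p.Prime := ⟨by norm_num [dat]⟩
  refine out_two dat (exact_of chainZ_ok) ?_ (by decide) (by decide) ?_ elts_ok (exact_of chainX_ok) modesX_ok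
    searchX_ok (exact_of chainZ_ok) modesZ_ok searchZ_ok cands_ok
  · rw [J3.card_eq, show dat.p = 17 from rfl, show (50232960 : ℕ) = 17 ^ 1 * 2954880 by norm_num,
      Nat.factorization_mul (by norm_num) (by norm_num), Nat.factorization_pow, Finsupp.add_apply,
      Finsupp.smul_apply, Nat.Prime.factorization_self (by norm_num),
      Nat.factorization_eq_zero_of_not_dvd (by norm_num)]
    rfl
  · have h : ∀ k < 17, k ≠ 0 → ∃ i < 8, k * dat.r ^ i % dat.p ∈ dat.S := by decide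
    intro k hk h0
    obtain ⟨i, -, hi⟩ := h k hk h0
    exact ⟨i, hi⟩

theorem out_J3 {F : Type*} [Field F] [Fintype F] (hF : Fintype.card F = 4) (ω : F) (hω : ω ^ 2 + ω + 1 = 0) :
    Nat.card (Out (Spor.J3 F ω)) = 2 := by
  obtain ⟨-, -, ⟨e⟩⟩ := J3.Mat.main hF ω hω
  exact (out_card_congr e).symm.trans out_pres

end CfsgLib.Spor.JThreeOut
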