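import Cfsg.Agent.Lib.Spor.ActCert.Out

/-!
The named elements.
-/

set_option autoImplicit false
set_option maxRecDepth 100000
set_option maxHeartbeats 0

namespace CfsgLib.Spor.JThreeOut

open CfsgLib.Spor.TC CfsgLib.Spor.ActCert

/-- The element of prime order. -/
def xWord : List ℕ := [1, 2, 0, 3, 1, 3]

/-- The second image. -/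
def wWord : List ℕ := [0, 2, 1, 3, 0, 2, 1, 0, 3, 2, 1, 0, 2, 0, 3, 1, 2, 0]

/-- The generators as words in the pair. -/
def gensWord : List (List ℕ) := [[0, 0, 0, 0, 0, 0, 0, 0, 0, 0, 1, 0, 0, 0, 0, 0, 0, 0, 0, 0, 0, 0, 0, 1, 0, 0, 0, 0, 0, 1, 0, 0, 0, 0, 0, 0, 0, 0, 0, 0, 1, 0, 0, 0, 0, 0, 0, 0, 0, 0, 0, 0, 0, 0, 1, 0, 0, 0, 0, 0, 0, 0, 0, 0, 0, 0, 0, 0, 1, 0, 1, 0, 0, 0, 0, 0, 0, 1, 0, 0, 1, 0, 0, 0, 0, 0, 0, 0, 0, 0, 1, 0, 0],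
    [0, 0, 0, 0, 0, 0, 0, 0, 0, 0, 0, 0, 1, 0, 0, 0, 0, 0, 0, 0, 0, 0, 0, 0, 1, 0, 0, 0, 0, 0, 0, 0, 0, 0, 0, 0, 0, 0, 0, 0, 1, 1, 0, 0, 0, 0, 0, 0, 0, 0, 0, 0, 0, 0, 0, 0, 0, 1, 0, 0, 0, 0, 0, 0, 0, 0, 0, 0, 0, 0, 0, 0, 1, 0, 0, 1, 0, 0, 0, 0, 1, 0, 0, 0],
    [0, 0, 0, 0, 0, 0, 0, 0, 0, 1, 0, 0, 0, 0, 0, 0, 1, 0, 0, 0, 0, 0, 1, 0, 0, 0, 0, 0, 0, 0, 0, 0, 0, 1, 0, 0, 0, 0, 0, 0, 0, 0, 1, 0, 0, 0, 0, 0, 0, 0, 0, 0, 0, 0, 0, 0, 0, 0, 0, 1, 0, 0, 0, 0, 0, 1, 0, 0, 0, 0, 0, 1, 0, 0, 0, 0, 0, 0, 0, 0, 0, 0, 0, 0, 1, 0, 1, 0, 0],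
    [0, 0, 0, 0, 0, 0, 0, 0, 0, 0, 0, 0, 0, 1, 0, 0, 0, 0, 0, 0, 0, 0, 0, 1, 0, 0, 0, 0, 0, 0, 0, 0, 1, 0, 0, 0, 0, 0, 0, 0, 0, 0, 0, 1, 0, 0, 0, 0, 0, 0, 0, 0, 0, 1, 0, 0, 0, 0, 0, 0, 0, 0, 0, 1, 0, 0, 0, 0]]

/-- The data. -/
def dat : OutData where
  p := 17
  r := 9
  d := 2
  xw := xWord
  yw := [2, 1, 3, 1, 0, 2, 1, 0, 1, 2, 1, 2, 1, 2, 0, 3, 1, 2, 1, 3, 1, 3, 1, 0, 2, 1, 0, 3, 1, 2]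
  ww := [0, 3, 1, 3, 0, 2, 3, 0, 1, 2, 0, 1, 3, 0, 2, 1, 2, 0, 3, 1, 0, 2, 1, 3, 2, 0, 2, 1, 3, 0]
  S := [1, 3]
  forms := [([14, 1, 15, 16], 2)]
  gens := gensWord
  s2 := 1
  w2 := wWord
  gens2 := [[0, 0, 0, 0, 0, 0, 0, 0, 0, 0, 0, 0, 0, 0, 1, 0, 1, 0, 0, 0, 0, 0, 0, 0, 0, 0, 0, 0, 0, 0, 1, 0, 0, 0, 0, 0, 0, 0, 0, 0, 0, 0, 0, 0, 0, 0, 0, 1, 0, 0, 0, 1, 0, 0, 0, 0, 0, 0, 0, 0, 0, 0, 0, 0, 1, 0, 1, 0, 0, 0],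
    [0, 0, 0, 0, 0, 0, 0, 1, 0, 0, 0, 0, 0, 0, 0, 0, 0, 0, 0, 0, 0, 1, 0, 0, 1, 0, 0, 0, 0, 0, 0, 0, 0, 0, 1, 0, 0, 0, 0, 1, 0, 0, 0, 0, 0, 0, 0, 0, 1, 0],
    [0, 1, 0, 0, 0, 0, 1, 1, 0, 0, 0, 0, 0, 0, 0, 0, 1, 0, 0, 0, 0, 0, 0, 0, 0, 0, 0, 0, 0, 0, 0, 0, 1, 0, 0, 0, 0, 0, 0, 0, 1, 0, 0, 0, 0, 1, 0, 0, 0, 0, 0, 0, 0, 0, 0, 0, 0, 0, 0, 0, 0, 0, 1, 0, 0, 0, 0, 0, 0, 0, 1, 0],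
    [0, 0, 0, 0, 0, 0, 0, 0, 0, 0, 0, 0, 0, 1, 0, 0, 0, 0, 0, 0, 0, 0, 0, 1, 0, 0, 0, 0, 0, 0, 0, 0, 1, 0, 0, 0, 0, 0, 0, 0, 0, 0, 0, 1, 0, 0, 0, 0, 0, 0, 0, 0, 0, 1, 0, 0, 0, 0, 0, 0, 0, 0, 0, 1, 0, 0, 0, 0]]
  sigma := gensWord.map (pairWord (powWord xWord 1) wWord)

/-- The centralizer of the power of the normalizing element. -/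
def allowed : List (List ℕ) := [
  [],
  [0, 2, 0, 3, 1, 3, 0, 1, 2, 3, 0, 2, 1, 3, 0, 2, 1, 3, 2, 1, 2, 0, 2, 1, 3, 1, 3, 1, 2, 0, 2],
  [3, 0, 3, 1, 3, 0, 2, 0, 3, 3, 1, 3, 2, 1, 0, 3, 2, 1, 3, 2, 0, 2, 1, 3, 0],
  [2, 0, 2, 1, 3, 1, 2, 0, 3, 0, 1, 3, 2, 0, 2, 1, 2, 0, 3, 1, 0, 2, 1, 0, 2, 1, 0, 2],
  [3, 0, 1, 3, 0, 2, 3, 1, 3, 2, 0, 2, 1, 3, 2, 1, 2, 0, 3, 2, 1, 2, 0, 3, 1, 3],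
  [0, 1, 2, 3, 1, 2, 1, 0, 1, 0, 2, 3, 2, 1, 0, 3, 0, 2, 1, 3, 2, 1, 2, 0, 2, 1, 3, 2, 1, 0],
  [0, 2, 3, 0, 1, 2, 3, 0, 2, 1, 0, 3, 2, 1, 0, 3, 2, 1, 3, 0, 2, 1, 3, 2, 0],
  [2, 3, 0, 1, 2, 1, 2, 3, 1, 0, 3, 1, 3, 2, 1, 0, 3, 1, 3, 1, 2, 1, 0, 2, 1, 2],
  [0, 2, 3, 1, 0, 2, 0, 2, 1, 2, 1, 0, 2, 1, 0, 3, 2, 1, 2, 0, 3, 1, 2, 0, 3],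
  [2, 0, 2, 1, 0, 2, 3, 2, 0, 1, 0, 2, 1, 3, 2, 1, 0, 3, 1, 0, 2, 1, 3, 0, 2, 1, 3, 2, 0, 2],
  [0, 3, 0, 3, 2, 1, 3, 0, 2, 1, 3, 1, 3, 1, 3, 2, 1, 0, 3, 2, 1, 0, 3, 2, 1, 2, 0, 2, 1, 0, 2, 0, 3],
  [2, 1, 2, 1, 2, 0, 2, 3, 0, 2, 1, 2, 1, 0, 2, 1, 0, 2, 0, 3, 1, 2, 1, 3, 0, 2],
  [0, 1, 2, 3, 0, 2, 3, 2, 0, 1, 3, 2, 1, 2, 0, 2, 1, 3, 1, 0, 3, 2, 1, 0, 3, 2, 1, 2, 0, 3, 1],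
  [2, 0, 2, 3, 2, 2, 1, 2, 0, 3, 1, 2, 1, 3, 1, 0, 3, 1, 3, 2, 1, 0, 2, 0],
  [0, 2, 1, 2, 0, 1, 2, 1, 2, 1, 3, 2, 1, 3, 0, 2, 1, 3, 1, 2, 0, 3, 1, 3, 0, 2],
  [1, 2, 1, 0, 2, 0, 1, 0, 3, 2, 0, 3, 2, 1, 3, 1, 0, 3, 2, 1, 2, 0, 2, 1, 3, 1, 3, 1],
  [2, 1, 0, 2, 0, 3, 2, 0, 1, 3, 0, 2, 1, 0, 2, 1, 0, 2, 0, 3, 1, 2, 0, 3, 1, 2],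
  [0, 1, 3, 2, 1, 0, 3, 0, 3, 1, 2, 1, 3, 0, 2, 1, 3, 1, 3, 1, 0, 2, 1, 0, 2, 1, 2, 1, 0],
  [0, 2, 1, 3, 0, 2, 1, 0, 3, 2, 1, 0, 2, 0, 3, 1, 2, 0],
  [2, 1, 0, 1, 2, 3, 2, 1, 2, 3, 1, 0, 1, 2, 1, 2, 1, 3, 0, 2, 1, 3, 0, 2, 1, 2, 1, 0, 2, 1, 0, 3],
  [3, 0, 1, 3, 0, 2, 3, 0, 1, 2, 0, 3, 0, 0, 3, 1, 2, 1, 0, 3, 0, 2, 1, 3, 0, 2, 1, 0, 3, 2, 0],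
  [0, 2, 1, 3, 1, 0, 2, 1, 0, 3, 1, 3, 2, 1, 0, 3, 2, 1, 2, 1, 3, 2],
  [1, 3, 0, 3, 0, 1, 0, 3, 1, 0, 2, 3, 0, 1, 0, 3, 1, 2, 0, 2, 1, 3, 2, 1, 0, 2, 1, 0, 2, 1, 0],
  [1, 3, 1, 0, 1, 0, 1, 2, 3, 0, 1, 0, 2, 0, 3, 1, 2, 1, 0, 2, 1, 2, 0, 3, 2, 1, 2, 1, 0, 2],
  [2, 3, 0, 2, 1, 2, 1, 3, 1, 2, 3, 1, 1, 0, 3, 1, 0, 2, 1, 0, 2, 1, 0, 2, 1, 0, 2, 1, 3, 2, 0],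
  [3, 1, 0, 1, 0, 2, 3, 0, 3, 1, 2, 0, 3, 2, 1, 2, 1, 3, 0, 2, 1, 2, 1, 0, 3, 1, 3, 2, 0, 2],
  [2, 3, 1, 2, 1, 3, 1, 3, 0, 3, 2, 1, 0, 3, 1, 3, 0, 2, 1, 0, 3, 0, 2, 1, 2, 1, 0, 2, 1, 0],
  [3, 1, 3, 1, 0, 1, 2, 1, 2, 1, 2, 0, 2, 1, 2, 0, 3, 2, 1, 3, 0, 2, 1, 3, 2, 1, 2, 1],
  [0, 1, 3, 2, 1, 2, 0, 1, 3, 1, 2, 1, 0, 3, 2, 1, 3, 0, 2, 1, 0, 2, 1, 0, 3, 2, 0],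
  [2, 0, 1, 2, 3, 2, 1, 3, 2, 1, 0, 2, 1, 3, 2, 1, 0, 3, 1, 2, 1, 0, 3, 2, 1, 0, 2, 1],
  [3, 2, 1, 3, 2, 0, 2, 1, 2, 1, 0, 2, 1, 2, 0, 2, 1, 3, 1, 2, 0, 3, 2],
  [3, 1, 3, 2, 0, 2, 1, 3, 1, 2, 0, 3, 1, 0, 2, 1, 3, 0, 2],
  [1, 3, 1, 0, 2, 1, 2, 0, 1, 2, 0, 3, 2, 1, 2, 1, 3, 2, 0, 2, 1, 2, 0, 3, 1, 0, 3, 1, 2],
  [3, 1, 3, 1, 3, 2, 0, 2, 3, 2, 0, 1, 3, 0, 2, 1, 2, 0, 2, 1, 0, 2, 1, 0, 2, 1, 3, 0, 2],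
  [3, 2, 1, 0, 3, 0, 2, 3, 0, 3, 0, 1, 2, 0, 3, 1, 0, 2, 1, 3, 2, 1, 3, 2, 0, 2, 1, 2, 1, 0, 2, 1, 3, 0],
  [2, 3, 2, 1, 3, 2, 1, 0, 1, 3, 1, 2, 3, 1, 3, 1, 0, 3, 1, 2, 1, 0, 2, 0, 3, 1, 2, 1, 0, 3],
  [2, 3, 2, 1, 2, 3, 0, 2, 0, 3, 1, 2, 1, 3, 0, 2, 1, 2, 1, 0, 3, 0, 2, 1, 2, 1, 2, 0, 3, 0],
  [1, 2, 1, 0, 3, 1, 0, 3, 2, 1, 2, 0, 2, 1, 3, 2, 1, 3, 1, 0, 2, 1, 0, 3, 2, 1, 2],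
  [0, 1, 2, 1, 0, 3, 0, 3, 1, 2, 1, 3, 1, 3, 2, 3, 2, 1, 0, 3, 1, 2, 0, 2, 1, 0, 2, 1, 0, 2, 1, 3, 1, 0],
  [2, 1, 0, 3, 0, 1, 2, 3, 0, 1, 0, 2, 0, 3, 1, 2, 1, 3, 1, 3, 1, 0, 2, 1, 2, 0, 3, 2, 1, 2],
  [2, 0, 3, 1, 2, 1, 0, 3, 0, 2, 1, 3, 1, 2, 0, 3, 2, 1, 3],
  [2, 3, 0, 2, 1, 3, 0, 1, 2, 3, 0, 2, 3, 1, 1, 0, 3, 0, 2, 1, 2, 1, 0, 2, 1, 2, 0, 3, 2, 1, 3, 2],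
  [3, 1, 2, 1, 3, 2, 1, 2, 0, 3, 1, 3, 2, 1, 3, 1, 2, 0, 2, 1, 0, 2, 1, 0, 3, 2, 1],
  [0, 3, 0, 3, 2, 1, 2, 0, 2, 1, 2, 1, 0, 0, 3, 2, 1, 0, 3, 1, 0, 2, 0, 3, 1, 3, 0, 2, 1, 2, 1, 0],
  [1, 2, 1, 0, 3, 2, 0, 1, 2, 0, 3, 1, 0, 1, 0, 2, 0, 3, 1, 2, 1, 0, 2, 1, 0, 2, 1, 2, 1, 0, 3, 0],
  [3, 2, 3, 1, 3, 0, 3, 1, 3, 1, 0, 3, 1, 3, 2, 1, 2, 0, 2, 1, 3, 1, 0, 2, 0, 3, 1, 3, 1],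
  [1, 0, 2, 3, 2, 0, 2, 1, 0, 3, 1, 3, 2, 0, 2, 1, 2, 1, 3, 0, 2, 1, 2, 0, 3, 2, 1, 3, 1, 2, 0],
  [0, 2, 1, 2, 1, 0, 2, 0, 3, 1, 0, 2, 1, 0, 2, 1, 3, 2, 1, 0, 3, 0, 2, 1, 2, 1, 2, 0, 2, 1, 0, 3],
  [0, 2, 1, 2, 1, 3, 1, 2, 0, 3, 1, 2, 0, 3, 2, 1, 3, 1, 0, 2, 1, 0, 3, 2, 1],
  [2, 0, 2, 3, 1, 2, 1, 3, 2, 1, 0, 2, 1, 0, 2, 0, 3, 1, 3, 2, 1, 2, 0, 2, 1, 3, 2, 1, 3],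
  [0, 1, 3, 0, 3, 0, 1, 2, 0, 1, 3, 2, 0, 3, 1, 2, 0, 2, 1, 2, 0, 3, 1, 3, 0, 2, 1, 0, 2, 1, 3, 0, 2, 0],
  [0, 1, 3, 0, 2, 0, 3, 2, 1, 0, 1, 3, 0, 1, 2, 1, 0, 3, 1, 3, 2, 0, 2, 1, 3, 1, 0, 2, 1, 3, 1, 0],
  [3, 1, 2, 3, 1, 2, 1, 2, 0, 2, 1, 2, 1, 0, 2, 1, 2, 1, 0, 2, 1, 2, 0, 2, 1, 3, 0],
  [0, 2, 3, 1, 2, 0, 1, 3, 2, 1, 0, 3, 1, 3, 2, 1, 0, 3, 1, 2, 1, 3, 2, 1, 0, 2, 1, 0],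
  [3, 0, 3, 2, 3, 1, 0, 3, 0, 2, 0, 3, 0, 2, 1, 3, 0, 2, 1, 2, 0, 3, 2, 1, 3, 0, 2, 1, 3, 1],
  [0, 1, 3, 2, 1, 0, 3, 0, 2, 3, 2, 1, 3, 2, 1, 0, 3, 2, 1, 2, 0, 2, 1, 2, 1, 0, 2, 1],
  [2, 1, 3, 0, 1, 0, 3, 0, 2, 0, 3, 1, 3, 1, 0, 2, 0, 2, 1, 2, 1, 3, 1, 0, 3, 1, 3, 2, 1, 2],
  [2, 1, 3, 2, 1, 3, 2, 3, 1, 3, 0, 2, 3, 2, 1, 2, 1, 3, 0, 2, 1, 0, 3, 2, 1, 2, 0, 3, 2, 1, 2, 0, 2],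
  [0, 1, 3, 1, 3, 1, 3, 0, 3, 0, 2, 1, 3, 1, 0, 2, 1, 2, 0, 2, 1, 3, 1, 3, 0, 2],
  [2, 0, 3, 0, 2, 1, 2, 0, 3, 2, 0, 1, 3, 1, 0, 3, 0, 2, 1, 2, 1, 0, 2, 1, 2, 1, 0, 2, 1, 3, 1],
  [1, 3, 2, 1, 3, 1, 2, 0, 3, 1, 3, 1, 0, 2, 1, 0, 3, 1, 2, 0, 2, 1, 2, 0, 2],
  [0, 2, 0, 3, 1, 2, 1, 2, 0, 2, 3, 1, 2, 1, 3, 0, 2, 1, 0, 2, 1, 0, 3, 2, 1, 0, 3, 1, 2],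
  [1, 0, 1, 3, 0, 2, 0, 3, 2, 3, 0, 1, 0, 3, 1, 3, 2, 1, 2, 0, 2, 1, 0, 2, 1, 3, 1, 0, 3, 1, 0],
  [3, 0, 2, 0, 1, 2, 3, 1, 3, 1, 3, 0, 1, 0, 0, 2, 1, 3, 1, 2, 1, 0, 3, 1, 2, 0, 3, 2, 1, 2, 0, 3],
  [0, 1, 2, 3, 2, 1, 2, 0, 3, 1, 3, 2, 0, 3, 1, 3, 0, 2, 1, 0, 3, 2, 1, 0, 2, 0, 3, 1],
  [2, 3, 2, 3, 2, 1, 3, 1, 0, 1, 3, 2, 1, 0, 3, 1, 0, 2, 1, 3, 2, 1, 0, 2, 1, 3, 2, 0, 2, 1],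
  [1, 2, 3, 1, 2, 3, 0, 2, 1, 2, 3, 1, 3, 1, 0, 3, 1, 2, 1, 3, 2, 1, 0, 2, 1, 0, 2, 1, 3],
  [3, 0, 1, 2, 1, 3, 1, 0, 2, 0, 3, 2, 1, 2, 1, 0, 2, 1, 2, 0, 3, 1, 0, 2, 1, 2, 0, 3, 2, 1],
  [3, 2, 1, 2, 0, 1, 0, 1, 0, 2, 1, 0, 2, 0, 1, 3, 0, 3, 1, 3, 1, 2, 1, 0, 3, 2, 1, 3, 1, 0, 2, 1, 3, 2, 1],
  [2, 3, 1, 3, 1, 0, 2, 1, 2, 0, 2, 1, 0, 2, 1, 0, 0, 2, 1, 3, 2, 1, 3, 2, 0, 2, 1, 3, 1, 0, 2, 1, 0, 2],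
  [3, 2, 0, 1, 2, 3, 1, 2, 0, 1, 2, 1, 3, 1, 2, 0, 3, 1, 3, 1, 2, 0, 2, 1, 3, 2, 1, 3, 1, 0, 2],
  [1, 2, 3, 1, 3, 0, 3, 2, 0, 1, 3, 2, 0, 3, 2, 3, 1, 3, 1, 2, 0, 2, 1, 3, 1, 3, 1, 2, 0, 2, 1, 3, 2],
  [2, 0, 2, 0, 3, 2, 3, 0, 1, 2, 3, 0, 2, 1, 0, 0, 2, 1, 0, 3, 1, 2, 1, 3, 0, 2, 1, 3, 0, 2, 1, 3, 2, 1],
  [0, 2, 3, 0, 3, 0, 3, 1, 2, 0, 1, 3, 1, 3, 2, 1, 0, 3, 2, 1, 3, 0, 2, 1, 3, 2, 0, 2],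
  [3, 0, 2, 1, 2, 1, 3, 1, 0, 2, 2, 1, 3, 1, 2, 0, 2, 1, 2, 0, 3, 1, 3, 1, 0, 3, 2, 1],
  [1, 2, 3, 1, 3, 0, 3, 1, 0, 1, 3, 3, 1, 3, 0, 2, 1, 2, 0, 2, 1, 0, 3, 1, 0, 2, 1, 2, 0, 3],
  [3, 0, 2, 1, 0, 3, 1, 3, 2, 1, 2, 1, 0, 2, 1, 3, 2, 1, 3, 0, 2, 1, 3, 0],
  [2, 1, 3, 2, 1, 3, 1, 0, 2, 1, 2, 0, 2, 1, 3, 1, 2, 1, 0, 3, 1, 2, 1, 3, 1, 0, 3, 1, 3, 2],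
  [1, 0, 2, 1, 3, 2, 1, 0, 1, 2, 0, 1, 0, 3, 1, 0, 2, 0, 3, 1, 2, 1, 3, 0, 2, 1, 3, 1, 3, 2],
  [2, 0, 1, 2, 3, 1, 0, 3, 1, 0, 1, 2, 0, 2, 1, 0, 2, 1, 0, 3, 2, 1, 3, 0, 2, 1, 3, 0],
  [3, 0, 3, 2, 3, 1, 2, 1, 2, 0, 3, 1, 2, 1, 3, 2, 1, 0, 2, 1, 0, 3, 1, 3, 1],
  [3, 1, 2, 3, 2, 0, 1, 2, 1, 0, 3, 0, 1, 3, 0, 3, 0, 2, 1, 3, 0, 2, 1, 2, 1, 2, 1, 0, 3],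
  [1, 2, 1, 0, 1, 2, 0, 2, 1, 3, 0, 2, 1, 3, 1, 3, 0, 2, 1, 2, 1, 0, 3, 2, 1, 0, 2, 0, 3],
  [0, 2, 1, 0, 1, 2, 1, 2, 1, 2, 3, 1, 0, 3, 1, 2, 0, 2, 1, 0, 3, 2, 1, 3, 0, 2, 1, 2, 1],
  [1, 3, 1, 3, 2, 1, 0, 2, 2, 1, 3, 1, 2, 0, 3, 1, 3, 2, 0, 2, 1, 2, 1, 0, 2, 0, 3],
  [2, 3, 1, 3, 0, 2, 0, 2, 1, 0, 3, 1, 0, 2, 1, 3, 2, 0, 2, 1, 2, 0, 3, 1],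
  [3, 2, 0, 3, 1, 2, 1, 0, 2, 1, 2, 1, 0, 2, 1, 2, 1, 0, 3, 2, 1, 3],
  [2, 0, 2, 1, 2, 1, 3, 0, 1, 0, 1, 0, 1, 3, 1, 3, 1, 2, 0, 2, 1, 2, 0, 3, 2, 1, 2, 0, 2, 1, 2, 0],
  [3, 0, 3, 1, 0, 3, 0, 2, 1, 2, 1, 2, 1, 0, 2, 1, 3, 1, 0, 3, 2, 1, 0, 2, 1, 3],
  [1, 0, 2, 0, 3, 2, 0, 3, 1, 2, 1, 3, 1, 0, 2, 1, 0, 2, 1, 3, 1, 3, 1, 0, 2],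
  [0, 2, 1, 0, 2, 3, 0, 1, 2, 0, 2, 1, 3, 1, 2, 0, 2, 1, 0, 3, 1, 3, 0, 2, 1, 0, 2],
  [3, 2, 3, 0, 2, 1, 0, 2, 0, 2, 1, 0, 3, 1, 0, 3, 2, 1, 3, 1, 0, 2, 1, 3, 2],
  [1, 0, 1, 3, 0, 1, 3, 2, 0, 1, 2, 3, 1, 2, 1, 3, 0, 2, 1, 2, 0, 3, 2, 1, 2, 1, 2, 1, 0],
  [1, 2, 1, 3, 0, 2, 1, 0, 3, 1, 2, 0, 3, 1, 2, 0, 3, 1, 2, 0, 3, 1, 3, 1, 0],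
  [1, 3, 1, 2, 0, 1, 2, 3, 2, 1, 2, 3, 0, 3, 2, 1, 3, 2, 0, 2, 1, 3, 1, 2, 0, 2, 1, 0, 3, 2, 1, 3],
  [1, 0, 3, 1, 3, 1, 3, 1, 0, 1, 3, 2, 1, 2, 1, 0, 3, 2, 1, 2, 1, 0, 3, 1, 3, 2, 1, 3]]

end CfsgLib.Spor.JThreeOut
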